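import Cfsg.Agent.Lib.Fusion.NPC
import Cfsg.Agent.Lib.Fusion.BurnsideFusion
import Cfsg.Agent.Lib.Fusion.SolvableBalance
import Cfsg.Agent.Lib.Fusion.WeakClosedTools
import Cfsg.Agent.Lib.SSF.Main
import Cfsg.Agent.S0018
import Cfsg.Agent.S0483
import Cfsg.Agent.S0949
import Cfsg.Agent.S1279
import Cfsg.Agent.Lib.Small.SL2.Classes
import Cfsg.Agent.Lib.OddChar.FT.NoMinimal
import Cfsg.Agent.Lib.OddChar.FT.Final

/-!
# Simple groups with abelian Sylow two-subgroups and solvable centralizers of involutions: local part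

Either a strongly embedded normalizer, or Sylow subgroups of order four.
-/

set_option autoImplicit false
set_option linter.style.haveILetI false
set_option linter.unusedSectionVars false

open scoped Pointwise

namespace Cfsg.Agent.Bender.AbelianSolvable

open Cfsg Cfsg.Agent Cfsg.Agent.Fusion

universe u

variable {X : Type u} [Group X] [Finite X]

/-- Groups of odd order are solvable. -/
theorem odd_solvable' {K : Type u} [Group K] [Finite K] (h : Odd (Nat.card K)) : Group.IsSolvable K :=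
  Cfsg.Agent.OddFT.odd_solvable_of_no_min Cfsg.Agent.OddFT.no_minSimple h

/-- An abelian subgroup commutes. -/
theorem comm_of {S : Subgroup X} (hab : IsMulCommutative S) {a b : X} (ha : a ∈ S) (hb : b ∈ S) :
    a * b = b * a :=
  congrArg Subtype.val (hab.is_comm.comm ⟨a, ha⟩ ⟨b, hb⟩)

/-- The elements of square one of an abelian subgroup. -/
def om (S : Subgroup X) (hab : IsMulCommutative S) : Subgroup X where
  carrier := {x | x ∈ S ∧ x * x = 1}
  one_mem' := ⟨one_mem _, one_mul 1⟩
  mul_mem' := by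
    rintro a c ⟨ha, ha2⟩ ⟨hc, hc2⟩
    refine ⟨mul_mem ha hc, ?_⟩
    rw [show a * c * (a * c) = a * (c * a) * c by group, ← comm_of hab ha hc,
      show a * (a * c) * c = a * a * (c * c) by group, ha2, hc2, one_mul]
  inv_mem' := by
    rintro a ⟨ha, ha2⟩
    exact ⟨inv_mem ha, by rw [← mul_inv_rev, ha2, inv_one]⟩

theorem mem_om {S : Subgroup X} {hab : IsMulCommutative S} {x : X} : x ∈ om S hab ↔ x ∈ S ∧ x * x = 1 := Iff.rfl

/-- No normal two-complement in a non-abelian simple group of even order. -/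
theorem not_hnpc [IsSimpleGroup X] (hna : ∃ a b : X, a * b ≠ b * a) (h2 : 2 ∣ Nat.card X) :
    ¬ HasNormalPComplement 2 X := by
  haveI : Fact (Nat.Prime 2) := ⟨Nat.prime_two⟩
  intro h
  obtain ⟨P⟩ : Nonempty (Sylow 2 X) := inferInstance
  obtain ⟨N, hN, hc⟩ := hnpc_exists_complement h P
  rcases hN.eq_bot_or_eq_top with rfl | rfl
  · have hcard := hc.card_mul
    rw [Subgroup.card_bot, one_mul] at hcard
    have hp : IsPGroup 2 X := by
      obtain ⟨k, hk⟩ := IsPGroup.iff_card.1 P.isPGroup'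
      exact IsPGroup.iff_card.2 ⟨k, hcard ▸ hk⟩
    haveI : Nontrivial X := IsSimpleGroup.toNontrivial
    haveI := hp.center_nontrivial
    rcases (inferInstance : (Subgroup.center X).Normal).eq_bot_or_eq_top with hb | ht
    · exact (Subgroup.nontrivial_iff_ne_bot _).1 inferInstance hb
    · obtain ⟨a, b, hne⟩ := hna
      exact hne (Subgroup.mem_center_iff.1 (ht ▸ Subgroup.mem_top b) a)
  · have hcop := coprime_card_of_isComplement' hc
    rw [coprime_card_iff_not_dvd, Subgroup.card_top] at hcop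
    exact hcop h2

variable (T : Sylow 2 X)

/-- The normalizer of `T` is `T` extended by a group of odd order. -/
theorem mem_of_two {h : X} (hh : h ∈ Subgroup.normalizer ((T : Subgroup X) : Set X)) {k : ℕ}
    (hk : orderOf h = 2 ^ k) : h ∈ (T : Subgroup X) := by
  haveI : Fact (Nat.Prime 2) := ⟨Nat.prime_two⟩
  have hz : IsPGroup 2 (Subgroup.zpowers h) := IsPGroup.of_card (n := k) (by rw [Nat.card_zpowers, hk])
  have hsup : IsPGroup 2 ((T : Subgroup X) ⊔ Subgroup.zpowers h : Subgroup X) :=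
    T.isPGroup'.to_sup_of_normal_left' hz (Subgroup.zpowers_le.2 hh)
  rw [← T.is_maximal' hsup le_sup_left]
  exact Subgroup.mem_sup_right (Subgroup.mem_zpowers h)

/-- The two-part of an element of the normalizer lies in `T`, the odd part is a power. -/
theorem exists_odd_part {h : X} (hh : h ∈ Subgroup.normalizer ((T : Subgroup X) : Set X)) :
    ∃ u ∈ (T : Subgroup X), ∃ w ∈ Subgroup.normalizer ((T : Subgroup X) : Set X),
      Odd (orderOf w) ∧ w ∈ Subgroup.zpowers h ∧ h = u * w := by
  obtain ⟨k, m, hm, hord⟩ := Nat.exists_eq_two_pow_mul_odd (orderOf_pos h).ne'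
  have hcop : (2 ^ k).Coprime m := (Nat.coprime_two_left.2 hm).pow_left k
  obtain ⟨a, b, hb⟩ : ∃ a b : ℤ, (2 ^ k : ℤ) * a + (m : ℤ) * b = 1 := by
    have := Nat.gcd_eq_gcd_ab (2 ^ k) m
    rw [hcop.gcd_eq_one] at this
    exact ⟨Nat.gcdA (2 ^ k) m, Nat.gcdB (2 ^ k) m, by exact_mod_cast this.symm⟩
  refine ⟨h ^ ((m : ℤ) * b), ?_, h ^ ((2 ^ k : ℤ) * a), zpow_mem hh _, ?_, zpow_mem (Subgroup.mem_zpowers h) _, ?_⟩
  · obtain ⟨j, -, hj⟩ := (Nat.dvd_prime_pow Nat.prime_two).1
      (show orderOf (h ^ ((m : ℤ) * b)) ∣ 2 ^ k by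
        refine orderOf_dvd_of_pow_eq_one ?_
        rw [← zpow_natCast, ← zpow_mul, show (m : ℤ) * b * ((2 ^ k : ℕ) : ℤ) = (orderOf h : ℤ) * b by
          rw [hord]; push_cast; ring, zpow_mul, zpow_natCast, pow_orderOf_eq_one, one_zpow])
    exact mem_of_two T (zpow_mem hh _) hj
  · refine hm.of_dvd_nat (orderOf_dvd_of_pow_eq_one ?_)
    rw [← zpow_natCast, ← zpow_mul, show (2 ^ k : ℤ) * a * (m : ℤ) = (orderOf h : ℤ) * a by
      rw [hord]; push_cast; ring, zpow_mul, zpow_natCast, pow_orderOf_eq_one, one_zpow]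
  · rw [← zpow_add, show (m : ℤ) * b + (2 ^ k : ℤ) * a = 1 by rw [add_comm]; exact hb, zpow_one]

variable (hab : IsMulCommutative (T : Subgroup X))
include hab

theorem le_centralizer_self : (T : Subgroup X) ≤ Subgroup.centralizer ((T : Subgroup X) : Set X) :=
  fun _ ha => Subgroup.mem_centralizer_iff.2 fun _ hb => comm_of hab hb ha

theorem T_le_centralizer {a : X} (ha : a ∈ (T : Subgroup X)) :
    (T : Subgroup X) ≤ Subgroup.centralizer ({a} : Set X) :=
  fun _ hb => Subgroup.mem_centralizer_singleton_iff.2 (comm_of hab hb ha)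

theorem om_normal {n : X} (hn : n ∈ Subgroup.normalizer ((T : Subgroup X) : Set X)) {a : X}
    (ha : a ∈ om (T : Subgroup X) hab) : n * a * n⁻¹ ∈ om (T : Subgroup X) hab :=
  ⟨(Subgroup.mem_normalizer_iff.1 hn a).1 ha.1, by rw [conj_mul, ha.2, mul_one, mul_inv_cancel]⟩

theorem orderOf_om {a : X} (ha : a ∈ om (T : Subgroup X) hab) (ha1 : a ≠ 1) : orderOf a = 2 :=
  haveI : Fact (Nat.Prime 2) := ⟨Nat.prime_two⟩
  orderOf_eq_prime (by rw [pow_two]; exact ha.2) ha1

theorem om_el : IsElementaryAbelian 2 (om (T : Subgroup X) hab) :=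
  ⟨⟨⟨fun a b => Subtype.ext (comm_of hab a.2.1 b.2.1)⟩⟩, fun a ha => by rw [pow_two]; exact ha.2⟩

/-- An element of odd order of the normalizer fixing the involutions of `T` centralizes it. -/
theorem centralizes_of_odd {h : X} (hh : h ∈ Subgroup.normalizer ((T : Subgroup X) : Set X))
    (hodd : Odd (orderOf h)) (hfix : ∀ a ∈ om (T : Subgroup X) hab, h * a * h⁻¹ = a) :
    h ∈ Subgroup.centralizer ((T : Subgroup X) : Set X) := by
  haveI : Fact (Nat.Prime 2) := ⟨Nat.prime_two⟩
  refine Subgroup.mem_centralizer_iff.2 fun v hv => ?_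
  refine (commute_of_coprime_fixed_omega T.isPGroup' (fun a ha b hb => comm_of hab ha hb) hh
    (n := orderOf h) (fun h2 => Nat.not_even_iff_odd.2 hodd (even_iff_two_dvd.2 h2))
    (fun w _ => by rw [pow_orderOf_eq_one, one_mul, mul_one]) (fun w hw hw2 => ?_) v hv).symm
  exact (mul_inv_eq_iff_eq_mul.1 (hfix w ⟨hw, by rwa [← pow_two]⟩))

/-- The normalizer of an abelian Sylow two-subgroup is solvable. -/
theorem normalizer_solvable :
    Group.IsSolvable ↥(Subgroup.normalizer ((T : Subgroup X) : Set X)) := by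
  haveI : Fact (Nat.Prime 2) := ⟨Nat.prime_two⟩
  set N := Subgroup.normalizer ((T : Subgroup X) : Set X)
  set T₁ : Subgroup N := (T : Subgroup X).subgroupOf N with hT₁
  haveI : T₁.Normal := Subgroup.normal_in_normalizer
  haveI : IsMulCommutative T₁ := ⟨⟨fun a b => Subtype.ext (Subtype.ext (comm_of hab a.2 b.2))⟩⟩
  letI : CommGroup T₁ := { (inferInstance : Group T₁) with mul_comm := fun a b => mul_comm' a b }
  haveI : Group.IsSolvable T₁ := Group.isSolvable_of_comm mul_comm
  haveI : Group.IsSolvable (N ⧸ T₁) := odd_solvable' (by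
    rw [← Subgroup.index_eq_card]
    refine Nat.not_even_iff_odd.1 fun h => ?_
    refine (T.not_dvd_index) ((even_iff_two_dvd.1 h).trans ?_)
    have hm := Subgroup.relIndex_mul_index (Subgroup.le_normalizer : (T : Subgroup X) ≤ N)
    rw [← hm]
    exact dvd_mul_right _ _)
  exact Group.isSolvable_of_ker_le_range T₁.subtype (QuotientGroup.mk' T₁) (by simp)

/-- Some involution of `T` has conjugates: the odd part of the automizer is non-trivial. -/
theorem exists_moving [IsSimpleGroup X] (hna : ∃ a b : X, a * b ≠ b * a) (h2 : 2 ∣ Nat.card X) :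
    ∃ w ∈ Subgroup.normalizer ((T : Subgroup X) : Set X), Odd (orderOf w) ∧
      ∃ a ∈ om (T : Subgroup X) hab, w * a * w⁻¹ ≠ a := by
  haveI : Fact (Nat.Prime 2) := ⟨Nat.prime_two⟩
  by_contra h
  push Not at h
  refine not_hnpc hna h2 (hnpc_of_normalizer_le_centralizer T fun g hg => ?_)
  obtain ⟨u, hu, w, hw, hwo, -, rfl⟩ := exists_odd_part T hg
  exact mul_mem (le_centralizer_self T hab hu) (centralizes_of_odd T hab hw hwo (h w hw hwo))

/-- The rank is at least two. -/
theorem two_lt_card_om [IsSimpleGroup X] (hna : ∃ a b : X, a * b ≠ b * a) (h2 : 2 ∣ Nat.card X) :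
    2 < Nat.card (om (T : Subgroup X) hab) := by
  by_contra hle
  obtain ⟨w, hw, -, a, ha, hne⟩ := exists_moving T hab hna h2
  haveI := Fintype.ofFinite (om (T : Subgroup X) hab)
  have ha1 : a ≠ 1 := fun e => hne (by rw [e]; group)
  have hb := om_normal T hab hw ha
  have hb1 : w * a * w⁻¹ ≠ 1 := fun e => ha1 (conj_eq_one_iff.1 e)
  refine hle ?_
  rw [Nat.card_eq_fintype_card]
  exact Fintype.two_lt_card_iff.2 ⟨1, ⟨a, ha⟩, ⟨_, hb⟩, fun e => ha1 (congrArg Subtype.val e).symm,
    fun e => hb1 (congrArg Subtype.val e).symm, fun e => hne (congrArg Subtype.val e).symm⟩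

/-- A Sylow two-subgroup with exactly three involutions is a four-group. -/
theorem sq_one_of_three [IsSimpleGroup X] (hna : ∃ a b : X, a * b ≠ b * a) (h2 : 2 ∣ Nat.card X)
    (h4 : Nat.card (om (T : Subgroup X) hab) = 4) : ∀ u ∈ (T : Subgroup X), u * u = 1 := by
  classical
  haveI : Fact (Nat.Prime 2) := ⟨Nat.prime_two⟩
  obtain ⟨w, hw, hwo, a₀, ha₀, hne₀⟩ := exists_moving T hab hna h2
  letI : CommGroup (T : Subgroup X) :=
    { (inferInstance : Group (T : Subgroup X)) with mul_comm := fun a b => hab.is_comm.comm a b }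
  -- every non-trivial involution is moved
  have hmove : ∀ a ∈ om (T : Subgroup X) hab, a ≠ 1 → w * a * w⁻¹ ≠ a := by
    intro a ha ha1 he
    have hb := om_normal T hab hw ha₀
    have hc := mul_mem ha₀ hb
    set b := w * a₀ * w⁻¹ with hbdef
    have ha₀1 : a₀ ≠ 1 := fun e => hne₀ (by rw [e, mul_one, mul_inv_cancel] at hbdef; rw [hbdef, e])
    have hb1 : b ≠ 1 := fun e => ha₀1 (conj_eq_one_iff.1 e)
    have hne : a ≠ a₀ := fun e => hne₀ (by rw [hbdef, ← e]; exact he)
    have hneb : a ≠ b := fun e => hne₀ (by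
      have h' : w * a * w⁻¹ = w * a₀ * w⁻¹ := (he.trans e).trans hbdef
      rw [mul_left_inj, mul_right_inj] at h'
      exact absurd h' hne)
    -- `w` fixes `a`, so squares to the identity on the other two
    haveI := Fintype.ofFinite (om (T : Subgroup X) hab)
    have huniv : (Finset.univ : Finset (om (T : Subgroup X) hab)) = {1, ⟨a, ha⟩, ⟨a₀, ha₀⟩, ⟨b, hb⟩} := by
      symm
      refine Finset.eq_univ_of_card _ ?_
      rw [← Nat.card_eq_fintype_card, h4, Finset.card_insert_of_notMem, Finset.card_insert_of_notMem,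
        Finset.card_insert_of_notMem, Finset.card_singleton]
      · simp only [Finset.mem_singleton, Subtype.mk.injEq]
        exact Ne.symm hne₀
      · simp only [Finset.mem_insert, Finset.mem_singleton, Subtype.mk.injEq, not_or]
        exact ⟨hne, hneb⟩
      · simp only [Finset.mem_insert, Finset.mem_singleton, Subtype.ext_iff, OneMemClass.coe_one, not_or]
        exact ⟨Ne.symm ha1, Ne.symm ha₀1, Ne.symm hb1⟩
    have hwb : w * b * w⁻¹ = a₀ := by
      have hm : (⟨_, om_normal T hab hw hb⟩ : om (T : Subgroup X) hab) ∈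
          (Finset.univ : Finset (om (T : Subgroup X) hab)) := Finset.mem_univ _
      rw [huniv] at hm
      simp only [Finset.mem_insert, Finset.mem_singleton, Subtype.ext_iff, OneMemClass.coe_one] at hm
      rcases hm with h | h | h | h
      · exact absurd (conj_eq_one_iff.1 h) hb1
      · have h' : w * b * w⁻¹ = w * a * w⁻¹ := h.trans he.symm
        rw [mul_left_inj, mul_right_inj] at h'
        exact absurd h'.symm hneb
      · exact h
      · rw [hbdef, mul_left_inj, mul_right_inj] at h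
        exact absurd h hne₀
    have hev : ∀ j : ℕ, w ^ (2 * j) * a₀ * (w ^ (2 * j))⁻¹ = a₀ := by
      intro j
      induction j with
      | zero => simp
      | succ j ih =>
        rw [show 2 * (j + 1) = 2 + 2 * j by omega, pow_add, pow_two]
        calc w * w * w ^ (2 * j) * a₀ * (w * w * w ^ (2 * j))⁻¹
            = w * (w * (w ^ (2 * j) * a₀ * (w ^ (2 * j))⁻¹) * w⁻¹) * w⁻¹ := by group
          _ = a₀ := by rw [ih, ← hbdef, hwb]
    obtain ⟨j, hj⟩ := hwo
    refine hne₀ ?_
    have := hev (j + 1)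
    rwa [show 2 * (j + 1) = (2 * j + 1) + 1 by omega, pow_succ, ← hj, pow_orderOf_eq_one, one_mul] at this
  intro u₀ hu₀
  by_contra hu₀2
  -- an element of maximal order
  obtain ⟨x, hxmax⟩ := Monoid.exists_orderOf_eq_exponent (G := (T : Subgroup X))
    (Monoid.ExponentExists.of_finite)
  obtain ⟨k, hk⟩ := IsPGroup.iff_orderOf.1 T.isPGroup' x
  have hk2 : 2 ≤ k := by
    by_contra hlt
    refine hu₀2 ?_
    have h1 := Monoid.pow_exponent_eq_one (⟨u₀, hu₀⟩ : (T : Subgroup X))
    rw [← hxmax, hk] at h1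
    have h2 : (⟨u₀, hu₀⟩ : (T : Subgroup X)) ^ 2 = 1 := by
      interval_cases k
      · rw [pow_zero, pow_one] at h1; rw [h1, one_pow]
      · rwa [pow_one] at h1
    rw [pow_two] at h2
    exact congrArg Subtype.val h2
  set y : (T : Subgroup X) := ⟨w * x * w⁻¹, (Subgroup.mem_normalizer_iff.1 hw x).1 x.2⟩ with hy
  let f : Multiplicative (ZMod (2 ^ k) × ZMod (2 ^ k)) →* (T : Subgroup X) :=
    AddMonoidHom.toMultiplicativeLeft (AddMonoidHom.coprod
      (ZMod.lift (2 ^ k) ⟨zmultiplesHom (Additive (T : Subgroup X)) (Additive.ofMul x), by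
        rw [zmultiplesHom_apply, natCast_zsmul, ← ofMul_pow, ← hk, pow_orderOf_eq_one, ofMul_one]⟩)
      (ZMod.lift (2 ^ k) ⟨zmultiplesHom (Additive (T : Subgroup X)) (Additive.ofMul y), by
        rw [zmultiplesHom_apply, natCast_zsmul, ← ofMul_pow, show y ^ (2 ^ k) = 1 from Subtype.ext (by
          rw [Subgroup.coe_pow, hy, conj_pow, ← Subgroup.coe_pow, ← hk, pow_orderOf_eq_one,
            OneMemClass.coe_one, mul_one, mul_inv_cancel]), ofMul_one]⟩))
  haveI : NeZero (2 ^ k) := ⟨(pow_pos (by norm_num) k).ne'⟩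
  have hf : ∀ i j : ZMod (2 ^ k), f (Multiplicative.ofAdd (i, j)) = x ^ i.val * y ^ j.val := by
    intro i j
    simp only [f, AddMonoidHom.coe_toMultiplicativeLeft, Function.comp_apply, toAdd_ofAdd, AddMonoidHom.coprod_apply,
      toMul_add]
    conv_lhs => rw [← ZMod.natCast_zmod_val i, ← ZMod.natCast_zmod_val j, ← Int.cast_natCast i.val,
      ← Int.cast_natCast j.val]
    rw [ZMod.lift_coe, ZMod.lift_coe, zmultiplesHom_apply, zmultiplesHom_apply, natCast_zsmul, natCast_zsmul,
      toMul_nsmul, toMul_nsmul, toMul_ofMul, toMul_ofMul]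
  have hfinj : Function.Injective f := by
    rw [injective_iff_map_eq_one]
    intro m hm
    obtain ⟨⟨i, j⟩, rfl⟩ := Multiplicative.ofAdd.surjective m
    rw [hf] at hm
    have hxi : (x : (T : Subgroup X)) ^ i.val = 1 := by
      by_contra hne
      obtain ⟨l, hl⟩ := IsPGroup.iff_orderOf.1 T.isPGroup' (x ^ i.val)
      obtain ⟨l', rfl⟩ : ∃ l', l = l' + 1 := ⟨l - 1, by
        rcases l with _ | l
        · exact absurd (orderOf_eq_one_iff.1 (by simpa using hl)) hne
        · rfl⟩
      set z := ((x : (T : Subgroup X)) ^ i.val) ^ 2 ^ l' with hzdef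
      have hzo : orderOf z = 2 := by
        rw [hzdef, orderOf_pow, hl, Nat.gcd_eq_right (pow_dvd_pow 2 (Nat.le_succ l')), pow_succ,
          Nat.mul_div_cancel_left _ (pow_pos (by norm_num) l')]
      have hzA : (z : X) ∈ om (T : Subgroup X) hab := ⟨z.2, by
        have h := pow_orderOf_eq_one z
        rw [hzo, pow_two] at h
        exact congrArg Subtype.val h⟩
      have hz1 : (z : X) ≠ 1 := fun e => by
        rw [show z = 1 from Subtype.ext e, orderOf_one] at hzo; omega
      -- `z` is a power of `x` and of `y`, and `w` moves it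
      have hzy : z = ((y : (T : Subgroup X)) ^ j.val)⁻¹ ^ 2 ^ l' := by
        rw [hzdef, eq_inv_of_mul_eq_one_left hm]
      obtain ⟨p, hp⟩ : ∃ p : ℕ, z = x ^ p := ⟨i.val * 2 ^ l', by rw [hzdef, pow_mul]⟩
      obtain ⟨r, hr⟩ : ∃ r : ℤ, z = y ^ r := ⟨-((j.val : ℤ)) * (2 ^ l' : ℕ), by
        rw [hzy, zpow_mul, zpow_neg, zpow_natCast, zpow_natCast]⟩
      -- the conjugate of `x ^ r` is `z`
      have hconj : w * ((x ^ r : (T : Subgroup X)) : X) * w⁻¹ = (z : X) := by
        rw [hr, Subgroup.coe_zpow, Subgroup.coe_zpow, hy, conj_zpow]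
      have h1 : (x ^ r : (T : Subgroup X)) ^ 2 = 1 := by
        refine Subtype.ext ((conj_eq_one_iff (a := w)).1 ?_)
        rw [Subgroup.coe_pow, ← conj_pow, hconj, pow_two]
        exact hzA.2
      have hxr : x ^ r = z ∨ x ^ r = 1 := by
        have horder : orderOf x = 2 ^ k := hk
        have hxr1 : (orderOf x : ℤ) ∣ r * 2 := orderOf_dvd_iff_zpow_eq_one.2 (by
          rw [zpow_mul]; exact_mod_cast h1)
        have hxp1 : (orderOf x : ℤ) ∣ (p : ℤ) * 2 := orderOf_dvd_iff_zpow_eq_one.2 (by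
          rw [zpow_mul, zpow_natCast, ← hp]
          exact Subtype.ext (by rw [Subgroup.coe_zpow, OneMemClass.coe_one, zpow_two]; exact hzA.2))
        obtain ⟨c, hc⟩ := hxr1
        obtain ⟨d, hd⟩ := hxp1
        obtain ⟨k', rfl⟩ : ∃ k', k = k' + 1 := ⟨k - 1, by omega⟩
        rw [horder] at hc hd
        push_cast [pow_succ] at hc hd
        have hr' : r = (2 : ℤ) ^ k' * c := by linarith
        have hp' : (p : ℤ) = (2 : ℤ) ^ k' * d := by linarith
        have h2e : (x ^ ((2 : ℤ) ^ k')) ^ (2 : ℤ) = 1 := by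
          rw [← zpow_mul, ← pow_succ, show (2 : ℤ) ^ (k' + 1) = ((2 ^ (k' + 1) : ℕ) : ℤ) by push_cast; rfl,
            zpow_natCast, ← horder, pow_orderOf_eq_one]
        have hdodd : Odd d := by
          by_contra hev
          obtain ⟨e, rfl⟩ := Int.not_odd_iff_even.1 hev
          refine hz1 (by
            rw [hp, ← zpow_natCast, hp', zpow_mul, ← two_mul, zpow_mul, h2e, one_zpow]; rfl)
        have hzval : z = x ^ ((2 : ℤ) ^ k') := by
          obtain ⟨e, rfl⟩ := hdodd
          rw [hp, ← zpow_natCast, hp', zpow_mul, zpow_add, zpow_mul, h2e, one_zpow, one_mul, zpow_one]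
        rcases Int.even_or_odd c with ⟨e, rfl⟩ | ⟨e, rfl⟩
        · right
          rw [hr', zpow_mul, ← two_mul, zpow_mul, h2e, one_zpow]
        · left
          rw [hr', zpow_mul, zpow_add, zpow_mul, h2e, one_zpow, one_mul, zpow_one, hzval]
      rcases hxr with h | h
      · rw [h] at hconj
        exact hmove z hzA hz1 hconj
      · rw [h, OneMemClass.coe_one, mul_one, mul_inv_cancel] at hconj
        exact hz1 hconj.symm
    have hyj : (y : (T : Subgroup X)) ^ j.val = 1 := by rwa [hxi, one_mul] at hm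
    have hyo : orderOf y = 2 ^ k := by
      rw [← Subgroup.orderOf_coe]
      show orderOf (MulAut.conj w (x : X)) = 2 ^ k
      rw [MulEquiv.orderOf_eq, Subgroup.orderOf_coe, hk]
    have hi : i.val = 0 := Nat.eq_zero_of_dvd_of_lt ((dvd_of_eq hk.symm).trans (orderOf_dvd_of_pow_eq_one hxi)) (ZMod.val_lt i)
    have hj : j.val = 0 := Nat.eq_zero_of_dvd_of_lt ((dvd_of_eq hyo.symm).trans (orderOf_dvd_of_pow_eq_one hyj)) (ZMod.val_lt j)
    rw [(ZMod.val_eq_zero i).1 hi, (ZMod.val_eq_zero j).1 hj]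
    rfl
  -- at most `4 ^ k` elements
  have hub : ∀ n : ℕ, Nat.card {u : (T : Subgroup X) // u ^ 2 ^ n = 1} ≤ 4 ^ n := by
    intro n
    induction n with
    | zero =>
      haveI : Subsingleton {u : (T : Subgroup X) // u ^ 2 ^ 0 = 1} :=
        ⟨fun a b => Subtype.ext (by have := a.2; have := b.2; simp_all)⟩
      simpa using Finite.card_le_one_iff_subsingleton.2 this
    | succ n ih =>
      let K : Subgroup (T : Subgroup X) := (powMonoidHom (2 ^ (n + 1))).ker
      let g : K →* (T : Subgroup X) := (powMonoidHom 2).comp K.subtype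
      have h1 : Nat.card g.range ≤ 4 ^ n := by
        refine le_trans ?_ ih
        refine Nat.card_le_card_of_injective (fun u => ⟨u.1, ?_⟩) fun a b h => Subtype.ext (congrArg Subtype.val h :)
        obtain ⟨v, hv⟩ := u.2
        rw [← hv]
        show ((v : (T : Subgroup X)) ^ 2) ^ 2 ^ n = 1
        rw [← pow_mul, ← pow_succ']
        exact v.2
      have h2' : Nat.card g.ker ≤ 4 := by
        rw [← h4]
        refine Nat.card_le_card_of_injective (fun v => ⟨((v : K) : (T : Subgroup X)), ?_⟩) fun a b h =>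
          Subtype.ext (Subtype.ext (Subtype.ext (congrArg Subtype.val h :)))
        have hv : ((v : K) : (T : Subgroup X)) ^ 2 = 1 := v.2
        rw [pow_two] at hv
        exact ⟨((v : K) : (T : Subgroup X)).2, congrArg Subtype.val hv⟩
      calc Nat.card {u : (T : Subgroup X) // u ^ 2 ^ (n + 1) = 1} = Nat.card K := rfl
        _ = Nat.card g.ker * Nat.card g.range := by rw [← Subgroup.index_ker, Subgroup.card_mul_index]
        _ ≤ 4 * 4 ^ n := Nat.mul_le_mul h2' h1
        _ = 4 ^ (n + 1) := (pow_succ' 4 n).symm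
  have hcard : Nat.card (T : Subgroup X) ≤ 4 ^ k := by
    refine le_trans (le_of_eq (Nat.card_congr ?_)) (hub k)
    exact (Equiv.subtypeUnivEquiv fun u : (T : Subgroup X) =>
      (show u ^ 2 ^ k = 1 from (congrArg (u ^ ·) (hk.symm.trans hxmax)).trans (Monoid.pow_exponent_eq_one u))).symm
  have hbij : Function.Bijective f := by
    refine (Nat.bijective_iff_injective_and_card f).2 ⟨hfinj, ?_⟩
    refine le_antisymm (Nat.card_le_card_of_injective f hfinj) (hcard.trans (le_of_eq ?_))
    rw [show (4 : ℕ) = 2 * 2 by norm_num, mul_pow]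
    simp [Nat.card_eq_fintype_card]
  obtain ⟨hTn, -, -⟩ := S0949.result T k hk2 (MulEquiv.ofBijective f hbij).symm fun N hN hodd => by
    rcases hN.eq_bot_or_eq_top with h | h
    · exact h
    · subst h
      rw [Subgroup.card_top] at hodd
      exact absurd (even_iff_two_dvd.2 h2) (Nat.not_even_iff_odd.2 hodd)
  rcases hTn.eq_bot_or_eq_top with hbot | htop
  · have h := hu₀
    rw [hbot, Subgroup.mem_bot] at h
    exact hu₀2 (by rw [h, one_mul])
  · obtain ⟨a, b, hne⟩ := hna
    exact hne (comm_of hab (htop ▸ Subgroup.mem_top a) (htop ▸ Subgroup.mem_top b))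

/-- Sylow subgroups of order four: the projective special linear groups. -/
theorem four_case [IsSimpleGroup X] (hna : ∃ a b : X, a * b ≠ b * a) (h4 : Nat.card (T : Subgroup X) = 4)
    (hsq : ∀ u ∈ (T : Subgroup X), u * u = 1) :
    ∃ (F : Type) (_ : Field F) (_ : Fintype F), (Fintype.card F % 8 = 3 ∨ Fintype.card F % 8 = 5) ∧
      5 ≤ Fintype.card F ∧ Nonempty (X ≃* Matrix.ProjectiveSpecialLinearGroup (Fin 2) F) := by
  haveI : Fact (Nat.Prime 2) := ⟨Nat.prime_two⟩
  haveI : Nontrivial (T : Subgroup X) := Finite.one_lt_card_iff_nontrivial.1 (by omega)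
  haveI hk : IsKleinFour (T : Subgroup X) := ⟨h4, by
    refine Nat.dvd_antisymm (Monoid.exponent_dvd_of_forall_pow_eq_one fun u => ?_) ?_
    · rw [pow_two]; exact Subtype.ext (hsq u u.2)
    · obtain ⟨v, hv⟩ := exists_prime_orderOf_dvd_card' (G := (T : Subgroup X)) 2 (by rw [h4]; norm_num)
      exact (dvd_of_eq hv.symm).trans (Monoid.order_dvd_exponent v)⟩
  obtain ⟨e₂⟩ : Nonempty ((T : Subgroup X) ≃* DihedralGroup 2) := IsKleinFour.nonempty_mulEquiv
  haveI : Group.IsPerfect X := by
    refine ⟨?_⟩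
    rcases (inferInstance : (commutator X).Normal).eq_bot_or_eq_top with hb | ht
    · obtain ⟨a, b, hne⟩ := hna
      exact absurd (commutatorElement_eq_one_iff_mul_comm.1 (Subgroup.mem_bot.1 (hb ▸
        Subgroup.commutator_mem_commutator (Subgroup.mem_top a) (Subgroup.mem_top b)))) hne
    · exact ht
  have hT2 : 4 ∣ Nat.card X := h4 ▸ Subgroup.card_subgroup_dvd_card _
  have hO : Cfsg.oddCore X = ⊥ := by
    rcases (inferInstance : (Cfsg.oddCore X).Normal).eq_bot_or_eq_top with hb | ht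
    · exact hb
    · exfalso
      have := Fusion.card_pPrimeCore_coprime 2 X
      have e : Cfsg.oddCore X = pPrimeCore 2 X := rfl
      rw [← e, ht, Subgroup.card_top, Nat.coprime_two_right] at this
      exact Nat.not_even_iff_odd.2 this (even_iff_two_dvd.2 ((dvd_mul_right 2 2).trans hT2))
  let eX : X ⧸ Cfsg.oddCore X ≃* X := (QuotientGroup.quotientMulEquivOfEq hO).trans QuotientGroup.quotientBot
  have h8 : ¬ 8 ∣ Nat.card X := fun h => by
    have := T.pow_dvd_card_of_pow_dvd_card (n := 3) (by norm_num; exact h)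
    rw [h4] at this
    omega
  rcases S0483.result T 2 le_rfl ⟨e₂⟩ with ⟨F, iF, iFF, hodd, h3, ⟨e⟩⟩ | ⟨⟨e⟩⟩
  · letI := iF
    letI := iFF
    refine ⟨F, iF, iFF, ?_, by rw [Nat.odd_iff] at hodd; omega, ⟨eX.symm.trans e⟩⟩
    have hc := (Nat.card_congr (eX.symm.trans e).toEquiv).symm
    have h2 := Lead.GLBasic.card_PSL (F := F) 2
    have hSL := Small.SL2C.card_SL2 (F := F)
    rw [hc, hSL, show Nat.gcd 2 (Fintype.card F - 1) = 2 from by
      rw [Nat.gcd_eq_left_iff_dvd]; rw [Nat.odd_iff] at hodd; omega] at h2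
    set q := Fintype.card F with hq
    rw [Nat.odd_iff] at hodd
    by_contra hmod
    refine h8 ?_
    have h16 : 16 ∣ q * (q ^ 2 - 1) := by
      rw [show q ^ 2 - 1 = (q + 1) * (q - 1) by rw [← Nat.sq_sub_sq, one_pow], mul_comm (q + 1)]
      refine Dvd.dvd.mul_left ?_ q
      obtain ⟨m, hm⟩ : ∃ m, q = 8 * m + 1 ∨ q = 8 * m + 7 := ⟨q / 8, by omega⟩
      rcases hm with hm | hm
      · rw [hm, show (8 * m + 1 - 1) * (8 * m + 1 + 1) = 16 * (m * (4 * m + 1)) by
          rw [Nat.add_sub_cancel]; ring]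
        exact dvd_mul_right _ _
      · rw [hm, show (8 * m + 7 - 1) * (8 * m + 7 + 1) = 16 * ((4 * m + 3) * (m + 1)) by
          rw [show 8 * m + 7 - 1 = 8 * m + 6 by omega]; ring]
        exact dvd_mul_right _ _
    have h2X : 16 ∣ 2 * Nat.card X := by
      rw [h2]
      exact h16
    omega
  · exfalso
    refine h8 ?_
    rw [(Nat.card_congr (eX.symm.trans e).toEquiv), nat_card_alternatingGroup, Nat.card_fin]
    decide +kernel

end Cfsg.Agent.Bender.AbelianSolvable
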