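import Cfsg.Agent.Lib.Bender.AbelianSolvable
import Cfsg.Agent.Lib.Fusion.Reduction
import Cfsg.Agent.Lib.Solv.Basic

/-!
# Reduction to simple groups for abelian Sylow two-subgroups and solvable centralizers of involutions
-/

set_option autoImplicit false
set_option linter.style.haveILetI false

open scoped Pointwise

namespace Cfsg.Agent.Bender.AbelianSolvable

open Cfsg Cfsg.Agent Cfsg.Agent.Fusion

universe u

variable {G : Type u} [Group G] [Finite G]

/-- Modulo the odd core a non-solvable group with solvable centralizers of involutions is almost simple. -/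
theorem exists_simple_normal (hO : Cfsg.oddCore G = ⊥) (S : Sylow 2 G) (hab : IsMulCommutative (S : Subgroup G))
    (hC : ∀ t : G, orderOf t = 2 → Group.IsSolvable ↥(Subgroup.centralizer ({t} : Set G)))
    (hns : ¬ Group.IsSolvable G) :
    ∃ N : Subgroup G, N.Normal ∧ IsSimpleGroup N ∧ (∃ a b : N, a * b ≠ b * a) ∧
      Subgroup.centralizer (N : Set G) = ⊥ := by
  haveI : Fact (Nat.Prime 2) := ⟨Nat.prime_two⟩
  have hodd : ∀ K : Subgroup G, K.Normal → Odd (Nat.card K) → K = ⊥ := fun K hK h => by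
    haveI := hK
    have := Fusion.le_pPrimeCore (p := 2) (N := K) (Nat.coprime_two_right.2 h)
    rw [show pPrimeCore 2 G = Cfsg.oddCore G from rfl, hO] at this
    exact eq_bot_iff.2 this
  have hinv : ∀ K : Subgroup G, K.Normal → K ≠ ⊥ → ∃ t ∈ K, orderOf t = 2 := fun K hK hne => by
    have he : 2 ∣ Nat.card K :=
      even_iff_two_dvd.1 (Nat.not_odd_iff_even.1 fun h => hne (hodd K hK h))
    obtain ⟨⟨t, ht⟩, h⟩ := exists_prime_orderOf_dvd_card' 2 he
    exact ⟨t, ht, by rw [← h, Subgroup.orderOf_mk]⟩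
  haveI : Nontrivial G := by
    by_contra h
    rw [not_nontrivial_iff_subsingleton] at h
    exact hns inferInstance
  obtain ⟨N, hN, hNne, hmin⟩ := Solv.exists_minimal_normal (G := G)
  haveI := hN
  have hNns : ¬ Group.IsSolvable N := by
    intro hsN
    obtain ⟨hNc, p, hp, -, hNp⟩ := Solv.minimal_normal_elementaryAbelian N hsN hNne hmin
    obtain ⟨t, htN, ht⟩ := hinv N hN hNne
    haveI := Fact.mk hp
    obtain ⟨k, hk⟩ := IsPGroup.iff_orderOf.1 hNp ⟨t, htN⟩
    rw [Subgroup.orderOf_mk, ht] at hk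
    have hk1 : k ≠ 0 := fun e => by rw [e, pow_zero] at hk; omega
    obtain rfl : p = 2 := by
      have := (Nat.prime_dvd_prime_iff_eq hp Nat.prime_two).1 (hk ▸ dvd_pow_self p hk1)
      exact this
    obtain ⟨P, hNP⟩ := hNp.exists_le_sylow
    haveI hCn : (Subgroup.centralizer (N : Set G)).Normal := Subgroup.normal_centralizer
    haveI : Group.IsSolvable (Subgroup.centralizer (N : Set G)) :=
      Solv.isSolvable_of_le (Subgroup.centralizer_le (Set.singleton_subset_iff.2 htN)) (hC t ht)
    obtain ⟨g, rfl⟩ := MulAction.exists_smul_eq G S P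
    have hSC : (S : Subgroup G) ≤ Subgroup.centralizer (N : Set G) := fun s hs =>
      Subgroup.mem_centralizer_iff.2 fun n hn => by
        have hm : g⁻¹ * (g * n * g⁻¹) * g ∈ (S : Subgroup G) := by
          have h1 := hNP (hN.conj_mem n hn g)
          rw [Sylow.coe_subgroup_smul] at h1
          exact Fusion.mem_cj.1 h1
        rw [show g⁻¹ * (g * n * g⁻¹) * g = n by group] at hm
        exact comm_of hab hm hs
    haveI : Group.IsSolvable (G ⧸ Subgroup.centralizer (N : Set G)) := odd_solvable' (by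
      rw [← Subgroup.index_eq_card]
      exact Nat.not_even_iff_odd.1 fun h => S.not_dvd_index
        ((even_iff_two_dvd.1 h).trans (Subgroup.index_dvd_of_le hSC)))
    exact hns (Group.isSolvable_of_ker_le_range (Subgroup.centralizer (N : Set G)).subtype
      (QuotientGroup.mk' (Subgroup.centralizer (N : Set G))) (by simp))
  have hcent : Subgroup.centralizer (N : Set G) = ⊥ := by
    by_contra hne
    obtain ⟨t, htC, ht⟩ := hinv _ Subgroup.normal_centralizer hne
    exact hNns (Solv.isSolvable_of_le (fun n hn => Subgroup.mem_centralizer_singleton_iff.2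
      (Subgroup.mem_centralizer_iff.1 htC n hn)) (hC t ht))
  refine ⟨N, hN, ?_, ?_, hcent⟩
  · haveI : Nontrivial N := (Subgroup.nontrivial_iff_ne_bot N).2 hNne
    obtain ⟨M, hM, hMne, hMmin⟩ := Solv.exists_minimal_normal (G := N)
    haveI := hM
    refine ⟨fun K hK => ?_⟩
    by_contra hK'
    rw [not_or] at hK'
    -- some minimal normal subgroup of `N` is proper
    obtain ⟨L, hL, hLne, hLK, hLmin⟩ := by
      haveI := hK
      exact Solv.exists_minimal_normal_le K hK'.1
    haveI := hL
    set L' : Subgroup G := L.map N.subtype with hL'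
    have hL'N : L' ≤ N := Subgroup.map_subtype_le _
    have hL'n : ∀ n ∈ N, ∀ x ∈ L', n * x * n⁻¹ ∈ L' := by
      rintro n hn _ ⟨x, hx, rfl⟩
      exact ⟨⟨n, hn⟩ * x * ⟨n, hn⟩⁻¹, hL.conj_mem x hx _, rfl⟩
    have hL'ne : L' ≠ ⊥ := fun e =>
      hLne ((Subgroup.map_eq_bot_iff_of_injective _ N.subtype_injective).1 e)
    -- conjugates
    have hcjN : ∀ g : G, Fusion.cj L' g ≤ N := fun g => by
      rintro _ ⟨x, hx, rfl⟩
      exact hN.conj_mem x (hL'N hx) g
    have hcjn : ∀ g : G, ∀ n ∈ N, ∀ x ∈ Fusion.cj L' g, n * x * n⁻¹ ∈ Fusion.cj L' g := by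
      intro g n hn x hx
      rw [Fusion.mem_cj] at hx ⊢
      have := hL'n (g⁻¹ * n * g) (by simpa using hN.conj_mem n hn g⁻¹) _ hx
      rwa [show g⁻¹ * n * g * (g⁻¹ * x * g) * (g⁻¹ * n * g)⁻¹ = g⁻¹ * (n * x * n⁻¹) * g by group] at this
    have hdisj : ∀ g : G, Fusion.cj L' g ⊓ L' = ⊥ ∨ L' ≤ Fusion.cj L' g := by
      intro g
      set J : Subgroup N := (Fusion.cj L' g).subgroupOf N ⊓ L with hJ
      haveI : J.Normal := ⟨fun x hx n => ⟨hcjn g n n.2 x hx.1, hL.conj_mem x hx.2 n⟩⟩
      rcases hLmin J inferInstance inf_le_right with h | h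
      · left
        refine (Subgroup.eq_bot_iff_forall _).2 ?_
        rintro _ ⟨hg, x, hx, rfl⟩
        have : x ∈ J := ⟨hg, hx⟩
        rw [h, Subgroup.mem_bot] at this
        rw [this, map_one]
      · right
        rintro _ ⟨x, hx, rfl⟩
        exact ((h.symm ▸ hx : x ∈ J)).1
    by_cases hmove : ∃ g : G, Fusion.cj L' g ⊓ L' = ⊥
    · obtain ⟨g, hg⟩ := hmove
      have hcm : Fusion.cj L' g ≤ Subgroup.centralizer (L' : Set G) := fun x hx =>
        Subgroup.mem_centralizer_iff.2 fun y hy => by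
          have h1 : y * x * y⁻¹ * x⁻¹ ∈ Fusion.cj L' g ⊓ L' := by
            refine Subgroup.mem_inf.2 ⟨mul_mem (hcjn g y (hL'N hy) x hx) (inv_mem hx), ?_⟩
            rw [show y * x * y⁻¹ * x⁻¹ = y * (x * y⁻¹ * x⁻¹) by group]
            exact mul_mem hy (hL'n x (hcjN g hx) _ (inv_mem hy))
          rw [hg, Subgroup.mem_bot] at h1
          exact commutatorElement_eq_one_iff_mul_comm.1 h1
      have hLsol : Group.IsSolvable L' := by
        by_cases he : Odd (Nat.card L')
        · exact odd_solvable' he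
        · obtain ⟨⟨c, hcL⟩, hc⟩ :=
            exists_prime_orderOf_dvd_card' (G := L') 2 (even_iff_two_dvd.1 (Nat.not_odd_iff_even.1 he))
          rw [Subgroup.orderOf_mk] at hc
          have h1 : Group.IsSolvable (Fusion.cj L' g) := Solv.isSolvable_of_le
            (hcm.trans (Subgroup.centralizer_le (Set.singleton_subset_iff.2 hcL))) (hC c hc)
          have h2 := Solv.isSolvable_map (MulAut.conj g⁻¹).toMonoidHom h1
          rwa [show (Fusion.cj L' g).map (MulAut.conj g⁻¹).toMonoidHom = L' from Fusion.cj_cj_inv L' g] at h2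
      haveI : Group.IsSolvable L := Group.isSolvable_of_isSolvable_injective
        (f := (L.equivMapOfInjective N.subtype N.subtype_injective).toMonoidHom) (MulEquiv.injective _)
      obtain ⟨hLc, -⟩ := Solv.minimal_normal_elementaryAbelian L inferInstance hLne hLmin
      -- the conjugates commute
      have hall : ∀ a b : G, Fusion.cj L' a ≤ Subgroup.centralizer (Fusion.cj L' b : Set G) := by
        intro a b
        have key : ∀ c : G, Fusion.cj L' c ≤ Subgroup.centralizer (L' : Set G) := by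
          intro c x hx
          refine Subgroup.mem_centralizer_iff.2 fun y hy => ?_
          rcases hdisj c with h | h
          · have h1 : y * x * y⁻¹ * x⁻¹ ∈ Fusion.cj L' c ⊓ L' := by
              refine Subgroup.mem_inf.2 ⟨mul_mem (hcjn c y (hL'N hy) x hx) (inv_mem hx), ?_⟩
              rw [show y * x * y⁻¹ * x⁻¹ = y * (x * y⁻¹ * x⁻¹) by group]
              exact mul_mem hy (hL'n x (hcjN c hx) _ (inv_mem hy))
            rw [h, Subgroup.mem_bot] at h1
            exact commutatorElement_eq_one_iff_mul_comm.1 h1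
          · have he : Fusion.cj L' c = L' :=
              (Subgroup.eq_of_le_of_card_ge h (Fusion.card_cj L' c).le).symm
            rw [he] at hx
            obtain ⟨x₀, hx₀, rfl⟩ := hx
            obtain ⟨y₀, hy₀, rfl⟩ := hy
            rw [← map_mul, ← map_mul,
              show y₀ * x₀ = x₀ * y₀ from congrArg Subtype.val (hLc.is_comm.comm ⟨y₀, hy₀⟩ ⟨x₀, hx₀⟩)]
        intro x hx
        refine Subgroup.mem_centralizer_iff.2 fun y hy => ?_
        have hx' : b⁻¹ * x * b ∈ Fusion.cj L' (b⁻¹ * a) := by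
          rw [← Fusion.cj_cj, Fusion.mem_cj]
          simpa [mul_assoc] using hx
        have hy' : b⁻¹ * y * b ∈ L' := Fusion.mem_cj.1 hy
        have h3 := Subgroup.mem_centralizer_iff.1 (key _ hx') _ hy'
        calc y * x = b * (b⁻¹ * y * b * (b⁻¹ * x * b)) * b⁻¹ := by group
          _ = b * (b⁻¹ * x * b * (b⁻¹ * y * b)) * b⁻¹ := by rw [h3]
          _ = x * y := by group
      set J : Subgroup G := ⨆ c : G, Fusion.cj L' c with hJ
      haveI hJn : J.Normal := Fusion.normal_iff_cj.2 fun c => by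
        show J.map _ = J
        refine le_antisymm ?_ ?_
        · rw [hJ, Subgroup.map_iSup]
          exact iSup_le fun d => (Fusion.cj_cj L' d c).le.trans (le_iSup (fun e => Fusion.cj L' e) (c * d))
        · rw [hJ, Subgroup.map_iSup]
          exact iSup_le fun d => le_trans (by
            show _ ≤ Fusion.cj (Fusion.cj L' (c⁻¹ * d)) c
            rw [Fusion.cj_cj, mul_inv_cancel_left]) (le_iSup (fun e => Fusion.cj (Fusion.cj L' e) c) (c⁻¹ * d))
      rcases hmin J hJn (iSup_le hcjN) with h | h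
      · exact hL'ne (eq_bot_iff.2 (h ▸ (Fusion.cj_one L').ge.trans (le_iSup (fun e => Fusion.cj L' e) 1)))
      · refine hNns ?_
        have hJc : J ≤ Subgroup.centralizer (J : Set G) := iSup_le fun a => by
          rw [Subgroup.le_centralizer_iff]
          exact iSup_le fun b => hall b a
        rw [← h]
        haveI : IsMulCommutative J := Subgroup.le_centralizer_iff_isMulCommutative.1 hJc
        exact Group.isSolvable_of_comm mul_comm'
    · push Not at hmove
      haveI : L'.Normal := Fusion.normal_iff_cj.2 fun g =>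
        (Subgroup.eq_of_le_of_card_ge ((hdisj g).resolve_left (hmove g)) (Fusion.card_cj L' g).le).symm
      rcases hmin L' inferInstance hL'N with h | h
      · exact hL'ne h
      · refine hK'.2 (eq_top_iff.2 fun x _ => hLK ?_)
        obtain ⟨y, hy, e⟩ := (h.symm ▸ x.2 : (x : G) ∈ L')
        exact (Subtype.ext e : y = x) ▸ hy
  · by_contra h
    push Not at h
    exact hNns (Group.isSolvable_of_comm h)

/-- **Groups with abelian Sylow two-subgroups and solvable centralizers of involutions.** -/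
theorem main (hdich : Dichotomy.{u}) (hcore : CoreTheorem.{u}) (S : Sylow 2 G)
    (hab : IsMulCommutative (S : Subgroup G))
    (hC : ∀ t : G, orderOf t = 2 → Group.IsSolvable ↥(Subgroup.centralizer ({t} : Set G))) :
    Group.IsSolvable G ∨
      ∃ (F : Type) (_ : Field F) (_ : Fintype F),
        (((Fintype.card F % 8 = 3 ∨ Fintype.card F % 8 = 5) ∧ 5 ≤ Fintype.card F) ∨
          (∃ n : ℕ, 2 ≤ n ∧ Fintype.card F = 2 ^ n)) ∧
        ∃ N : Subgroup (G ⧸ Cfsg.oddCore G), N.Normal ∧
          Nonempty (↥N ≃* Matrix.ProjectiveSpecialLinearGroup (Fin 2) F) ∧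
          Subgroup.centralizer (N : Set (G ⧸ Cfsg.oddCore G)) = ⊥ := by
  haveI : Fact (Nat.Prime 2) := ⟨Nat.prime_two⟩
  set K := Cfsg.oddCore G with hK
  have hKcop : (Nat.card K).Coprime 2 := Fusion.card_pPrimeCore_coprime 2 G
  by_cases hsol : Group.IsSolvable (G ⧸ K)
  · left
    haveI := hsol
    haveI : Group.IsSolvable K := odd_solvable' (Nat.coprime_two_right.1 hKcop)
    exact Group.isSolvable_of_ker_le_range K.subtype (QuotientGroup.mk' K) (by simp)
  right
  have hsurj : Function.Surjective (QuotientGroup.mk' K) := QuotientGroup.mk'_surjective K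
  have hO : Cfsg.oddCore (G ⧸ K) = ⊥ := Fusion.pPrimeCore_quotient_eq_bot
  have hCq : ∀ t : G ⧸ K, orderOf t = 2 → Group.IsSolvable ↥(Subgroup.centralizer ({t} : Set (G ⧸ K))) := by
    intro t ht
    obtain ⟨g, rfl⟩ := hsurj t
    obtain ⟨k, m, hm, hord⟩ := Nat.exists_eq_two_pow_mul_odd (orderOf_pos g).ne'
    have h2pow : orderOf (g ^ m) = 2 ^ k := by
      rw [orderOf_pow, hord, Nat.gcd_eq_right (dvd_mul_left m (2 ^ k)), Nat.mul_div_cancel _ hm.pos]
    have hsame : QuotientGroup.mk' K (g ^ m) = QuotientGroup.mk' K g := by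
      obtain ⟨j, rfl⟩ := hm
      rw [map_pow, pow_succ, pow_mul, show (QuotientGroup.mk' K g) ^ 2 = 1 from orderOf_dvd_iff_pow_eq_one.1 (dvd_of_eq ht),
        one_pow, one_mul]
    set a := g ^ m
    have hk : k = 1 := by
      have h1 : a ^ 2 ∈ K := by
        rw [← QuotientGroup.eq_one_iff, ← QuotientGroup.mk'_apply, map_pow, hsame]
        exact orderOf_dvd_iff_pow_eq_one.1 (dvd_of_eq ht)
      have h2 : orderOf (a ^ 2) ∣ Nat.card K := by
        rw [← Subgroup.orderOf_mk (a ^ 2) h1]; exact orderOf_dvd_natCard _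
      have h3 : orderOf (a ^ 2) ∣ 2 ^ k := h2pow ▸ orderOf_pow_dvd 2
      have h4 : orderOf (a ^ 2) = 1 := Nat.eq_one_of_dvd_coprimes (hKcop.pow_right k) h2 h3
      have h5 : 2 ^ k ∣ 2 := h2pow ▸ orderOf_dvd_of_pow_eq_one (orderOf_eq_one_iff.1 h4)
      rcases k with _ | _ | k
      · exfalso
        have h6 : a = 1 := orderOf_eq_one_iff.1 h2pow
        rw [h6, map_one] at hsame
        rw [← hsame, orderOf_one] at ht
        omega
      · rfl
      · exfalso
        have := Nat.le_of_dvd (by norm_num) h5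
        have h7 : 2 ^ 2 ≤ 2 ^ (k + 1 + 1) := Nat.pow_le_pow_right (by norm_num) (by omega)
        omega
    rw [hk, pow_one] at h2pow
    have hle : Subgroup.centralizer ({QuotientGroup.mk' K g} : Set (G ⧸ K)) ≤
        (Subgroup.centralizer ({a} : Set G)).map (QuotientGroup.mk' K) := by
      intro y hy
      have hyc := Subgroup.mem_centralizer_singleton_iff.1 hy
      have hap : IsPGroup 2 (Subgroup.zpowers a) :=
        IsPGroup.of_card (n := 1) (by rw [Nat.card_zpowers, h2pow, pow_one])
      obtain ⟨x, hx, hxy⟩ := Fusion.exists_lift_normalizer hKcop hap (y := y) (by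
        refine Subgroup.centralizer_le_normalizer _ (Subgroup.mem_centralizer_iff.2 ?_)
        rintro _ ⟨z, hz, rfl⟩
        obtain ⟨i, rfl⟩ := Subgroup.mem_zpowers_iff.1 hz
        rw [map_zpow, hsame]
        exact ((show Commute y (QuotientGroup.mk' K g) from hyc).zpow_right i).eq.symm)
      have hxa : x * a * x⁻¹ = a := by
        refine Fusion.injOn_mk_of_coprime hKcop hap ((Subgroup.mem_normalizer_iff.1 hx a).1 (Subgroup.mem_zpowers a))
          (Subgroup.mem_zpowers a) ?_
        show QuotientGroup.mk' K (x * a * x⁻¹) = QuotientGroup.mk' K a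
        rw [map_mul, map_mul, map_inv, hxy, hsame, hyc, mul_inv_cancel_right]
      exact ⟨x, Subgroup.mem_centralizer_singleton_iff.2 (mul_inv_eq_iff_eq_mul.1 hxa), hxy⟩
    exact Solv.isSolvable_of_le hle (Solv.isSolvable_map _ (hC a h2pow))
  set S' : Sylow 2 (G ⧸ K) := S.mapSurjective hsurj
  have hab' : IsMulCommutative (S' : Subgroup (G ⧸ K)) := ⟨⟨fun a b => by
    obtain ⟨x, hx, hxa⟩ := a.2
    obtain ⟨y, hy, hyb⟩ := b.2
    refine Subtype.ext ?_
    show (a : G ⧸ K) * b = b * a
    rw [← hxa, ← hyb, ← map_mul, ← map_mul, comm_of hab hx hy]⟩⟩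
  obtain ⟨N, hN, hsimp, hna, hcent⟩ := exists_simple_normal hO S' hab' hCq hsol
  haveI := hsimp
  obtain ⟨P⟩ : Nonempty (Sylow 2 N) := inferInstance
  have hPab : IsMulCommutative (P : Subgroup N) := ⟨⟨fun a b => by
    obtain ⟨R, hR⟩ := (P.isPGroup'.map N.subtype).exists_le_sylow
    obtain ⟨g, rfl⟩ := MulAction.exists_smul_eq (G ⧸ K) S' R
    have hmem : ∀ c : (P : Subgroup N), g⁻¹ * ((c : N) : G ⧸ K) * g ∈ (S' : Subgroup (G ⧸ K)) := fun c => by
      have h1 := hR ⟨(c : N), c.2, rfl⟩
      rw [Sylow.coe_subgroup_smul] at h1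
      exact Fusion.mem_cj.1 h1
    have h2 := comm_of hab' (hmem a) (hmem b)
    rw [show g⁻¹ * ((a : N) : G ⧸ K) * g * (g⁻¹ * ((b : N) : G ⧸ K) * g) =
        g⁻¹ * (((a : N) : G ⧸ K) * (b : N)) * g by group,
      show g⁻¹ * ((b : N) : G ⧸ K) * g * (g⁻¹ * ((a : N) : G ⧸ K) * g) =
        g⁻¹ * (((b : N) : G ⧸ K) * (a : N)) * g by group, mul_left_inj, mul_right_inj] at h2
    exact Subtype.ext (Subtype.ext h2)⟩⟩
  obtain ⟨F, iF, iFF, hcond, e⟩ := simple_case P hPab hdich hcore hna fun t ht => by
    have h1 := hCq t (by rw [Subgroup.orderOf_coe]; exact ht)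
    haveI := h1
    exact Group.isSolvable_of_isSolvable_injective
      (f := (N.subtype.comp (Subgroup.centralizer ({t} : Set N)).subtype).codRestrict
        (Subgroup.centralizer ({(t : G ⧸ K)} : Set (G ⧸ K))) fun c => Subgroup.mem_centralizer_singleton_iff.2
          (congrArg Subtype.val (Subgroup.mem_centralizer_singleton_iff.1 c.2)))
      fun a b h => Subtype.ext (Subtype.ext (congrArg Subtype.val h :))
  exact ⟨F, iF, iFF, hcond, N, hN, e, hcent⟩

end Cfsg.Agent.Bender.AbelianSolvable
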