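import Cfsg.Agent.Lib.Bender.SemilinearStep
import Cfsg.Agent.Lib.Fusion.StronglyEmbeddedPairs
import Cfsg.Agent.Lib.Fusion.Focal
import Cfsg.Agent.Lib.Fusion.Basic

/-!
# A strongly embedded subgroup with a normal abelian Sylow two-subgroup

In a simple group the Sylow subgroup is transitive on the other cosets, provided the subgroup is.
-/

set_option autoImplicit false
set_option linter.style.haveILetI false

open scoped Pointwise

namespace Cfsg.Agent.Bender.NormalSylow

open Cfsg Cfsg.Agent.Fusion Cfsg.Agent.Fusion.SEPairs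

universe u

variable {G : Type u} [Group G] [Finite G] {H : Subgroup G}

/-- The base coset. -/
abbrev base (H : Subgroup G) : G ⧸ H := QuotientGroup.mk 1

omit [Finite G] in
theorem mem_iff_fix {g : G} : g ∈ H ↔ g • base H = base H := by
  rw [smul_mk_eq_iff]; simp

/-- No quotient of prime order killing all elements with a second fixed point. -/
theorem no_quotient [IsSimpleGroup G] (hna : ∃ a b : G, a * b ≠ b * a) {ℓ : ℕ} [Fact ℓ.Prime]
    (N : Subgroup H) [N.Normal] (hN : N.index = ℓ)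
    (hfix : ∀ h : H, (∃ x : G ⧸ H, x ≠ base H ∧ (h : G) • x = x) → h ∈ N) : False := by
  classical
  obtain ⟨L₀⟩ : Nonempty (Sylow ℓ H) := inferInstance
  set L : Subgroup G := (L₀ : Subgroup H).map H.subtype with hL
  have hLH : L ≤ H := Subgroup.map_subtype_le _
  have hLN : ¬ (L₀ : Subgroup H) ≤ N := fun h => by
    refine L₀.not_dvd_index ?_
    have hd := Subgroup.index_dvd_of_le h
    exact (dvd_of_eq hN.symm).trans hd
  have hLp : IsPGroup ℓ L := L₀.isPGroup'.map _
  -- `L` fixes only the base coset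
  have hfixL : ∀ x : G ⧸ H, (∀ g ∈ L, g • x = x) → x = base H := fun x hx => by
    by_contra hne
    exact hLN fun h hh => hfix h ⟨x, hne, hx _ ⟨h, hh, rfl⟩⟩
  have hcop : ¬ ℓ ∣ H.index := by
    have hm := hLp.card_modEq_card_fixedPoints (G ⧸ H)
    have hone : MulAction.fixedPoints L (G ⧸ H) = {base H} := by
      ext x
      simp only [MulAction.mem_fixedPoints, Set.mem_singleton_iff]
      exact ⟨fun h => hfixL x fun g hg => h ⟨g, hg⟩, fun h g => h ▸ mem_iff_fix.1 (hLH g.2)⟩
    rw [hone, Nat.card_coe_set_eq, Set.ncard_singleton, ← Subgroup.index_eq_card] at hm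
    intro hd
    have : 1 ≡ 0 [MOD ℓ] := hm.symm.trans (Nat.modEq_zero_iff_dvd.2 hd)
    exact (Fact.out : ℓ.Prime).one_lt.ne' (Nat.dvd_one.1 (Nat.modEq_zero_iff_dvd.1 this))
  have hLtop : SylIn ℓ L ⊤ := by
    obtain ⟨S, hSL⟩ := hLp.exists_le_sylow
    have : L = (S : Subgroup G) := by
      refine Subgroup.eq_of_le_of_card_ge hSL ?_
      obtain ⟨k, hk⟩ := IsPGroup.iff_card.1 S.isPGroup'
      have hdvd : ℓ ^ k ∣ Nat.card H * H.index := by
        rw [H.card_mul_index, ← hk]
        exact Subgroup.card_subgroup_dvd_card _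
      have hdvd' : ℓ ^ k ∣ Nat.card H :=
        (Nat.Coprime.pow_left k ((Fact.out : ℓ.Prime).coprime_iff_not_dvd.2 hcop)).dvd_of_dvd_mul_right hdvd
      have hcL : Nat.card L = Nat.card (L₀ : Subgroup H) :=
        Subgroup.card_map_of_injective H.subtype_injective
      rw [hk, hcL]
      exact Nat.le_of_dvd Nat.card_pos (L₀.pow_dvd_card_of_pow_dvd_card hdvd')
    rw [this]
    exact sylIn_top S
  haveI : IsCyclic (H ⧸ N) := isCyclic_of_prime_card (by rw [← Subgroup.index_eq_card, hN])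
  have hab : ∀ a b : H ⧸ N, a * b = b * a := by
    obtain ⟨w, hw⟩ := IsCyclic.exists_generator (α := H ⧸ N)
    intro a b
    obtain ⟨i, rfl⟩ := hw a
    obtain ⟨j, rfl⟩ := hw b
    exact (Commute.zpow_zpow (Commute.refl w) i j).eq
  have hfoc : focalIn L ⊤ ≤ N.map H.subtype := by
    refine (Subgroup.closure_le _).2 ?_
    rintro _ ⟨x, hx, g, -, hgx, rfl⟩
    by_cases hxm : ∃ z : G ⧸ H, z ≠ base H ∧ x • z = z
    · obtain ⟨z, hz, hxz⟩ := hxm
      have h1 : (⟨x, hLH hx⟩ : H) ∈ N := hfix ⟨x, hLH hx⟩ ⟨z, hz, hxz⟩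
      have h2 : (⟨g * x * g⁻¹, hLH hgx⟩ : H) ∈ N := by
        refine hfix ⟨_, hLH hgx⟩ ?_
        by_cases hgz : g • z = base H
        · refine ⟨g • base H, fun e => hz (MulAction.injective g (hgz.trans e.symm)), ?_⟩
          show (g * x * g⁻¹) • g • base H = g • base H
          rw [mul_smul, mul_smul, inv_smul_smul, mem_iff_fix.1 (hLH hx)]
        · refine ⟨g • z, hgz, ?_⟩
          show (g * x * g⁻¹) • g • z = g • z
          rw [mul_smul, mul_smul, inv_smul_smul, hxz]
      exact ⟨_, mul_mem (inv_mem h1) h2, rfl⟩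
    · push Not at hxm
      have hgH : g ∈ H := by
        rw [mem_iff_fix]
        by_contra hne
        refine hxm (g⁻¹ • base H) (fun e => hne (by rw [← e, smul_inv_smul]; exact e.symm)) ?_
        have := mem_iff_fix.1 (hLH hgx)
        rw [mul_smul, mul_smul, smul_eq_iff_eq_inv_smul] at this
        exact this
      refine ⟨(⟨x, hLH hx⟩ : H)⁻¹ * (⟨g, hgH⟩ * ⟨x, hLH hx⟩ * (⟨g, hgH⟩ : H)⁻¹), ?_, rfl⟩
      show _ ∈ N
      rw [← QuotientGroup.eq_one_iff, QuotientGroup.mk_mul, QuotientGroup.mk_mul, QuotientGroup.mk_mul,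
        QuotientGroup.mk_inv, QuotientGroup.mk_inv,
        hab (QuotientGroup.mk (⟨g, hgH⟩ : H)) (QuotientGroup.mk (⟨x, hLH hx⟩ : H)), mul_inv_cancel_right,
        inv_mul_cancel]
  by_cases hc : L ≤ commutator G
  · refine hLN fun h hh => ?_
    have : (h : G) ∈ focalIn L ⊤ := by
      rw [← inf_commutator_eq_focalIn_top hLtop]
      exact ⟨⟨h, hh, rfl⟩, hc ⟨h, hh, rfl⟩⟩
    obtain ⟨n, hn, e⟩ := hfoc this
    exact Subtype.ext e ▸ hn
  · obtain ⟨K, hK, hKi⟩ := exists_normal_index_prime hLtop hc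
    rcases hK.eq_bot_or_eq_top with rfl | rfl
    · haveI : IsCyclic G := isCyclic_of_prime_card (p := ℓ) (by rw [← hKi, Subgroup.index_bot])
      obtain ⟨a, b, hne⟩ := hna
      letI := IsCyclic.commGroup (α := G)
      exact hne (mul_comm a b)
    · rw [Subgroup.index_top] at hKi
      exact (Fact.out : ℓ.Prime).one_lt.ne hKi

omit [Finite G] in
/-- A normal maximal subgroup has prime index. -/
theorem prime_index_of_coatom [Finite H] (M : Subgroup H) [M.Normal] (hM : IsCoatom M)
    (hsol : Group.IsSolvable H) : M.index.Prime := by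
  haveI := hsol
  haveI : Group.IsSolvable (H ⧸ M) := Group.isSolvable_of_surjective (QuotientGroup.mk'_surjective M)
  have hcard : 1 < Nat.card (H ⧸ M) := by
    rw [← Subgroup.index_eq_card]
    have := M.index_ne_zero_of_finite
    have : M.index ≠ 1 := fun h => hM.1 (Subgroup.index_eq_one.1 h)
    omega
  obtain ⟨p, hp, hpd⟩ := Nat.exists_prime_and_dvd hcard.ne'
  haveI := Fact.mk hp
  obtain ⟨x, hx⟩ := exists_prime_orderOf_dvd_card' p hpd
  have htop : Subgroup.zpowers x = ⊤ := by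
    have hle : M ≤ (Subgroup.zpowers x).comap (QuotientGroup.mk' M) := fun m hm => by
      rw [Subgroup.mem_comap]
      rw [QuotientGroup.mk'_apply, (QuotientGroup.eq_one_iff m).2 hm]
      exact one_mem _
    have hne : (Subgroup.zpowers x).comap (QuotientGroup.mk' M) ≠ M := by
      obtain ⟨y, rfl⟩ := QuotientGroup.mk'_surjective M x
      intro e
      have hy' : y ∈ (Subgroup.zpowers (QuotientGroup.mk' M y)).comap (QuotientGroup.mk' M) :=
        Subgroup.mem_zpowers (QuotientGroup.mk' M y)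
      have hy : y ∈ M := e ▸ hy'
      rw [QuotientGroup.mk'_apply, (QuotientGroup.eq_one_iff y).2 hy, orderOf_one] at hx
      exact hp.one_lt.ne hx
    have := hM.2 _ (lt_of_le_of_ne hle hne.symm)
    rw [← Subgroup.map_comap_eq_self_of_surjective (QuotientGroup.mk'_surjective M) (Subgroup.zpowers x), this,
      Subgroup.map_top_of_surjective _ (QuotientGroup.mk'_surjective M)]
  rw [Subgroup.index_eq_card, ← Subgroup.card_top, ← htop, Nat.card_zpowers, hx]
  exact hp

variable (hse : Cfsg.IsStronglyEmbedded H) (T : Sylow 2 G)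
include hse

/-- A non-identity element of `T` fixes only the base coset. -/
theorem semiregular (hTH : (T : Subgroup G) ≤ H) {u : G} (hu : u ∈ (T : Subgroup G)) {x : G ⧸ H}
    (hx : x ≠ base H) (hfix : u • x = x) : u = 1 := by
  by_contra h1
  obtain ⟨k, hk⟩ := IsPGroup.iff_orderOf.1 T.isPGroup' ⟨u, hu⟩
  rw [Subgroup.orderOf_mk] at hk
  obtain ⟨j, rfl⟩ : ∃ j, k = j + 1 := ⟨k - 1, by
    rcases k with _ | k
    · exact absurd (orderOf_eq_one_iff.1 (by simpa using hk)) h1
    · rfl⟩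
  have hv : orderOf (u ^ 2 ^ j) = 2 := by
    rw [orderOf_pow, hk, Nat.gcd_eq_right (pow_dvd_pow 2 (Nat.le_succ j)), pow_succ,
      Nat.mul_div_cancel_left _ (pow_pos (by norm_num) j)]
  refine hx (fixed_unique hse hv ?_ (mem_iff_fix.1 (pow_mem (hTH hu) _)))
  exact MulAction.mem_stabilizer_iff.1 (pow_mem (MulAction.mem_stabilizer_iff.2 hfix) _)

/-- **The normal Sylow subgroup is transitive on the other cosets.** -/
theorem transitive [IsSimpleGroup G] (hna : ∃ a b : G, a * b ≠ b * a) (hTH : (T : Subgroup G) ≤ H)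
    (hTab : IsMulCommutative (T : Subgroup G))
    (hTn : ∀ h ∈ H, ∀ u ∈ (T : Subgroup G), h * u * h⁻¹ ∈ (T : Subgroup G))
    (hsol : Group.IsSolvable H)
    (hker : ∀ h ∈ H, (∀ u ∈ (T : Subgroup G), u * u = 1 → h * u * h⁻¹ = u) → h ∈ (T : Subgroup G))
    (htrans : ∀ g₁ g₂ : G, g₁ ∉ H → g₂ ∉ H → ∃ h ∈ H, g₂⁻¹ * (h * g₁) ∈ H)
    (g₁ g₂ : G) (h₁ : g₁ ∉ H) (h₂ : g₂ ∉ H) : ∃ u ∈ (T : Subgroup G), g₂⁻¹ * (u * g₁) ∈ H := by
  classical
  set b : G ⧸ H := QuotientGroup.mk g₁ with hb
  have hne : b ≠ base H := fun e => h₁ (by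
    rw [hb, base, QuotientGroup.eq, mul_one] at e
    exact inv_mem_iff.1 e)
  set T₁ : Subgroup H := (T : Subgroup G).subgroupOf H with hT₁
  haveI : T₁.Normal := ⟨fun u hu h => hTn h h.2 u hu⟩
  set D₁ : Subgroup H := (MulAction.stabilizer G b).subgroupOf H with hD₁
  rcases IsCoatomic.eq_top_or_exists_le_coatom (T₁ ⊔ D₁) with htop | ⟨M, hM, hle⟩
  · obtain ⟨h, hh, hgh⟩ := htrans g₁ g₂ h₁ h₂
    obtain ⟨u, hu, d, hd, e⟩ := Subgroup.mem_sup_of_normal_left.1 (htop ▸ Subgroup.mem_top (⟨h, hh⟩ : H))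
    refine ⟨u, hu, ?_⟩
    have hdb : g₁⁻¹ * (d : G) * g₁ ∈ H :=
      smul_mk_eq_iff.1 (MulAction.mem_stabilizer_iff.1 (Subgroup.mem_subgroupOf.1 hd))
    have e' : (u : G) * d = h := congrArg Subtype.val e
    have := mul_mem hgh (inv_mem hdb)
    rwa [← e', show g₂⁻¹ * ((u : G) * d * g₁) * (g₁⁻¹ * d * g₁)⁻¹ = g₂⁻¹ * (u * g₁) by group] at this
  exfalso
  haveI : Fact (Nat.Prime 2) := ⟨Nat.prime_two⟩
  -- the involutions of `T`
  have hcomm : ∀ a ∈ (T : Subgroup G), ∀ c ∈ (T : Subgroup G), a * c = c * a := fun a ha c hc =>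
    congrArg Subtype.val (hTab.is_comm.comm ⟨a, ha⟩ ⟨c, hc⟩)
  let A : Subgroup G :=
    { carrier := {x | x ∈ (T : Subgroup G) ∧ x * x = 1}
      one_mem' := ⟨one_mem _, one_mul 1⟩
      mul_mem' := by
        rintro a c ⟨ha, ha2⟩ ⟨hc, hc2⟩
        refine ⟨mul_mem ha hc, ?_⟩
        rw [show a * c * (a * c) = a * (c * a) * c by group, ← hcomm a ha c hc,
          show a * (a * c) * c = a * a * (c * c) by group, ha2, hc2, one_mul]
      inv_mem' := by
        rintro a ⟨ha, ha2⟩
        exact ⟨inv_mem ha, by rw [← mul_inv_rev, ha2, inv_one]⟩ }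
  letI : CommGroup A := { (inferInstance : Group A) with
    mul_comm := fun a c => Subtype.ext (hcomm _ a.2.1 _ c.2.1) }
  let V := Additive A
  letI : Module (ZMod 2) V := AddCommGroup.zmodModule fun x => by
    apply Additive.toMul.injective
    apply Subtype.ext
    rw [toMul_nsmul, toMul_zero, Subgroup.coe_pow, pow_two]
    exact (Additive.toMul x).2.2
  have hAn : ∀ h ∈ H, ∀ x ∈ A, h * x * h⁻¹ ∈ A := fun h hh x hx =>
    ⟨hTn h hh x hx.1, by rw [conj_mul, hx.2, mul_one, mul_inv_cancel]⟩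
  let act : H → (V →+ V) := fun h =>
    { toFun := fun x => Additive.ofMul ⟨(h : G) * (Additive.toMul x : A) * (h : G)⁻¹, hAn _ h.2 _ (Additive.toMul x).2⟩
      map_zero' := by
        apply Additive.toMul.injective
        apply Subtype.ext
        simp
      map_add' := fun x y => by
        apply Additive.toMul.injective
        apply Subtype.ext
        show (h : G) * (((Additive.toMul x : A) : G) * ((Additive.toMul y : A) : G)) * (h : G)⁻¹ =
          (h : G) * ((Additive.toMul x : A) : G) * (h : G)⁻¹ * ((h : G) * ((Additive.toMul y : A) : G) * (h : G)⁻¹)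
        group }
  have hact : ∀ (h : H) (x : V), ((Additive.toMul (act h x) : A) : G) = (h : G) * (Additive.toMul x : A) * (h : G)⁻¹ :=
    fun h x => rfl
  have hext : ∀ x y : V, ((Additive.toMul x : A) : G) = ((Additive.toMul y : A) : G) → x = y :=
    fun x y e => Additive.toMul.injective (Subtype.ext e)
  let ρ : H →* (V ≃ₗ[ZMod 2] V) :=
    { toFun := fun h =>
        { toFun := act h
          map_add' := map_add (act h)
          map_smul' := fun c x => ZMod.map_smul (act h) c x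
          invFun := act h⁻¹
          left_inv := fun x => hext _ _ (by rw [hact, hact, Subgroup.coe_inv]; group)
          right_inv := fun x => hext _ _ (by rw [hact, hact, Subgroup.coe_inv]; group) }
      map_one' := LinearEquiv.ext fun x => hext _ _ (by
        show ((Additive.toMul (act 1 x) : A) : G) = _
        rw [hact, OneMemClass.coe_one, one_mul, inv_one, mul_one]
        rfl)
      map_mul' := fun g h => LinearEquiv.ext fun x => hext _ _ (by
        show ((Additive.toMul (act (g * h) x) : A) : G) = ((Additive.toMul (act g (act h x)) : A) : G)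
        rw [hact, hact, hact, Subgroup.coe_mul]; group) }
  have hρ : ∀ (h : H) (x : V), ((Additive.toMul (ρ h x) : A) : G) = (h : G) * (Additive.toMul x : A) * (h : G)⁻¹ :=
    fun h x => rfl
  have hkerM : ρ.ker ≤ M := fun h hh => by
    refine hle (Subgroup.mem_sup_left ?_)
    refine hker h h.2 fun u hu hu2 => ?_
    have := hρ h (Additive.ofMul (⟨u, hu, hu2⟩ : A))
    rw [MonoidHom.mem_ker.1 hh] at this
    exact this.symm
  have hinv : ∀ x : V, x ≠ 0 → orderOf ((Additive.toMul x : A) : G) = 2 := fun x hx =>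
    orderOf_eq_prime (by rw [pow_two]; exact (Additive.toMul x).2.2) fun e => hx (hext _ _ (by rw [e]; rfl))
  obtain ⟨t, ht⟩ : ∃ t : (T : Subgroup G), orderOf t = 2 := by
    refine exists_prime_orderOf_dvd_card' 2 ?_
    obtain ⟨a, ha⟩ := exists_prime_orderOf_dvd_card' 2 (even_iff_two_dvd.1 hse.2.1)
    exact T.dvd_card_of_dvd_card (ha ▸ Subgroup.orderOf_coe a ▸ orderOf_dvd_natCard (a : G))
  have htA : (t : G) ∈ A := ⟨t.2, by
    have h := pow_orderOf_eq_one t
    rw [ht, pow_two] at h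
    exact congrArg Subtype.val h⟩
  have hv₀ : (Additive.ofMul (⟨t, htA⟩ : A) : V) ≠ 0 := fun e => by
    have := congrArg (fun x : V => ((Additive.toMul x : A) : G)) e
    simp only [toMul_ofMul, toMul_zero, OneMemClass.coe_one] at this
    rw [show t = 1 from Subtype.ext this, orderOf_one] at ht
    omega
  haveI : M.Normal := Step.normal_of_transitive hsol ρ M hM hkerM _ hv₀ fun w hw => by
    obtain ⟨d, hdx, hdb, hdt⟩ := pair_transitive hse hne (hinv _ hv₀) (mem_iff_fix.1 (hTH t.2)) (hinv w hw)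
      (mem_iff_fix.1 (hTH (Additive.toMul w).2.1))
    refine ⟨⟨d, mem_iff_fix.2 hdx⟩, hle (Subgroup.mem_sup_right ?_), hext _ _ ?_⟩
    · exact Subgroup.mem_subgroupOf.2 (MulAction.mem_stabilizer_iff.2 hdb)
    · rw [hρ]
      exact hdt
  haveI := Fact.mk (prime_index_of_coatom M hM hsol)
  refine no_quotient hna M rfl fun h ⟨x, hx, hhx⟩ => ?_
  obtain ⟨g, rfl⟩ := QuotientGroup.mk_surjective x
  have hg : g ∉ H := fun hg => hx (by rw [base, QuotientGroup.eq, mul_one]; exact inv_mem hg)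
  obtain ⟨k, hk, hgk⟩ := htrans g₁ g h₁ hg
  have hkb : k • b = QuotientGroup.mk g := by
    rw [hb, MulAction.Quotient.smul_mk, smul_eq_mul, eq_comm, QuotientGroup.eq]
    exact hgk
  have hmem : (⟨k, hk⟩ : H)⁻¹ * h * ⟨k, hk⟩ ∈ M := by
    refine hle (Subgroup.mem_sup_right (Subgroup.mem_subgroupOf.2 (MulAction.mem_stabilizer_iff.2 ?_)))
    show (k⁻¹ * (h : G) * k) • b = b
    rw [mul_smul, mul_smul, hkb, hhx, ← hkb, inv_smul_smul]
  have := (inferInstance : M.Normal).conj_mem _ hmem ⟨k, hk⟩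
  rwa [show (⟨k, hk⟩ : H) * ((⟨k, hk⟩ : H)⁻¹ * h * ⟨k, hk⟩) * (⟨k, hk⟩ : H)⁻¹ = h by group] at this

end Cfsg.Agent.Bender.NormalSylow
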