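import Cfsg.Agent.Lib.Bender.AbelianCases
import Cfsg.Agent.Lib.Bender.NormalSylow
import Cfsg.Agent.Lib.Lie.SplitRankOne.Final
import Cfsg.Agent.S1141
import Cfsg.Agent.S0330
import Cfsg.Agent.Lib.Lie.SuzukiAct

/-!
# Simple groups with abelian Sylow two-subgroups and solvable centralizers of involutions

Given Bender's transitivity and core theorems they are projective special linear groups.
-/

set_option autoImplicit false
set_option linter.style.haveILetI false
set_option linter.unusedSectionVars false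

open scoped Pointwise

namespace Cfsg.Agent.Bender.AbelianSolvable

open Cfsg Cfsg.Agent Cfsg.Agent.Fusion

universe u

/-- Bender's dichotomy as a hypothesis. -/
def Dichotomy : Prop :=
  ∀ (G : Type u) [Group G] [Finite G] (H : Subgroup G), Cfsg.IsStronglyEmbedded H →
    (∀ g₁ g₂ : G, g₁ ∉ H → g₂ ∉ H → ∃ h ∈ H, g₂⁻¹ * (h * g₁) ∈ H) ∨
      ((∀ S : Sylow 2 G, IsCyclic S ∨ ∃ m : ℕ, 1 ≤ m ∧ Nonempty ((S : Subgroup G) ≃* QuaternionGroup (2 ^ m))) ∧
        Cfsg.oddCore G ⊔ H = ⊤)

/-- The core theorem for solvable strongly embedded subgroups as a hypothesis. -/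
def CoreTheorem : Prop :=
  ∀ (G : Type u) [Group G] [Finite G] (H : Subgroup G), Cfsg.IsStronglyEmbedded H → Group.IsSolvable H →
    (Cfsg.oddCore ↥H).map H.subtype ≤ Cfsg.oddCore G

variable {X : Type u} [Group X] [Finite X] (T : Sylow 2 X) (hab : IsMulCommutative (T : Subgroup X))
include hab

/-- The solvable overgroup of the centralizers of involutions. -/
theorem exists_embedded [IsSimpleGroup X] (hna : ∃ a b : X, a * b ≠ b * a)
    (hsolv : ∀ t : X, orderOf t = 2 → Group.IsSolvable ↥(Subgroup.centralizer ({t} : Set X)))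
    (h8 : 8 ≤ Nat.card (om (T : Subgroup X) hab)) :
    ∃ W : Subgroup X, Odd (Nat.card W) ∧
      Subgroup.normalizer ((T : Subgroup X) : Set X) ≤ Subgroup.normalizer (W : Set X) ∧
      Cfsg.IsStronglyEmbedded (W ⊔ Subgroup.normalizer ((T : Subgroup X) : Set X)) ∧
      Group.IsSolvable ↥(W ⊔ Subgroup.normalizer ((T : Subgroup X) : Set X)) := by
  haveI : Fact (Nat.Prime 2) := ⟨Nat.prime_two⟩
  set A := om (T : Subgroup X) hab with hA
  have hAs : ∀ a ∈ A, a ≠ 1 → Group.IsSolvable ↥(Subgroup.centralizer ({a} : Set X)) :=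
    fun a ha ha1 => hsolv a (orderOf_om T hab ha ha1)
  set θ := fun a : X => Cfsg.centralizerPPrimeCore 2 a with hθdef
  have hθ : IsSolvableSignalizerFunctor 2 A θ :=
    S1279.result 2 A (om_el T hab) (by norm_num; omega) hAs
  obtain ⟨hfam, -⟩ := SSF.complete (om_el T hab) (by norm_num; exact h8) hθ
  set W : Subgroup X := ⨆ a : {a : X // a ∈ A ∧ a ≠ 1}, θ a with hW
  set N := Subgroup.normalizer ((T : Subgroup X) : Set X) with hN
  have hWodd : Odd (Nat.card W) :=
    Nat.not_even_iff_odd.1 fun h => hfam.2.1 (even_iff_two_dvd.1 h)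
  have hθconj : ∀ (n a : X), ∀ g ∈ θ a, n * g * n⁻¹ ∈ θ (n * a * n⁻¹) := by
    intro n a g hg
    have hmap : (Subgroup.centralizer ({a} : Set X)).map (MulAut.conj n).toMonoidHom =
        Subgroup.centralizer ({n * a * n⁻¹} : Set X) := by
      ext z
      rw [Fusion.mem_cj, Subgroup.mem_centralizer_singleton_iff, Subgroup.mem_centralizer_singleton_iff]
      constructor <;> intro h
      · calc z * (n * a * n⁻¹) = n * (n⁻¹ * z * n * a) * n⁻¹ := by group
          _ = n * (a * (n⁻¹ * z * n)) * n⁻¹ := by rw [h]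
          _ = n * a * n⁻¹ * z := by group
      · calc n⁻¹ * z * n * a = n⁻¹ * (z * (n * a * n⁻¹)) * n := by group
          _ = n⁻¹ * (n * a * n⁻¹ * z) * n := by rw [h]
          _ = a * (n⁻¹ * z * n) := by group
    obtain ⟨o, ho, rfl⟩ := hg
    have hmem := Fusion.map_pPrimeCore_equiv
      (p := 2) (((Subgroup.centralizer ({a} : Set X)).equivMapOfInjective (MulAut.conj n).toMonoidHom
        (MulAut.conj n).injective).trans (MulEquiv.subgroupCongr hmap))
    set e := ((Subgroup.centralizer ({a} : Set X)).equivMapOfInjective (MulAut.conj n).toMonoidHom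
        (MulAut.conj n).injective).trans (MulEquiv.subgroupCongr hmap) with he
    refine Subgroup.mem_map.2 ⟨e o, ?_, rfl⟩
    rw [← hmem]
    exact ⟨o, ho, rfl⟩
  have hWn : N ≤ Subgroup.normalizer (W : Set X) := fun n hn => by
    refine Fusion.mem_normalizer_of_cj_le ?_
    show W.map _ ≤ W
    rw [hW, Subgroup.map_iSup]
    refine iSup_le fun a => ?_
    rintro _ ⟨g, hg, rfl⟩
    exact le_iSup (fun b : {b : X // b ∈ A ∧ b ≠ 1} => θ b)
      ⟨_, om_normal T hab hn a.2.1, fun e => a.2.2 (conj_eq_one_iff.1 e)⟩ (hθconj n a g hg)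
  set H := W ⊔ N with hH
  haveI hWnH : (W.subgroupOf H).Normal :=
    Subgroup.normal_subgroupOf_of_le_normalizer (sup_le Subgroup.le_normalizer hWn)
  have hTH : (T : Subgroup X) ≤ H := Subgroup.le_normalizer.trans le_sup_right
  -- `H` is solvable
  have hsolH : Group.IsSolvable H := by
    haveI : Group.IsSolvable (W.subgroupOf H) :=
      haveI := odd_solvable' hWodd
      Group.isSolvable_of_isSolvable_injective (f := (Subgroup.subgroupOfEquivOfLe (le_sup_left : W ≤ H)).toMonoidHom)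
        (Subgroup.subgroupOfEquivOfLe (le_sup_left : W ≤ H)).injective
    haveI := normalizer_solvable T hab
    haveI : Group.IsSolvable (H ⧸ W.subgroupOf H) := by
      refine Group.isSolvable_of_surjective
        (f := (QuotientGroup.mk' (W.subgroupOf H)).comp (Subgroup.inclusion (le_sup_right : N ≤ H))) fun q => ?_
      obtain ⟨h, rfl⟩ := QuotientGroup.mk'_surjective (W.subgroupOf H) q
      have hsup : (h : X) ∈ (↑(W ⊔ N) : Set X) := h.2
      rw [Subgroup.coe_mul_of_right_le_normalizer_left W N hWn] at hsup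
      obtain ⟨w, hw, n, hn, e⟩ := hsup
      refine ⟨⟨n, hn⟩, ?_⟩
      show QuotientGroup.mk' _ (⟨n, _⟩ : H) = QuotientGroup.mk' _ h
      rw [QuotientGroup.mk'_eq_mk']
      refine ⟨⟨n⁻¹ * w * n, mul_mem (mul_mem (inv_mem (Subgroup.mem_sup_right hn)) (Subgroup.mem_sup_left hw))
        (Subgroup.mem_sup_right hn)⟩, ?_, Subtype.ext ?_⟩
      · have := (Subgroup.mem_normalizer_iff''.1 (hWn hn) w).1 hw
        exact this
      · show n * (n⁻¹ * w * n) = (h : X)
        rw [← e]; group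
    exact Group.isSolvable_of_ker_le_range (W.subgroupOf H).subtype (QuotientGroup.mk' (W.subgroupOf H)) (by simp)
  have hCH : ∀ a ∈ A, a ≠ 1 → Subgroup.centralizer ({a} : Set X) ≤ H := by
    intro a ha ha1
    haveI := hAs a ha ha1
    set C := Subgroup.centralizer ({a} : Set X)
    have hTC : (T : Subgroup X) ≤ C := T_le_centralizer T hab ha.1
    obtain ⟨P, hP⟩ := ((sylIn_top T).mono hTC le_top).exists_sylow_subgroupOf
    haveI := S0018.result 2 P ⟨⟨fun x y => Subtype.ext (Subtype.ext (comm_of hab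
      (show ((x : C) : X) ∈ (T : Subgroup X) from (hP ▸ x.2 : (x : C) ∈ (T : Subgroup X).subgroupOf C))
      (show ((y : C) : X) ∈ (T : Subgroup X) from (hP ▸ y.2 : (y : C) ∈ (T : Subgroup X).subgroupOf C))))⟩⟩
    intro c hc
    have hfr := Sylow.normalizer_sup_eq_top' (N := (P : Subgroup C) ⊔ pPrimeCore 2 C) P le_sup_left
    have hcm : (⟨c, hc⟩ : C) ∈
        Subgroup.normalizer ((P : Subgroup C) : Set C) ⊔ ((P : Subgroup C) ⊔ pPrimeCore 2 C) := by
      exact hfr ▸ Subgroup.mem_top _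
    have hle : Subgroup.normalizer ((P : Subgroup C) : Set C) ⊔ ((P : Subgroup C) ⊔ pPrimeCore 2 C) ≤
        H.subgroupOf C := by
      refine sup_le (fun n hn => Subgroup.mem_subgroupOf.2 (Subgroup.mem_sup_right ?_)) (sup_le ?_ ?_)
      · refine Fusion.mem_normalizer_of_cj_le ?_
        rintro _ ⟨x, hx, rfl⟩
        have := (Subgroup.mem_normalizer_iff.1 hn ⟨x, hTC hx⟩).1 (by rw [hP]; exact hx)
        rw [hP] at this
        exact this
      · intro x hx
        rw [hP] at hx
        exact hTH hx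
      · intro x hx
        exact Subgroup.mem_sup_left
          (le_iSup (fun b : {b : X // b ∈ A ∧ b ≠ 1} => θ b) ⟨a, ha, ha1⟩ ⟨x, hx, rfl⟩)
    exact hle hcm
  refine ⟨W, hWodd, hWn, ⟨?_, ?_, ?_⟩, hsolH⟩
  · intro htop
    haveI := hsolH
    haveI : Group.IsSolvable X := Group.isSolvable_of_surjective (f := H.subtype) fun x => ⟨⟨x, (show H = ⊤ from htop).symm ▸ Subgroup.mem_top x⟩, rfl⟩
    obtain ⟨a, b, hne⟩ := hna
    exact hne (IsSimpleGroup.comm_iff_isSolvable.2 inferInstance a b)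
  · rw [even_iff_two_dvd]
    haveI : Nontrivial A := Finite.one_lt_card_iff_nontrivial.1 (by omega)
    obtain ⟨⟨a, ha⟩, ha1⟩ := exists_ne (1 : A)
    have h := orderOf_om T hab ha fun e => ha1 (Subtype.ext e)
    rw [← h, ← Subgroup.orderOf_mk a (hTH ha.1)]
    exact orderOf_dvd_natCard _
  · intro g hg
    refine Nat.not_even_iff_odd.1 fun hev => hg ?_
    obtain ⟨⟨s, hsH, hsg⟩, hs⟩ := exists_prime_orderOf_dvd_card' 2 (even_iff_two_dvd.1 hev)
    replace hs : orderOf s = 2 := (Subgroup.orderOf_coe _).trans hs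
    have hTs : SylIn 2 (T : Subgroup X) H := (sylIn_top T).mono hTH le_top
    have hmove : ∀ z ∈ H, orderOf z = 2 → ∃ k ∈ H, k * z * k⁻¹ ∈ A := by
      intro z hz hz2
      obtain ⟨k, hk, hle⟩ := hTs.conj_le (Q := Subgroup.zpowers z)
        (IsPGroup.of_card (n := 1) (by rw [Nat.card_zpowers, hz2, pow_one])) (Subgroup.zpowers_le.2 hz)
      refine ⟨k, hk, hle (Fusion.conj_mem_cj (Subgroup.mem_zpowers z)), ?_⟩
      have hzz : z * z = 1 := by rw [← pow_two, ← hz2, pow_orderOf_eq_one]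
      rw [conj_mul, hzz, mul_one, mul_inv_cancel]
    replace hsg : g⁻¹ * s * g ∈ H := Fusion.mem_cj.1 hsg
    obtain ⟨k, hk, hka⟩ := hmove s hsH hs
    obtain ⟨l, hl, hla⟩ := hmove (g⁻¹ * s * g) hsg (by
      rw [show g⁻¹ * s * g = g⁻¹ * s * g⁻¹⁻¹ by rw [inv_inv], Fusion.SEPairs.conj_involution hs])
    set a := k * s * k⁻¹ with hadef
    have ha1 : a ≠ 1 := fun e => by
      have h := conj_eq_one_iff.1 (hadef ▸ e)
      rw [h, orderOf_one] at hs; omega
    set c := l * g⁻¹ * k⁻¹ with hcdef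
    have hca : c * a * c⁻¹ = l * (g⁻¹ * s * g) * l⁻¹ := by rw [hcdef, hadef]; group
    obtain ⟨n, hn, hna'⟩ := fusion_of_abelian (sylIn_top T) (le_centralizer_self T hab) hka.1
      (g := c) (by rw [hca]; exact hla.1)
    have hmem : n⁻¹ * c ∈ H := hCH a hka ha1 (Subgroup.mem_centralizer_singleton_iff.2 (by
      calc n⁻¹ * c * a = n⁻¹ * (c * a * c⁻¹) * c := by group
        _ = n⁻¹ * (n * a * n⁻¹) * c := by rw [hna']
        _ = a * (n⁻¹ * c) := by group))
    have h1 : g⁻¹ = l⁻¹ * n * (n⁻¹ * c) * k := by rw [hcdef]; group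
    rw [← inv_mem_iff, h1]
    exact mul_mem (mul_mem (mul_mem (inv_mem hl) (Subgroup.mem_sup_right hn)) hmem) hk

/-- With the core theorem the normalizer of `T` is strongly embedded and `T` is self-centralizing. -/
theorem normalizer_embedded (hcore : CoreTheorem.{u}) [IsSimpleGroup X] (hna : ∃ a b : X, a * b ≠ b * a)
    (hsolv : ∀ t : X, orderOf t = 2 → Group.IsSolvable ↥(Subgroup.centralizer ({t} : Set X)))
    (h8 : 8 ≤ Nat.card (om (T : Subgroup X) hab)) :
    Cfsg.IsStronglyEmbedded (Subgroup.normalizer ((T : Subgroup X) : Set X)) ∧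
      Subgroup.centralizer ((T : Subgroup X) : Set X) ≤ (T : Subgroup X) := by
  haveI : Fact (Nat.Prime 2) := ⟨Nat.prime_two⟩
  obtain ⟨W, hWodd, hWn, hse, hsolH⟩ := exists_embedded T hab hna hsolv h8
  have hO : Cfsg.oddCore X = ⊥ := by
    rcases (inferInstance : (Cfsg.oddCore X).Normal).eq_bot_or_eq_top with h | h
    · exact h
    · exfalso
      have hc := Fusion.card_pPrimeCore_coprime 2 X
      have e : Cfsg.oddCore X = pPrimeCore 2 X := rfl
      rw [← e, h, Subgroup.card_top, Nat.coprime_two_right] at hc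
      have h2 : 2 ∣ Nat.card X := (even_iff_two_dvd.1 hse.2.1).trans (Subgroup.card_subgroup_dvd_card _)
      exact Nat.not_even_iff_odd.2 hc (even_iff_two_dvd.2 h2)
  have hkill : ∀ (H : Subgroup X) (K : Subgroup X), Cfsg.IsStronglyEmbedded H → Group.IsSolvable H → K ≤ H →
      (K.subgroupOf H).Normal → Odd (Nat.card K) → K = ⊥ := by
    intro H K hseH hsH hKH hn hodd
    haveI := hn
    have hle : K.subgroupOf H ≤ pPrimeCore 2 H := Fusion.le_pPrimeCore (by
      rw [Nat.card_congr (Subgroup.subgroupOfEquivOfLe hKH).toEquiv, Nat.coprime_two_right]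
      exact hodd)
    refine eq_bot_iff.2 fun x hx => ?_
    have := hcore X H hseH hsH ⟨⟨x, hKH hx⟩, hle hx, rfl⟩
    rwa [hO] at this
  have hW : W = ⊥ := hkill _ W hse hsolH le_sup_left
    (Subgroup.normal_subgroupOf_of_le_normalizer (sup_le Subgroup.le_normalizer hWn)) hWodd
  rw [hW, bot_sup_eq] at hse
  refine ⟨hse, ?_⟩
  set C := Subgroup.centralizer ((T : Subgroup X) : Set X)
  set N := Subgroup.normalizer ((T : Subgroup X) : Set X)
  have hTC : (T : Subgroup X) ≤ C := le_centralizer_self T hab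
  obtain ⟨P, hP⟩ := ((sylIn_top T).mono hTC le_top).exists_sylow_subgroupOf
  have hnp : HasNormalPComplement 2 C := by
    refine hnpc_of_normalizer_le_centralizer P fun c _ => Subgroup.mem_centralizer_iff.2 fun v hv => ?_
    have hv' : (v : X) ∈ (T : Subgroup X) := by
      have : v ∈ (T : Subgroup X).subgroupOf C := hP ▸ hv
      exact this
    exact Subtype.ext (Subgroup.mem_centralizer_iff.1 c.2 v hv')
  obtain ⟨K₀, hK₀, hc⟩ := hnpc_exists_complement hnp P
  have hK₀eq : K₀ = pResidual 2 C := eq_pResidual_of_isComplement' hc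
  set K := K₀.map C.subtype
  have hCN : C ≤ N := Subgroup.centralizer_le_normalizer _
  have hKN : K ≤ N := (Subgroup.map_subtype_le K₀).trans hCN
  have hKn : (K.subgroupOf N).Normal := by
    refine Subgroup.normal_subgroupOf_of_le_normalizer fun n hn => Fusion.mem_normalizer_of_cj_le ?_
    have hCn : C.map (MulAut.conj n).toMonoidHom = C := by
      show Fusion.cj C n = C
      rw [Fusion.cj_centralizer, Fusion.cj_eq_self hn]
    have hcard : ∀ z ∈ K, (orderOf z).Coprime 2 := fun z hz =>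
      (coprime_card_of_isComplement' hc).coprime_dvd_left (by
        obtain ⟨z₀, hz₀, rfl⟩ := hz
        rw [show (C.subtype z₀ : X) = (z₀ : X) from rfl, Subgroup.orderOf_coe, ← Subgroup.orderOf_mk z₀ hz₀]
        exact orderOf_dvd_natCard _)
    rintro _ ⟨z, hz, rfl⟩
    have hzC : (MulAut.conj n) z ∈ C := hCn ▸ ⟨z, Subgroup.map_subtype_le K₀ hz, rfl⟩
    refine ⟨⟨_, hzC⟩, ?_, rfl⟩
    rw [SetLike.mem_coe, hK₀eq]
    refine Subgroup.subset_closure ?_
    show (orderOf (⟨_, hzC⟩ : C)).Coprime 2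
    rw [Subgroup.orderOf_mk, MulEquiv.orderOf_eq]
    exact hcard z hz
  have hKodd : Odd (Nat.card K) := by
    rw [Subgroup.card_map_of_injective C.subtype_injective, ← Nat.coprime_two_right]
    exact coprime_card_of_isComplement' hc
  have hK := hkill N K hse (normalizer_solvable T hab) hKN hKn hKodd
  intro c hcC
  obtain ⟨⟨k, v⟩, hkv⟩ := (hc.existsUnique (⟨c, hcC⟩ : C)).exists
  have hk1 : ((k : C) : X) = 1 := Subgroup.mem_bot.1 (hK ▸ ⟨(k : C), k.2, rfl⟩)
  have hv : ((v : C) : X) ∈ (T : Subgroup X) := by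
    have : (v : C) ∈ (T : Subgroup X).subgroupOf C := hP ▸ v.2
    exact this
  have e : ((k : C) : X) * ((v : C) : X) = c := congrArg Subtype.val hkv
  rw [hk1, one_mul] at e
  exact e ▸ hv

omit hab in
/-- A Suzuki group has non-abelian Sylow two-subgroups. -/
theorem suzuki_nonabelian (h : Cfsg.Lie.IsoSuzuki X) : ¬ IsMulCommutative (T : Subgroup X) := by
  intro hc
  haveI : Fact (Nat.Prime 2) := ⟨Nat.prime_two⟩
  obtain ⟨F, _, _, m, hm, hF, ⟨e⟩⟩ := h
  obtain ⟨e'⟩ := Cfsg.Agent.Lie.Suzuki.lie_sz_equiv hF hm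
  set f : X ≃* Cfsg.Sz F m := e.trans e'.symm
  haveI : Finite (Cfsg.Sz F m) := Finite.of_equiv X f.toEquiv
  obtain ⟨-, -, hcen, hcard⟩ := S0330.result hm hF (T.mapSurjective (f := f.toMonoidHom) f.surjective)
  have hbot : commutator ↥((T.mapSurjective (f := f.toMonoidHom) f.surjective : Sylow 2 (Cfsg.Sz F m)) :
      Subgroup (Cfsg.Sz F m)) = ⊥ := by
    rw [commutator_def, Subgroup.commutator_eq_bot_iff_le_centralizer]
    intro a _
    refine Subgroup.mem_centralizer_iff.2 fun b _ => ?_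
    obtain ⟨x, hx, hxa⟩ := a.2
    obtain ⟨y, hy, hyb⟩ := b.2
    refine Subtype.ext ?_
    show (b : Cfsg.Sz F m) * a = a * b
    rw [← hxa, ← hyb, ← map_mul, ← map_mul, comm_of hc hy hx]
  rw [hcen, hbot, Subgroup.card_bot] at hcard
  have : 2 ≤ 2 ^ (2 * m + 1) := le_self_pow₀ (by norm_num) (by omega)
  omega

omit hab in
/-- A three-dimensional unitary group in even characteristic has non-abelian Sylow two-subgroups. -/
theorem unitary_nonabelian {F : Type} [Field F] [Fintype F] {n : ℕ} (hn : 2 ≤ n)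
    (hF : Fintype.card F = (2 ^ n) ^ 2) (e : X ≃* Cfsg.PSU 3 F (2 ^ n)) :
    ¬ IsMulCommutative (T : Subgroup X) := by
  intro hc
  haveI : Fact (Nat.Prime 2) := ⟨Nat.prime_two⟩
  obtain ⟨-, -, -, -, ⟨a, b, hne⟩, -, -⟩ := S1141.result hn hF (T.mapSurjective (f := e.toMonoidHom) e.surjective)
  obtain ⟨x, hx, hxa⟩ := a.2
  obtain ⟨y, hy, hyb⟩ := b.2
  refine hne (Subtype.ext ?_)
  show (a : Cfsg.PSU 3 F (2 ^ n)) * b = b * a
  rw [← hxa, ← hyb, ← map_mul, ← map_mul, comm_of hc hx hy]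

open MulAction in
/-- **Simple groups with abelian Sylow two-subgroups and solvable centralizers of involutions.** -/
theorem simple_case (hdich : Dichotomy.{u}) (hcore : CoreTheorem.{u}) [IsSimpleGroup X]
    (hna : ∃ a b : X, a * b ≠ b * a)
    (hsolv : ∀ t : X, orderOf t = 2 → Group.IsSolvable ↥(Subgroup.centralizer ({t} : Set X))) :
    ∃ (F : Type) (_ : Field F) (_ : Fintype F),
      (((Fintype.card F % 8 = 3 ∨ Fintype.card F % 8 = 5) ∧ 5 ≤ Fintype.card F) ∨
        (∃ n : ℕ, 2 ≤ n ∧ Fintype.card F = 2 ^ n)) ∧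
      Nonempty (X ≃* Matrix.ProjectiveSpecialLinearGroup (Fin 2) F) := by
  haveI : Fact (Nat.Prime 2) := ⟨Nat.prime_two⟩
  have h2 : 2 ∣ Nat.card X := by
    refine even_iff_two_dvd.1 (Nat.not_odd_iff_even.1 fun ho => ?_)
    haveI := odd_solvable' ho
    obtain ⟨a, b, hne⟩ := hna
    exact hne (IsSimpleGroup.comm_iff_isSolvable.2 inferInstance a b)
  set A := om (T : Subgroup X) hab with hA
  have hA2 := two_lt_card_om T hab hna h2
  obtain ⟨r, hr⟩ := IsPGroup.iff_card.1 (show IsPGroup 2 A from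
    fun a => ⟨1, Subtype.ext (by rw [pow_one, pow_two]; exact a.2.2)⟩)
  rw [← hA, hr] at hA2
  rcases (show r = 2 ∨ 3 ≤ r by
    by_contra h
    have : r ≤ 1 := by omega
    interval_cases r <;> norm_num at hA2) with rfl | hr3
  · have hsq := sq_one_of_three T hab hna h2 (by rw [← hA, hr]; rfl)
    have hT4 : Nat.card (T : Subgroup X) = 4 := by
      rw [show (T : Subgroup X) = A from le_antisymm (fun u hu => ⟨hu, hsq u hu⟩) fun u hu => hu.1, hr]
      rfl
    obtain ⟨F, iF, iFF, hmod, h5, e⟩ := four_case T hab hna hT4 hsq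
    exact ⟨F, iF, iFF, Or.inl ⟨hmod, h5⟩, e⟩
  have h8 : 8 ≤ Nat.card A := by
    rw [hr]; exact (show (8 : ℕ) = 2 ^ 3 by norm_num) ▸ Nat.pow_le_pow_right (by norm_num) hr3
  obtain ⟨hse, hCT⟩ := normalizer_embedded T hab hcore hna hsolv h8
  set H := Subgroup.normalizer ((T : Subgroup X) : Set X) with hH
  have htrans : ∀ g₁ g₂ : X, g₁ ∉ H → g₂ ∉ H → ∃ h ∈ H, g₂⁻¹ * (h * g₁) ∈ H := by
    rcases hdich X H hse with h | ⟨h, -⟩
    · exact h
    exfalso
    have hexp : ∀ u : A, u * u = 1 := fun u => Subtype.ext u.2.2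
    rcases h T with hcyc | ⟨m, hm, ⟨e⟩⟩
    · haveI := hcyc
      haveI : IsCyclic A := isCyclic_of_injective (Subgroup.inclusion (fun u (hu : u ∈ A) => hu.1))
        (Subgroup.inclusion_injective _)
      have hle : Monoid.exponent A ∣ 2 := Monoid.exponent_dvd_of_forall_pow_eq_one fun u => by
        rw [pow_two]; exact hexp u
      rw [IsCyclic.exponent_eq_card] at hle
      have := Nat.le_of_dvd (by norm_num) hle
      omega
    · haveI : NeZero (2 ^ m) := ⟨(pow_pos (by norm_num) m).ne'⟩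
      have h4 : 1 < 2 ^ m := Nat.one_lt_two_pow (by omega)
      have hne : ∃ a b : QuaternionGroup (2 ^ m), a * b ≠ b * a := by
        refine ⟨.a 1, .xa 0, ?_⟩
        simp only [QuaternionGroup.a_mul_xa, QuaternionGroup.xa_mul_a, ne_eq, QuaternionGroup.xa.injEq,
          zero_sub, zero_add]
        intro he
        have h2z : ((2 : ℕ) : ZMod (2 * 2 ^ m)) = 0 := by push_cast; linear_combination -he
        rw [ZMod.natCast_eq_zero_iff] at h2z
        have := Nat.le_of_dvd (by norm_num) h2z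
        omega
      obtain ⟨a, b, hab'⟩ := hne
      exact hab' (e.symm.injective (by rw [map_mul, map_mul]; exact hab.is_comm.comm _ _))
  have hTH : (T : Subgroup X) ≤ H := Subgroup.le_normalizer
  have hTn : ∀ h ∈ H, ∀ u ∈ (T : Subgroup X), h * u * h⁻¹ ∈ (T : Subgroup X) :=
    fun h hh u hu => (Subgroup.mem_normalizer_iff.1 hh u).1 hu
  have hker : ∀ h ∈ H, (∀ u ∈ (T : Subgroup X), u * u = 1 → h * u * h⁻¹ = u) → h ∈ (T : Subgroup X) := by
    intro h hh hfix
    obtain ⟨u, hu, w, hw, hwo, -, rfl⟩ := exists_odd_part T hh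
    refine mul_mem hu (hCT (centralizes_of_odd T hab hw hwo fun a ha => ?_))
    have h1 := hfix a ha.1 ha.2
    have hwa : w * a * w⁻¹ ∈ (T : Subgroup X) := (Subgroup.mem_normalizer_iff.1 hw a).1 ha.1
    calc w * a * w⁻¹ = u⁻¹ * (u * w * a * (u * w)⁻¹) * u := by group
      _ = u⁻¹ * a * u := by rw [h1]
      _ = a := by rw [mul_assoc, comm_of hab ha.1 hu, inv_mul_cancel_left]
  obtain ⟨t, ht, ht1, htH⟩ := Lie.R1C.exists_invol_not_mem H hse.1
    (even_iff_two_dvd.2 h2)
  have hbot : H ≠ ⊥ := fun e => by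
    have := hse.2.1
    rw [e, Subgroup.card_bot] at this
    exact Nat.not_even_one this
  have hst : stabilizer X ((1 : X) : X ⧸ H) = H := MulAction.stabilizer_quotient H
  have hsm : ∀ g x : X, g • ((x : X) : X ⧸ H) = ((g * x : X) : X ⧸ H) := fun g x => rfl
  have hS : Cfsg.IsRankOneSetup X (X ⧸ H) ((1 : X) : X ⧸ H) t (T : Subgroup X) := by
    refine Lie.R1C.setup_of_regular ht ht1 (fun e => htH ?_) (hst.symm ▸ hTH) (fun h hh x hx => ?_) (fun b hb => ?_)
      (fun q hq e => ?_) ?_ (by rw [hst]; exact hse.2.1)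
    · rw [← hst]; exact e
    · exact hTn h (by rwa [hst] at hh) x hx
    · obtain ⟨g, rfl⟩ := QuotientGroup.mk_surjective b
      obtain ⟨u, hu, e⟩ := NormalSylow.transitive hse T hna hTH hab hTn (normalizer_solvable T hab) hker htrans
        t g htH fun hg => hb (QuotientGroup.eq.2 (by simpa using inv_mem hg))
      refine ⟨u, hu, ?_⟩
      rw [hsm, hsm, mul_one, eq_comm, QuotientGroup.eq]
      exact e
    · refine NormalSylow.semiregular hse T hTH hq (fun e' => htH ?_) e
      rw [← hst]; exact e'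
    · have hD : stabilizer X ((1 : X) : X ⧸ H) ⊓ stabilizer X (t • ((1 : X) : X ⧸ H)) =
          H ⊓ H.map (MulAut.conj t).toMonoidHom := by
        rw [MulAction.stabilizer_smul_eq_stabilizer_map_conj, hst]
      show Odd (Nat.card ↥(stabilizer X _ ⊓ stabilizer X _))
      rw [hD]
      exact hse.2.2 t htH
  have hc : Lie.R1C.Ctx X (X ⧸ H) ((1 : X) : X ⧸ H) t (T : Subgroup X) :=
    ⟨hS, Lie.R1C.exists_two_invol H hse.1 hbot (even_iff_two_dvd.2 h2)⟩
  rcases hc.classify T.isPGroup' with ⟨F, iF, iFF, hn, e⟩ | h | ⟨F, iF, iFF, n, hn, hF, ⟨e⟩⟩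
  · exact ⟨F, iF, iFF, Or.inr hn, e⟩
  · exact absurd hab (suzuki_nonabelian T h)
  · exact absurd hab (unitary_nonabelian T hn hF e)

end Cfsg.Agent.Bender.AbelianSolvable
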