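import Cfsg.Agent.Lib.Bender.Count
import Cfsg.Agent.Lib.Solv.Coprime
import Cfsg.Agent.Lib.Lie.RankOne
import Cfsg.Agent.Lib.Fusion.Basic
import Cfsg.Agent.Lib.OddChar.FT.NoMinimal
import Cfsg.Agent.Lib.OddChar.FT.Final

/-!
# Bender transitivity: points, pairs and their stabilisers

`G` acts on the cosets of a strongly embedded subgroup; `St x` is a point stabiliser.
-/

set_option autoImplicit false
set_option linter.style.haveILetI false

open scoped Pointwise commutatorElement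

namespace Cfsg.Agent.SEB

open Cfsg
open Cfsg.Agent.Fusion (SylIn cj)
open Cfsg.Agent.Fusion.SEPairs

universe u

variable {G : Type u} [Group G] [Finite G] {H : Subgroup G}

/-- The stabiliser of a point. -/
abbrev St (x : G ⧸ H) : Subgroup G := MulAction.stabilizer G x

/-- The stabiliser of two points. -/
abbrev St2 (x y : G ⧸ H) : Subgroup G := St x ⊓ St y

theorem odd_solvable {K : Subgroup G} (h : Odd (Nat.card K)) : Group.IsSolvable K :=
  Cfsg.Agent.OddFT.odd_solvable_of_no_min Cfsg.Agent.OddFT.no_minSimple h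

omit [Finite G] in
theorem smul_smul_self {u : G} (hu : orderOf u = 2) (x : G ⧸ H) : u • u • x = x := by
  rw [smul_smul, sq_one hu, one_smul]

omit [Finite G] in
theorem St_smul (g : G) (x : G ⧸ H) : St (g • x) = cj (St x) g :=
  MulAction.stabilizer_smul_eq_stabilizer_map_conj g x

omit [Finite G] in
theorem St2_comm (x y : G ⧸ H) : St2 x y = St2 y x := inf_comm ..

omit [Finite G] in
theorem cj_St2 (g : G) (x y : G ⧸ H) : cj (St2 x y) g = St2 (g • x) (g • y) := by
  rw [St2, St2, St_smul, St_smul, Fusion.cj_inf]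

omit [Finite G] in
theorem normalizes_pair {g : G} {x y : G ⧸ H} (hx : g • x = y) (hy : g • y = x) :
    g ∈ Subgroup.normalizer (St2 x y : Set G) := by
  rw [Fusion.mem_normalizer_iff_cj, cj_St2, hx, hy, St2_comm]

variable (hse : Cfsg.IsStronglyEmbedded H)
include hse

theorem ne_of_move {u : G} (hu : orderOf u = 2) {c a : G ⧸ H} (huc : u • c = c) (hca : a ≠ c) :
    u • a ≠ a :=
  fun h => hca (fixed_unique hse hu h huc)

theorem smul_ne_centre {u : G} (hu : orderOf u = 2) {c a : G ⧸ H} (huc : u • c = c) (hca : a ≠ c) :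
    u • a ≠ c := fun h => by
  rw [← huc, smul_left_cancel_iff] at h
  exact hca h

theorem St2_odd {x y : G ⧸ H} (hxy : x ≠ y) : Odd (Nat.card ↥(St2 x y)) :=
  odd_of_no_invol fun _ ht ht2 => hxy (fixed_unique hse ht2 ht.1 ht.2)

theorem centralizer_le_St {u : G} (hu : orderOf u = 2) {c : G ⧸ H} (huc : u • c = c) :
    Subgroup.centralizer ({u} : Set G) ≤ St c := fun g hg => by
  have h := Subgroup.mem_centralizer_singleton_iff.1 hg
  exact fixed_unique hse hu (by rw [smul_smul, ← h, ← smul_smul, huc]) huc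

theorem exists_invol (x : G ⧸ H) : ∃ t : G, orderOf t = 2 ∧ t • x = x := by
  obtain ⟨t, z, ht, htz⟩ := exists_fixed_involution hse
  obtain ⟨g, hg⟩ := exists_smul_eq' z x
  exact ⟨g * t * g⁻¹, conj_involution ht g, by rw [← hg, mul_smul, mul_smul, inv_smul_smul, htz]⟩

theorem exists_swapper {x y : G ⧸ H} (hxy : x ≠ y) : ∃ w : G, orderOf w = 2 ∧ w • x = y := by
  obtain ⟨t, ht, htx⟩ := exists_invol hse x
  haveI : Nonempty {t : G // orderOf t = 2 ∧ t • x = x} := ⟨⟨t, ht, htx⟩⟩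
  have h := card_swappers hse hxy
  obtain ⟨⟨w, hw⟩⟩ := (Nat.card_pos_iff.1 (h ▸ Nat.card_pos (α := {t : G // orderOf t = 2 ∧ t • x = x}))).1
  exact ⟨w, hw⟩

theorem numInv_St (x y : G ⧸ H) : numInv (St x) = numInv (St y) := by
  obtain ⟨g, hg⟩ := exists_smul_eq' x y
  refine Nat.card_congr ((MulAut.conj g).toEquiv.subtypeEquiv fun t => ?_)
  show _ ↔ orderOf (g * t * g⁻¹) = 2 ∧ g * t * g⁻¹ ∈ St y
  rw [show orderOf (g * t * g⁻¹) = orderOf t from
    orderOf_injective (MulAut.conj g).toMonoidHom (MulAut.conj g).injective t,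
    MulAction.mem_stabilizer_iff, MulAction.mem_stabilizer_iff, ← hg, mul_smul, mul_smul,
    inv_smul_smul, smul_left_cancel_iff]

theorem inf_centralizer_pair {u : G} (hu : orderOf u = 2) {c : G ⧸ H} (huc : u • c = c) (a : G ⧸ H) :
    St2 a (u • a) ⊓ Subgroup.centralizer {u} = St a ⊓ Subgroup.centralizer {u} ∧
      St2 c a ⊓ Subgroup.centralizer {u} = St a ⊓ Subgroup.centralizer {u} := by
  constructor
  · refine le_antisymm (inf_le_inf_right _ inf_le_left) fun g hg => ⟨⟨hg.1, ?_⟩, hg.2⟩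
    show g • u • a = u • a
    rw [smul_smul, Subgroup.mem_centralizer_singleton_iff.1 hg.2, ← smul_smul, hg.1]
  · refine le_antisymm (inf_le_inf_right _ inf_le_right) fun g hg => ⟨⟨?_, hg.1⟩, hg.2⟩
    exact centralizer_le_St hse hu huc hg.2

/-- `|G_ab| = m |C_{G_a}(u)|` for a pair swapped by `u`. -/
theorem card_pair {u : G} (hu : orderOf u = 2) {c a : G ⧸ H} (huc : u • c = c) (hca : a ≠ c) :
    Nat.card ↥(St2 a (u • a)) = numInv (St c) * Nat.card ↥(St a ⊓ Subgroup.centralizer {u}) := by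
  have hne := ne_of_move hse hu huc hca
  have h := card_eq_orbit_mul (St2 a (u • a)) u {i | orderOf i = 2 ∧ i • a = u • a} fun i => by
    constructor
    · rintro ⟨hi, hia⟩
      obtain ⟨f, hf1, hf2, hf⟩ := swappers_conj hse hne.symm hi hia hu rfl
      exact ⟨f, ⟨hf1, hf2⟩, hf⟩
    · rintro ⟨d, ⟨hd1, hd2⟩, rfl⟩
      have hd1 : d • a = a := hd1
      exact ⟨conj_involution hu d, by
        rw [mul_smul, mul_smul, show d⁻¹ • a = a from inv_smul_eq_iff.2 hd1.symm]; exact hd2⟩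
  rw [h, (inf_centralizer_pair hse hu huc a).1, ← Nat.card_coe_set_eq]
  congr 1
  exact (card_swappers hse hne.symm).trans (numInv_St hse a c)

/-- `|G_ca| = m |C_{G_a}(u)|` for `u` fixing `c`. -/
theorem card_side {u : G} (hu : orderOf u = 2) {c a : G ⧸ H} (huc : u • c = c) (hca : a ≠ c) :
    Nat.card ↥(St2 c a) = numInv (St c) * Nat.card ↥(St a ⊓ Subgroup.centralizer {u}) := by
  have h := card_eq_orbit_mul (St2 c a) u {i | orderOf i = 2 ∧ i • c = c} fun i => by
    constructor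
    · rintro ⟨hi, hic⟩
      obtain ⟨d, hd1, hd2, hd⟩ := pair_transitive hse hca hu huc hi hic
      exact ⟨d, ⟨hd1, hd2⟩, hd⟩
    · rintro ⟨d, ⟨hd1, hd2⟩, rfl⟩
      have hd1 : d • c = c := hd1
      exact ⟨conj_involution hu d, by
        rw [mul_smul, mul_smul, show d⁻¹ • c = c from inv_smul_eq_iff.2 hd1.symm, huc, hd1]⟩
  rw [h, (inf_centralizer_pair hse hu huc a).2, ← Nat.card_coe_set_eq]
  rfl

theorem numInv_odd (c : G ⧸ H) : Odd (numInv (St c)) := by
  obtain ⟨u, hu, huc⟩ := exists_invol hse c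
  obtain ⟨a, hca⟩ := exists_ne hse c
  exact Odd.of_dvd_nat (St2_odd hse hca.symm) (card_side hse hu huc hca ▸ dvd_mul_right _ _)

theorem mbar_St_dvd (c : G ⧸ H) : mbar ↥(St c) ∣ numInv (St c) := by
  obtain ⟨u, hu, huc⟩ := exists_invol hse c
  obtain ⟨a, hca⟩ := exists_ne hse c
  have h := mbar_dvd (X := ↥(St c)) (t := ⟨u, huc⟩) (by rwa [← Subgroup.orderOf_coe]) fun s hs => by
    obtain ⟨d, hd1, -, hd⟩ := pair_transitive hse hca hu huc (by rwa [Subgroup.orderOf_coe]) s.2
    exact ⟨⟨d, hd1⟩, Subtype.ext hd⟩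
  refine h.trans (dvd_of_eq (Nat.card_congr
    { toFun := fun t => ⟨(t.1 : G), by rw [Subgroup.orderOf_coe]; exact t.2.1, t.1.2⟩
      invFun := fun t => ⟨⟨t.1, t.2.2⟩, by rw [← Subgroup.orderOf_coe]; exact t.2.1, Subgroup.mem_top _⟩
      left_inv := fun _ => rfl
      right_inv := fun _ => rfl }))

theorem mbar_St_smul (g : G) (x : G ⧸ H) : mbar ↥(St (g • x)) = mbar ↥(St x) :=
  (mbar_congr (((St x).equivMapOfInjective (MulAut.conj g).toMonoidHom (MulAut.conj g).injective).trans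
    (MulEquiv.subgroupCongr (St_smul g x).symm))).symm

/-- If the pair stabiliser fixes the centre there is one class of involutions. -/
theorem mbar_eq_one_of_le {u : G} (hu : orderOf u = 2) {c a : G ⧸ H} (huc : u • c = c) (hca : a ≠ c)
    (hle : St2 a (u • a) ≤ St c) : mbar ↥(St c) = 1 := by
  have heq : St2 a (u • a) = St2 c a := Subgroup.eq_of_le_of_card_ge
    (le_inf hle inf_le_left) (by rw [card_pair hse hu huc hca, card_side hse hu huc hca])
  have hun : u ∈ Subgroup.normalizer (St2 a (u • a) : Set G) := normalizes_pair rfl (smul_smul_self hu a)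
  refine mbar_eq_one (t := ⟨u, huc⟩) (by rwa [← Subgroup.orderOf_coe])
    ((St2 a (u • a)).subgroupOf (St c))
    (Odd.of_dvd_nat (St2_odd hse (ne_of_move hse hu huc hca).symm)
      (Subgroup.card_comap_dvd_of_injective _ _ (St c).subtype_injective)) fun x y hx hy => ?_
  obtain ⟨d, hd1, hd2, hd⟩ := pair_transitive hse hca hu huc (by rwa [Subgroup.orderOf_coe]) x.2
  obtain ⟨e, he1, he2, he⟩ := pair_transitive hse hca hu huc (by rwa [Subgroup.orderOf_coe]) y.2
  have hd' : d ∈ St2 a (u • a) := heq ▸ ⟨hd1, hd2⟩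
  have he' : e ∈ St2 a (u • a) := heq ▸ ⟨he1, he2⟩
  rw [Subgroup.mem_subgroupOf, Subgroup.coe_mul, ← hd, ← he,
    show d * u * d⁻¹ * (e * u * e⁻¹) = d * (u * (d⁻¹ * e) * u⁻¹) * (u * u) * e⁻¹ by group, sq_one hu,
    mul_one]
  exact mul_mem (mul_mem hd' (Solv.conj_mem_of_mem_normalizer hun (mul_mem (inv_mem hd') he'))) (inv_mem he')

/-- A subgroup moving the centre of an involution in it inherits a strongly embedded subgroup. -/
theorem se_sub {u : G} (hu : orderOf u = 2) {c : G ⧸ H} (huc : u • c = c) {M : Subgroup G} (huM : u ∈ M)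
    (hmove : ∃ g ∈ M, g • c ≠ c) : Cfsg.IsStronglyEmbedded ((St c).subgroupOf M) := by
  obtain ⟨g, hg, hgc⟩ := hmove
  refine ⟨fun h => hgc (Subgroup.subgroupOf_eq_top.1 h hg), ?_, fun x hx => ?_⟩
  · refine (Nat.even_or_odd _).resolve_right (even_of_invol_mem (t := (⟨u, huM⟩ : M)) ?_ huc)
    rwa [← Subgroup.orderOf_coe]
  · refine odd_of_no_invol fun t ht ht2 => hx ?_
    obtain ⟨h1, y, hy, hyt⟩ := ht
    have h1 : (t : G) • c = c := h1
    have hy : (y : G) • c = c := hy
    have e : (x : G) * y * (x : G)⁻¹ = t := congrArg Subtype.val hyt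
    refine fixed_unique hse (t := (t : G)) (by rwa [Subgroup.orderOf_coe]) (?_ : _ = (x : G) • c) h1
    rw [← e]
    simp only [Subgroup.coe_subtype, mul_smul, inv_smul_smul, hy]

/-- In such a subgroup all involutions are conjugate. -/
theorem conj_in {u : G} (hu : orderOf u = 2) {c : G ⧸ H} (huc : u • c = c) {M : Subgroup G} (huM : u ∈ M)
    (hmove : ∃ g ∈ M, g • c ≠ c) {w : G} (hw : orderOf w = 2) (hwM : w ∈ M) :
    ∃ g ∈ M, g * u * g⁻¹ = w := by
  obtain ⟨g, hg⟩ := isConj_iff.1 (involutions_conj (se_sub hse hu huc huM hmove)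
    (a := (⟨u, huM⟩ : M)) (b := ⟨w, hwM⟩) (by rwa [← Subgroup.orderOf_coe]) (by rwa [← Subgroup.orderOf_coe]))
  exact ⟨g, g.2, congrArg Subtype.val hg⟩

theorem zpowers_coprime {u : G} (hu : orderOf u = 2) {K : Subgroup G} (hK : Odd (Nat.card K)) :
    (Nat.card (Subgroup.zpowers u)).Coprime (Nat.card K) := by
  rw [Nat.card_zpowers, hu]
  exact hK.coprime_two_left

omit hse in
theorem isSylIn_iff {p : ℕ} [hp : Fact p.Prime] {P K : Subgroup G} :
    Solv.IsSylIn p P K ↔ SylIn p P K := by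
  constructor
  · intro h
    obtain ⟨T, hT, hPT⟩ := Fusion.exists_sylIn_ge h.isPGroup h.1
    exact (h.eq_of_le hT.isPGroup hT.le hPT) ▸ hT
  · intro h
    obtain ⟨T, hT, -⟩ := Fusion.exists_sylIn_ge h.isPGroup h.le
    obtain ⟨P₁, hP₁⟩ := Solv.exists_isSylIn (G := G) p K
    obtain ⟨Q, hQ⟩ := h.exists_sylow_subgroupOf
    refine ⟨h.le, ?_⟩
    rw [← Q.card_eq_multiplicity, hQ, Solv.card_subgroupOf h.le]

/-- Some swapper of a pair normalises a given Sylow subgroup of its stabiliser. -/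
theorem exists_swapper_normalizing {p : ℕ} [Fact p.Prime] {x y : G ⧸ H} (hxy : x ≠ y) {P : Subgroup G}
    (hP : SylIn p P (St2 x y)) :
    ∃ w : G, orderOf w = 2 ∧ w • x = y ∧ w ∈ Subgroup.normalizer (P : Set G) := by
  obtain ⟨w, hw, hwx⟩ := exists_swapper hse hxy
  have hwy : w • y = x := by rw [← hwx, smul_smul_self hw]
  have hwN := normalizes_pair hwx hwy
  obtain ⟨P₀, hP₀, hwP₀⟩ := Solv.exists_invariant_sylow (A := Subgroup.zpowers w) (K := St2 x y)
    (Subgroup.zpowers_le.2 hwN) (zpowers_coprime hse hw (St2_odd hse hxy))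
    (Or.inr (odd_solvable (St2_odd hse hxy))) p
  obtain ⟨k, hk, hkP⟩ := (isSylIn_iff.1 hP₀).conj_eq hP
  have hkx : k • x = x := hk.1
  have hky : k • y = y := hk.2
  refine ⟨k * w * k⁻¹, conj_involution hw k, ?_, ?_⟩
  · rw [mul_smul, mul_smul, show k⁻¹ • x = x from inv_smul_eq_iff.2 hkx.symm, hwx, hky]
  · rw [← hkP, Fusion.mem_normalizer_iff_cj, Fusion.cj_cj]
    conv_rhs => rw [← Fusion.cj_eq_self (hwP₀ (Subgroup.mem_zpowers w))]
    rw [Fusion.cj_cj]
    congr 1
    group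

end Cfsg.Agent.SEB
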