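import Cfsg.Prelude.Def_Involutions
import Cfsg.Prelude.Def_CaseTheorems
import Cfsg.Agent.Lib.Fusion.StronglyEmbeddedPairs
import Cfsg.Agent.Lib.Fusion.Cores

/-!
# Bender transitivity: involutions modulo the odd core

`mbar X` is the number of classes of involutions of `X` modulo `O(X)`.
-/

set_option autoImplicit false
set_option linter.style.haveILetI false

namespace Cfsg.Agent.SEB

open Cfsg
open Cfsg.Agent.Fusion.SEPairs (conj_involution sq_one inv_self)

universe u v

/-- The number of involutions in a subgroup. -/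
noncomputable def numInv {G : Type*} [Group G] (X : Subgroup G) : ℕ :=
  Nat.card {t : G // orderOf t = 2 ∧ t ∈ X}

/-- The class of an involution modulo the odd core. -/
def cls {X : Type*} [Group X] (t : {t : X // orderOf t = 2}) : X ⧸ pPrimeCore 2 X :=
  QuotientGroup.mk t.1

/-- The number of involutions modulo the odd core. -/
noncomputable def mbar (X : Type*) [Group X] : ℕ := Nat.card (Set.range (cls (X := X)))

theorem cls_eq_iff {X : Type*} [Group X] (s t : {t : X // orderOf t = 2}) :
    cls s = cls t ↔ s.1 * t.1 ∈ pPrimeCore 2 X := by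
  unfold cls
  rw [QuotientGroup.eq, inv_self s.2]

theorem ne_one_of_invol {X : Type*} [Group X] {t : X} (ht : orderOf t = 2) : t ≠ 1 := fun e => by
  rw [e, orderOf_one] at ht; omega

theorem even_of_invol_mem {X : Type*} [Group X] [Finite X] {t : X} (ht : orderOf t = 2) {K : Subgroup X}
    (h : t ∈ K) : ¬ Odd (Nat.card K) := fun ho => by
  have h2 := Subgroup.orderOf_dvd_natCard K h
  rw [ht] at h2
  exact Nat.not_even_iff_odd.2 ho (even_iff_two_dvd.2 h2)

theorem odd_of_no_invol {X : Type*} [Group X] [Finite X] {K : Subgroup X}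
    (h : ∀ t ∈ K, orderOf t ≠ 2) : Odd (Nat.card K) := by
  refine (Nat.even_or_odd _).resolve_left fun he => ?_
  obtain ⟨t, ht⟩ := exists_prime_orderOf_dvd_card' (G := K) 2 (even_iff_two_dvd.1 he)
  exact h t t.2 (by rwa [← Subgroup.orderOf_coe] at ht)

theorem card_oddCore_odd' (X : Type*) [Group X] [Finite X] : Odd (Nat.card (pPrimeCore 2 X)) :=
  Nat.coprime_two_right.mp (Fusion.card_pPrimeCore_coprime 2 X)

theorem le_oddCore {X : Type*} [Group X] [Finite X] {N : Subgroup X} [N.Normal]
    (h : Odd (Nat.card N)) : N ≤ pPrimeCore 2 X :=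
  Fusion.le_pPrimeCore h.coprime_two_right

/-- `|D| = |u^D| |C_D(u)|`. -/
theorem card_eq_orbit_mul {G : Type*} [Group G] [Finite G] (D : Subgroup G) (u : G) (S : Set G)
    (hS : ∀ s, s ∈ S ↔ ∃ d ∈ D, d * u * d⁻¹ = s) :
    Nat.card D = S.ncard * Nat.card ↥(D ⊓ Subgroup.centralizer {u}) := by
  set f : ↥D → G := fun d => (d : G) * u * (d : G)⁻¹ with hf
  set K := (Subgroup.centralizer ({u} : Set G)).subgroupOf D with hK
  have hfib : ∀ d e : ↥D, f d = f e ↔ d⁻¹ * e ∈ K := fun d e => by
    rw [hK, Subgroup.mem_subgroupOf, Subgroup.mem_centralizer_singleton_iff]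
    simp only [hf, Subgroup.coe_mul, InvMemClass.coe_inv]
    constructor
    · intro h
      calc (d : G)⁻¹ * e * u = (d : G)⁻¹ * ((e : G) * u * (e : G)⁻¹) * e := by group
        _ = (d : G)⁻¹ * ((d : G) * u * (d : G)⁻¹) * e := by rw [h]
        _ = u * ((d : G)⁻¹ * e) := by group
    · intro h
      calc (d : G) * u * (d : G)⁻¹ = (d : G) * (u * ((d : G)⁻¹ * e)) * (e : G)⁻¹ := by group
        _ = (d : G) * ((d : G)⁻¹ * e * u) * (e : G)⁻¹ := by rw [h]
        _ = (e : G) * u * (e : G)⁻¹ := by group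
  have hrange : Set.range f = S := by
    ext s
    rw [hS]
    exact ⟨fun ⟨d, hd⟩ => ⟨d, d.2, hd⟩, fun ⟨d, hd, he⟩ => ⟨⟨d, hd⟩, he⟩⟩
  have e : (↥D ⧸ K) ≃ Set.range f :=
    Equiv.ofBijective
      (Quotient.lift (fun d => (⟨f d, d, rfl⟩ : Set.range f)) fun d e h =>
        Subtype.ext ((hfib d e).2 (QuotientGroup.leftRel_apply.1 h)))
      ⟨fun x y => Quotient.inductionOn₂ x y fun d e h =>
          QuotientGroup.eq.2 ((hfib d e).1 (congrArg Subtype.val h)),
        fun ⟨s, d, hd⟩ => ⟨QuotientGroup.mk d, Subtype.ext hd⟩⟩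
  have hKc : Nat.card K = Nat.card ↥(D ⊓ Subgroup.centralizer {u}) := by
    rw [← Subgroup.card_map_of_injective (K := K) D.subtype_injective, hK,
      Subgroup.subgroupOf_map_subtype, inf_comm]
  rw [Subgroup.card_eq_card_quotient_mul_card_subgroup K, Nat.card_congr e, hrange,
    Nat.card_coe_set_eq, hKc]

/-- Two functions with the same fibres have ranges of the same size. -/
theorem card_range_congr {α β γ : Type*} (f : α → β) (g : α → γ) (h : ∀ x y, f x = f y ↔ g x = g y) :
    Nat.card (Set.range f) = Nat.card (Set.range g) := by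
  refine Nat.card_congr ((Setoid.quotientKerEquivRange f).symm.trans (Equiv.trans (Quotient.congrRight ?_)
    (Setoid.quotientKerEquivRange g)))
  exact fun x y => h x y

/-- A map matching involutions and their classes preserves `mbar`. -/
theorem mbar_eq_of_hom {X : Type*} [Group X] {Y : Type*} [Group Y] (f : X →* Y)
    (hinv : ∀ t : X, orderOf t = 2 → orderOf (f t) = 2)
    (hsurj : ∀ y : Y, orderOf y = 2 → ∃ x : X, orderOf x = 2 ∧ f x = y)
    (hiff : ∀ s t : X, orderOf s = 2 → orderOf t = 2 →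
      (f s * f t ∈ pPrimeCore 2 Y ↔ s * t ∈ pPrimeCore 2 X)) :
    mbar X = mbar Y := by
  let σ : {t : X // orderOf t = 2} → {t : Y // orderOf t = 2} := fun t => ⟨f t.1, hinv t.1 t.2⟩
  have hσ : Function.Surjective σ := fun y => by
    obtain ⟨x, hx, hxy⟩ := hsurj y.1 y.2
    exact ⟨⟨x, hx⟩, Subtype.ext hxy⟩
  have h1 : Set.range (cls (X := Y)) = Set.range (cls (X := Y) ∘ σ) := by
    rw [hσ.range_comp]
  unfold mbar
  rw [h1]
  exact card_range_congr _ _ fun s t => by
    rw [Function.comp_apply, Function.comp_apply, cls_eq_iff, cls_eq_iff]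
    exact (hiff s.1 t.1 s.2 t.2).symm

/-- A surjection with odd kernel preserves `mbar`. -/
theorem mbar_of_surjective {X : Type*} [Group X] [Finite X] {Y : Type*} [Group Y] (f : X →* Y)
    (hf : Function.Surjective f) (hk : Odd (Nat.card f.ker)) : mbar X = mbar Y := by
  haveI : Finite Y := Finite.of_surjective f hf
  have hcomap : (pPrimeCore 2 Y).comap f = pPrimeCore 2 X := by
    refine le_antisymm (le_oddCore ?_) (Subgroup.map_le_iff_le_comap.1 ?_)
    · refine odd_of_no_invol fun t ht ht2 => ?_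
      have h1 : f t ^ 2 = 1 := by rw [← map_pow, ← ht2, pow_orderOf_eq_one, map_one]
      by_cases h : f t = 1
      · exact even_of_invol_mem ht2 (show t ∈ f.ker from h) hk
      · exact even_of_invol_mem (orderOf_eq_prime h1 h) (Subgroup.mem_comap.1 ht) (card_oddCore_odd' Y)
    · haveI := (inferInstance : (pPrimeCore 2 X).Normal).map f hf
      exact le_oddCore (Odd.of_dvd_nat (card_oddCore_odd' X) (Subgroup.card_map_dvd _ f))
  refine mbar_eq_of_hom f (fun t ht => ?_) (fun y hy => ?_) (fun s t _ _ => ?_)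
  · refine orderOf_eq_prime (by rw [← map_pow, ← ht, pow_orderOf_eq_one, map_one]) fun e => ?_
    exact even_of_invol_mem ht (show t ∈ f.ker from e) hk
  · obtain ⟨x, rfl⟩ := hf y
    obtain ⟨k, hk'⟩ := hk
    have hyy : f x * f x = 1 := sq_one hy
    have hfc : f (x ^ (2 * k + 1)) = f x := by
      rw [map_pow, pow_succ, pow_mul, pow_two, hyy, one_pow, one_mul]
    refine ⟨x ^ (2 * k + 1), orderOf_eq_prime ?_ (fun e => ?_), hfc⟩
    · have hx2 : x * x ∈ f.ker := by rw [MonoidHom.mem_ker, map_mul, hyy]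
      rw [← pow_mul, mul_comm, pow_mul, pow_two, ← hk']
      exact orderOf_dvd_iff_pow_eq_one.1 (Subgroup.orderOf_dvd_natCard f.ker hx2)
    · rw [e, map_one] at hfc
      exact ne_one_of_invol hy hfc.symm
  · rw [← hcomap, Subgroup.mem_comap, map_mul]

theorem mbar_congr {X : Type*} [Group X] [Finite X] {Y : Type*} [Group Y] (e : X ≃* Y) :
    mbar X = mbar Y := by
  refine mbar_of_surjective e.toMonoidHom e.surjective ?_
  rw [MonoidHom.ker_eq_bot _ e.injective, Subgroup.card_bot]
  exact odd_one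

/-- The subgroup generated by products of two involutions. -/
def prodInv (X : Type*) [Group X] : Subgroup X :=
  Subgroup.closure {x | ∃ s t : X, orderOf s = 2 ∧ orderOf t = 2 ∧ s * t = x}

instance prodInv_normal (X : Type*) [Group X] : (prodInv X).Normal := by
  constructor
  intro n hn g
  have h : MulAut.conj g • n ∈ (prodInv X).map (MulAut.conj g).toMonoidHom := ⟨n, hn, rfl⟩
  have hle : (prodInv X).map (MulAut.conj g).toMonoidHom ≤ prodInv X := by
    rw [prodInv, MonoidHom.map_closure, Subgroup.closure_le]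
    rintro _ ⟨_, ⟨s, t, hs, ht, rfl⟩, rfl⟩
    exact Subgroup.subset_closure ⟨_, _, conj_involution hs g, conj_involution ht g, by
      show g * s * g⁻¹ * (g * t * g⁻¹) = g * (s * t) * g⁻¹
      group⟩
  exact hle h

/-- A subgroup containing every involution has the same `mbar`. -/
theorem mbar_subgroup {X : Type*} [Group X] [Finite X] (X₁ : Subgroup X)
    (h : ∀ t : X, orderOf t = 2 → t ∈ X₁) : mbar ↥X₁ = mbar X := by
  refine mbar_eq_of_hom X₁.subtype (fun t ht => by simpa using ht)
    (fun y hy => ⟨⟨y, h y hy⟩, by simpa [← Subgroup.orderOf_coe] using hy, rfl⟩) (fun s t hs ht => ?_)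
  constructor
  · intro hst
    haveI : ((pPrimeCore 2 X).subgroupOf X₁).Normal := inferInstance
    refine le_oddCore (N := (pPrimeCore 2 X).subgroupOf X₁) ?_ (Subgroup.mem_subgroupOf.2 ?_)
    · exact Odd.of_dvd_nat (card_oddCore_odd' X) (Subgroup.card_comap_dvd_of_injective _ _ X₁.subtype_injective)
    · simpa using hst
  · intro hst
    have hLX : prodInv X ≤ X₁ := by
      rw [prodInv, Subgroup.closure_le]
      rintro _ ⟨a, b, ha, hb, rfl⟩
      exact mul_mem (h a ha) (h b hb)
    set J := (pPrimeCore 2 ↥X₁).map X₁.subtype with hJ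
    have hJn : (J.subgroupOf (prodInv X)).Normal := by
      refine Subgroup.normal_subgroupOf_of_le_normalizer ((hLX.trans (le_of_eq ?_)).trans
        (Subgroup.le_normalizer_map X₁.subtype))
      rw [Subgroup.normalizer_eq_top, ← MonoidHom.range_eq_map, Subgroup.range_subtype]
    have hJo : Odd (Nat.card J) := by
      rw [hJ, Subgroup.card_map_of_injective X₁.subtype_injective]
      exact card_oddCore_odd' _
    have hle : J.subgroupOf (prodInv X) ≤ pPrimeCore 2 ↥(prodInv X) :=
      le_oddCore (Odd.of_dvd_nat hJo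
        (Subgroup.card_comap_dvd_of_injective _ _ (prodInv X).subtype_injective))
    have hst' : (s : X) * t ∈ prodInv X := Subgroup.subset_closure
      ⟨s, t, by rwa [Subgroup.orderOf_coe], by rwa [Subgroup.orderOf_coe], rfl⟩
    have h1 : (⟨(s : X) * t, hst'⟩ : ↥(prodInv X)) ∈ pPrimeCore 2 ↥(prodInv X) :=
      hle (Subgroup.mem_subgroupOf.2 ⟨s * t, hst, rfl⟩)
    haveI : ((pPrimeCore 2 ↥(prodInv X)).map (prodInv X).subtype).Normal := inferInstance
    refine le_oddCore (N := (pPrimeCore 2 ↥(prodInv X)).map (prodInv X).subtype) ?_ ⟨_, h1, rfl⟩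
    rw [Subgroup.card_map_of_injective (prodInv X).subtype_injective]
    exact card_oddCore_odd' _

/-- If all products of two involutions lie in an odd subgroup there is one class. -/
theorem mbar_eq_one {X : Type*} [Group X] [Finite X] {t : X} (ht : orderOf t = 2) (D : Subgroup X)
    (hD : Odd (Nat.card D)) (h : ∀ a b : X, orderOf a = 2 → orderOf b = 2 → a * b ∈ D) : mbar X = 1 := by
  have hL : prodInv X ≤ D := by
    rw [prodInv, Subgroup.closure_le]
    rintro _ ⟨a, b, ha, hb, rfl⟩
    exact h a b ha hb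
  have hO := le_oddCore (N := prodInv X) (Odd.of_dvd_nat hD (Subgroup.card_dvd_of_le hL))
  unfold mbar
  have h1 : Set.range (cls (X := X)) = {cls ⟨t, ht⟩} := by
    ext q
    constructor
    · rintro ⟨s, rfl⟩
      exact (cls_eq_iff s ⟨t, ht⟩).2 (hO (Subgroup.subset_closure ⟨s.1, t, s.2, ht, rfl⟩))
    · rintro rfl
      exact ⟨_, rfl⟩
  rw [h1, Nat.card_coe_set_eq, Set.ncard_singleton]

/-- If all involutions are conjugate, `mbar` divides their number. -/
theorem mbar_dvd {X : Type*} [Group X] [Finite X] {t : X} (ht : orderOf t = 2)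
    (hc : ∀ s : X, orderOf s = 2 → ∃ g : X, g * t * g⁻¹ = s) :
    mbar X ∣ numInv (⊤ : Subgroup X) := by
  have h1 := card_eq_orbit_mul (⊤ : Subgroup X) t {s | orderOf s = 2} fun s => by
    constructor
    · intro hs
      obtain ⟨g, hg⟩ := hc s hs
      exact ⟨g, Subgroup.mem_top g, hg⟩
    · rintro ⟨g, -, rfl⟩
      exact conj_involution ht g
  set π := QuotientGroup.mk' (pPrimeCore 2 X) with hπ
  have h2 := card_eq_orbit_mul (⊤ : Subgroup (X ⧸ pPrimeCore 2 X)) (π t) (Set.range (cls (X := X)))
    fun q => by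
      constructor
      · rintro ⟨s, rfl⟩
        obtain ⟨g, hg⟩ := hc s.1 s.2
        exact ⟨π g, Subgroup.mem_top _, by rw [← map_inv, ← map_mul, ← map_mul, hg]; rfl⟩
      · rintro ⟨d, -, rfl⟩
        obtain ⟨g, rfl⟩ := QuotientGroup.mk'_surjective _ d
        exact ⟨⟨g * t * g⁻¹, conj_involution ht g⟩, by
          rw [← map_inv, ← map_mul, ← map_mul]; rfl⟩
  rw [top_inf_eq, Subgroup.card_top] at h1 h2
  have hker : Nat.card π.ker = Nat.card (pPrimeCore 2 X) := by rw [hπ, QuotientGroup.ker_mk']
  have hX := Subgroup.card_eq_card_quotient_mul_card_subgroup (pPrimeCore 2 X)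
  have hpre : Nat.card ↥((Subgroup.centralizer ({π t} : Set _)).comap π) =
      Nat.card ↥(Subgroup.centralizer ({π t} : Set _)) * Nat.card (pPrimeCore 2 X) := by
    have := Subgroup.card_mul_index ((Subgroup.centralizer ({π t} : Set _)).comap π)
    rw [Subgroup.index_comap_of_surjective _ (QuotientGroup.mk'_surjective _), hX,
      ← Subgroup.card_mul_index (Subgroup.centralizer ({π t} : Set _))] at this
    have hpos : 0 < (Subgroup.centralizer ({π t} : Set _)).index :=
      Nat.pos_of_ne_zero Subgroup.index_ne_zero_of_finite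
    refine Nat.eq_of_mul_eq_mul_right hpos ?_
    rw [this]; ring
  have hle : Subgroup.centralizer ({t} : Set X) ≤ (Subgroup.centralizer ({π t} : Set _)).comap π := by
    intro g hg
    rw [Subgroup.mem_comap, Subgroup.mem_centralizer_singleton_iff, ← map_mul, ← map_mul,
      Subgroup.mem_centralizer_singleton_iff.1 hg]
  obtain ⟨k, hk⟩ := Subgroup.card_dvd_of_le hle
  unfold numInv mbar
  rw [Nat.card_coe_set_eq]
  have hm : Nat.card {s : X // orderOf s = 2 ∧ s ∈ (⊤ : Subgroup X)} = {s : X | orderOf s = 2}.ncard := by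
    rw [← Nat.card_coe_set_eq]
    exact Nat.card_congr (Equiv.subtypeEquivRight fun s => by simp)
  rw [hm]
  refine ⟨k, Nat.eq_of_mul_eq_mul_right (Nat.card_pos (α := ↥(Subgroup.centralizer ({t} : Set X)))) ?_⟩
  rw [← h1, hX, h2]
  calc _ = (Set.range (cls (X := X))).ncard *
        (Nat.card ↥(Subgroup.centralizer ({π t} : Set _)) * Nat.card (pPrimeCore 2 X)) := by ring
    _ = _ := by rw [← hpre, hk]; ring

end Cfsg.Agent.SEB
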