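import Mathlib

/-!
# Arithmetic of the constituents of an induced permutation character

`2 k = z + m j` for every constituent, `m = 2 ^ r - 1`.  The degree and value equations leave at most
two constituents with `j ≠ 0`, and then the norm is too large.
-/

set_option autoImplicit false
set_option linter.unusedVariables false
set_option maxHeartbeats 800000

namespace Cfsg.Agent.SEB.Elementary

theorem sq_bound {r : ℕ} (hr : 7 ≤ r) : r * (r + 2) + 1 ≤ 2 ^ (r - 1) := by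
  induction r, hr using Nat.le_induction with
  | base => norm_num
  | succ n hn ih =>
    obtain ⟨k, rfl⟩ : ∃ k, n = k + 1 := ⟨n - 1, by omega⟩
    simp only [Nat.add_sub_cancel] at ih ⊢
    rw [pow_succ]
    nlinarith

/-- The size of `M = (2 ^ r - 2) / (2 r)`. -/
theorem orbit_count {r M : ℕ} (hr : 3 ≤ r) (hodd : Odd r) (hM : 2 * r * M + 2 = 2 ^ r) :
    (r = 3 ∧ M = 1) ∨ (r = 5 ∧ M = 3) ∨ (7 ≤ r ∧ r + 2 ≤ M) := by
  obtain ⟨k, rfl⟩ := hodd
  rcases Nat.lt_or_ge k 3 with h | h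
  · interval_cases k <;> (simp only [pow_succ, pow_zero] at hM; omega)
  · right; right
    refine ⟨by omega, ?_⟩
    by_contra hlt
    push Not at hlt
    have h1 := sq_bound (r := 2 * k + 1) (by omega)
    rw [show 2 * k + 1 - 1 = 2 * k by omega] at h1
    rw [pow_succ] at hM
    nlinarith

variable {ι : Type*} {T : Finset ι} {c k : ι → ℕ} {z j : ι → ℤ} {m : ℤ}

/-- The constituents with `j = 0` and those with `j > 0`. -/
theorem split_bound (hc : ∀ i ∈ T, 1 ≤ c i) (hk : ∀ i ∈ T, 1 ≤ k i)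
    (hj : ∀ i ∈ T, 2 * (k i : ℤ) = z i + m * j i) (hz : ∀ i ∈ T, |z i| < m) {J : ℕ}
    (hJ : ∑ i ∈ T, (c i : ℤ) * j i = J) (hJ2 : J ≤ 2) {B : ℤ} (hB : ∑ i ∈ T, z i ^ 2 ≤ B) :
    ∃ S : ℕ, ∃ q w : ℤ, (∑ i ∈ T, (c i : ℤ) ^ 2) ≤ q + (S : ℤ) ^ 2 ∧ q ≤ (J : ℤ) ^ 2 ∧
      2 * (S : ℤ) + w ≤ ∑ i ∈ T, (c i : ℤ) * z i ∧
      (S = 0 → (∑ i ∈ T, (c i : ℤ) ^ 2) = q ∧ q ≠ 3 ∧ w = ∑ i ∈ T, (c i : ℤ) * z i ∧ w ^ 2 ≤ q * B) ∧
      (S ≠ 0 → w ^ 2 ≤ q * (B - 4) ∧ 4 ≤ B) := by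
  classical
  have hj0 : ∀ i ∈ T, 0 ≤ j i := fun i hi => by
    by_contra h
    push Not at h
    have h1 := hj i hi
    have h2 := (abs_lt.1 (hz i hi))
    have h3 : (1 : ℤ) ≤ k i := by exact_mod_cast hk i hi
    nlinarith
  set P := T.filter fun i => j i ≠ 0 with hP
  set Z := T.filter fun i => ¬ j i ≠ 0 with hZ
  have hsplit : ∀ f : ι → ℤ, ∑ i ∈ T, f i = ∑ i ∈ P, f i + ∑ i ∈ Z, f i := fun f =>
    (Finset.sum_filter_add_sum_filter_not T _ f).symm
  have hPJ : ∑ i ∈ P, (c i : ℤ) ≤ J := by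
    rw [← hJ, hsplit fun i => (c i : ℤ) * j i]
    refine le_add_of_le_of_nonneg (Finset.sum_le_sum fun i hi => ?_) (Finset.sum_nonneg fun i hi => ?_)
    · obtain ⟨hiT, hi0⟩ := Finset.mem_filter.1 hi
      have := hj0 i hiT
      have h1 : (1 : ℤ) ≤ j i := by omega
      nlinarith
    · exact mul_nonneg (Int.natCast_nonneg _) (hj0 i (Finset.mem_filter.1 hi).1)
  have hsq : ∀ s : Finset ι, s ⊆ T → ∑ i ∈ s, (c i : ℤ) ^ 2 ≤ (∑ i ∈ s, (c i : ℤ)) ^ 2 := fun s _ =>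
    Finset.sum_sq_le_sq_sum_of_nonneg fun i _ => Int.natCast_nonneg _
  set S := ∑ i ∈ Z, c i with hS
  have hZz : ∀ i ∈ Z, 2 ≤ z i := fun i hi => by
    obtain ⟨hiT, hi0⟩ := Finset.mem_filter.1 hi
    push Not at hi0
    have h1 := hj i hiT
    rw [hi0, mul_zero, add_zero] at h1
    have h3 : (1 : ℤ) ≤ k i := by exact_mod_cast hk i hiT
    omega
  refine ⟨S, ∑ i ∈ P, (c i : ℤ) ^ 2, ∑ i ∈ P, (c i : ℤ) * z i, ?_, ?_, ?_, ?_, ?_⟩
  · rw [hsplit fun i => (c i : ℤ) ^ 2, hS, Nat.cast_sum]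
    have := hsq Z (Finset.filter_subset _ _)
    linarith
  · refine (hsq P (Finset.filter_subset _ _)).trans ?_
    exact pow_le_pow_left₀ (Finset.sum_nonneg fun i _ => Int.natCast_nonneg _) hPJ 2
  · rw [hsplit fun i => (c i : ℤ) * z i, hS, Nat.cast_sum, Finset.mul_sum, add_comm]
    refine (add_le_add_iff_left _).2 (Finset.sum_le_sum fun i hi => ?_)
    have := hZz i hi
    have h4 : (0 : ℤ) ≤ c i := Int.natCast_nonneg _
    nlinarith
  · intro hS0
    have hZe : Z = ∅ := by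
      rw [Finset.eq_empty_iff_forall_notMem]
      intro i hi
      have h1 := Finset.single_le_sum (f := c) (fun i _ => Nat.zero_le _) hi
      have h2 := hc i (Finset.mem_filter.1 hi).1
      rw [← hS, hS0] at h1
      omega
    refine ⟨by rw [hsplit fun i => (c i : ℤ) ^ 2, hZe, Finset.sum_empty, add_zero], ?_,
      by rw [hsplit fun i => (c i : ℤ) * z i, hZe, Finset.sum_empty, add_zero], ?_⟩
    · intro h3
      -- a sum of squares of positive numbers with total at most two is `0`, `1`, `2` or `4`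
      rcases P.eq_empty_or_nonempty with he | ⟨i, hi⟩
      · rw [he, Finset.sum_empty] at h3; omega
      rw [← Finset.add_sum_erase P _ hi] at h3
      have hi1 : (1 : ℤ) ≤ c i := by exact_mod_cast hc i (Finset.mem_filter.1 hi).1
      rw [← Finset.add_sum_erase P _ hi] at hPJ
      have h4 := hsq (P.erase i) ((Finset.erase_subset _ _).trans (Finset.filter_subset _ _))
      have h5 : (0 : ℤ) ≤ ∑ x ∈ P.erase i, (c x : ℤ) := Finset.sum_nonneg fun i _ => Int.natCast_nonneg _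
      have h6 : (J : ℤ) ≤ 2 := by exact_mod_cast hJ2
      have h8 : (0 : ℤ) ≤ ∑ x ∈ P.erase i, (c x : ℤ) ^ 2 := Finset.sum_nonneg fun i _ => sq_nonneg _
      have h7 := pow_le_pow_left₀ h5 (show ∑ x ∈ P.erase i, (c x : ℤ) ≤ 2 - c i by linarith) 2
      rcases (show (c i : ℤ) = 1 ∨ (c i : ℤ) = 2 by omega) with e | e <;> rw [e] at h3 h7 <;> linarith
    · refine (Finset.sum_mul_sq_le_sq_mul_sq P _ _).trans (mul_le_mul_of_nonneg_left ?_
        (Finset.sum_nonneg fun i _ => sq_nonneg _))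
      refine le_trans ?_ hB
      rw [hsplit fun i => z i ^ 2]
      exact le_add_of_nonneg_right (Finset.sum_nonneg fun i _ => sq_nonneg _)
  · intro hS0
    have h0 : (0 : ℤ) ≤ ∑ i ∈ P, z i ^ 2 := Finset.sum_nonneg fun i _ => sq_nonneg _
    suffices h : ∑ i ∈ P, z i ^ 2 ≤ B - 4 from
      ⟨(Finset.sum_mul_sq_le_sq_mul_sq P _ _).trans (mul_le_mul_of_nonneg_left h
        (Finset.sum_nonneg fun i _ => sq_nonneg _)), by linarith⟩
    obtain ⟨i, hi⟩ : Z.Nonempty := Finset.nonempty_iff_ne_empty.2 fun e => hS0 (by rw [hS, e, Finset.sum_empty])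
    have h1 : (4 : ℤ) ≤ ∑ x ∈ Z, z x ^ 2 := le_trans (by have := hZz i hi; nlinarith)
      (Finset.single_le_sum (f := fun x => z x ^ 2) (fun x _ => sq_nonneg _) hi)
    rw [hsplit fun i => z i ^ 2] at hB
    linarith

/-- No exceptional constituent. -/
theorem false_of_plain {r M : ℕ} (hr : 3 ≤ r) (hodd : Odd r) (hM : 2 * r * M + 2 = 2 ^ r)
    (hc : ∀ i ∈ T, 1 ≤ c i) (hk : ∀ i ∈ T, 1 ≤ k i) (hj : ∀ i ∈ T, 2 * (k i : ℤ) = z i + m * j i)
    (hm : m = 2 ^ r - 1) (hv : ∑ i ∈ T, (c i : ℤ) * z i = -2) (hd : ∑ i ∈ T, (c i : ℤ) * k i = m - 1)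
    (hn : ∑ i ∈ T, (c i : ℤ) ^ 2 = 1 + 2 * M) (hB : ∑ i ∈ T, z i ^ 2 ≤ 2 * r) : False := by
  have hm7 : (7 : ℤ) ≤ m := by
    rw [hm]
    have : (2 : ℤ) ^ 3 ≤ 2 ^ r := pow_le_pow_right₀ (by norm_num) hr
    norm_num at this
    linarith
  have hcases := orbit_count hr hodd hM
  have hmr : (2 * r : ℤ) < m ^ 2 := by
    have h : (2 : ℤ) ^ r = 2 * r * M + 2 := by exact_mod_cast hM.symm
    have h1 : (1 : ℤ) ≤ M := by rcases hcases with ⟨-, e⟩ | ⟨-, e⟩ | ⟨-, e⟩ <;> omega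
    rw [hm, h]
    have : (0 : ℤ) ≤ (r : ℤ) := Int.natCast_nonneg r
    nlinarith
  have hz : ∀ i ∈ T, |z i| < m := fun i hi => by
    have h1 := (Finset.single_le_sum (f := fun x => z x ^ 2) (fun x _ => sq_nonneg _) hi).trans hB
    rw [← sq_lt_sq₀ (abs_nonneg _) (by omega), sq_abs]
    linarith
  have hJ : ∑ i ∈ T, (c i : ℤ) * j i = ((2 : ℕ) : ℤ) := by
    have e : ∑ i ∈ T, (c i : ℤ) * (2 * (k i : ℤ)) = ∑ i ∈ T, (c i : ℤ) * (z i + m * j i) :=
      Finset.sum_congr rfl fun i hi => by rw [hj i hi]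
    simp only [mul_add, Finset.sum_add_distrib, mul_left_comm _ m, ← Finset.mul_sum] at e
    rw [hv] at e
    have e' : ∑ i ∈ T, (c i : ℤ) * (2 * (k i : ℤ)) = 2 * (m - 1) := by
      rw [← hd, Finset.mul_sum]; exact Finset.sum_congr rfl fun i _ => by ring
    push_cast
    have : m * (∑ i ∈ T, (c i : ℤ) * j i) = m * 2 := by linarith
    exact mul_left_cancel₀ (by omega) this
  obtain ⟨S, q, w, h1, h2, h3, h4, h5⟩ := split_bound hc hk hj hz hJ le_rfl hB
  rw [hn] at h1 h4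
  rw [hv] at h3 h4
  push_cast at h2
  norm_num at h2
  rcases Nat.eq_zero_or_pos S with hS | hS
  · obtain ⟨e1, e2, -, -⟩ := h4 hS
    have : (1 : ℤ) ≤ M := by rcases hcases with ⟨-, e⟩ | ⟨-, e⟩ | ⟨-, e⟩ <;> omega
    omega
  obtain ⟨h6, -⟩ := h5 (by omega)
  have hS1 : (1 : ℤ) ≤ S := by exact_mod_cast hS
  have h7 : q * (2 * r - 4) ≤ 4 * (2 * r - 4) :=
    mul_le_mul_of_nonneg_right h2 (by have : (3 : ℤ) ≤ r := by exact_mod_cast hr
                                      linarith)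
  have h8 : (2 * (S : ℤ) + 2) ^ 2 ≤ w ^ 2 := by
    calc (2 * (S : ℤ) + 2) ^ 2 ≤ (-w) ^ 2 := pow_le_pow_left₀ (by linarith) (by linarith) 2
      _ = w ^ 2 := by ring
  have h9 : (4 : ℤ) ^ 2 ≤ (2 * (S : ℤ) + 2) ^ 2 := pow_le_pow_left₀ (by norm_num) (by linarith) 2
  rcases hcases with ⟨hr', hM'⟩ | ⟨hr', hM'⟩ | ⟨hr', hM'⟩
  · subst hr'; subst hM'
    push_cast at h6 h7
    linarith only [h6, h7, h8, h9]
  · subst hr'; subst hM'
    push_cast at h6 h7 h1
    have hS' : (S : ℤ) ≤ 1 := by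
      by_contra hlt
      have : (6 : ℤ) ^ 2 ≤ (2 * (S : ℤ) + 2) ^ 2 := pow_le_pow_left₀ (by norm_num) (by omega) 2
      linarith only [h6, h7, h8, this]
    rw [le_antisymm hS' hS1] at h1
    linarith only [h1, h2]
  · have h10 : (r : ℤ) + 2 ≤ M := by exact_mod_cast hM'
    have h11 : 4 * (S : ℤ) ^ 2 ≤ (2 * (S : ℤ) + 2) ^ 2 := by nlinarith only [hS1]
    linarith only [h1, h2, h6, h7, h8, h10, h11]

/-- A family of exceptional constituents. -/
theorem false_of_exceptional {r M : ℕ} (hr : 3 ≤ r) (hodd : Odd r) (hM : 2 * r * M + 2 = 2 ^ r)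
    (hM3 : 2 ≤ M) (hc : ∀ i ∈ T, 1 ≤ c i) (hk : ∀ i ∈ T, 1 ≤ k i)
    (hj : ∀ i ∈ T, 2 * (k i : ℤ) = z i + m * j i) (hm : m = 2 ^ r - 1) {μ k0 : ℕ} {j0 e ε : ℤ}
    (hμ : 1 ≤ μ) (hk0 : 1 ≤ k0) (hε : ε = 1 ∨ ε = -1) (hj0 : 2 * (k0 : ℤ) = e + 2 * r * ε + m * j0)
    (hv : ∑ i ∈ T, (c i : ℤ) * z i + μ * (M * e - ε) = -2)
    (hd : ∑ i ∈ T, (c i : ℤ) * k i + M * μ * k0 = m - 1)
    (hn : ∑ i ∈ T, (c i : ℤ) ^ 2 + M * μ ^ 2 = 1 + 2 * M)
    (hB : ∑ i ∈ T, z i ^ 2 + (M * e ^ 2 - 2 * ε * e) ≤ 2 * r - 1) : False := by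
  have hcases : ((r : ℤ) = 5 ∧ (M : ℤ) = 3) ∨ ((7 : ℤ) ≤ r ∧ (r : ℤ) + 2 ≤ M) := by
    rcases orbit_count hr hodd hM with h | h | h
    · omega
    · exact Or.inl ⟨by omega, by omega⟩
    · exact Or.inr ⟨by omega, by omega⟩
  have hMz : (3 : ℤ) ≤ M := by rcases hcases with ⟨-, e⟩ | ⟨-, e⟩ <;> omega
  have hr5 : (5 : ℤ) ≤ r := by rcases hcases with ⟨e, -⟩ | ⟨e, -⟩ <;> omega
  have hm' : m = 2 * r * M + 1 := by
    have h : (2 : ℤ) ^ r = 2 * r * M + 2 := by exact_mod_cast hM.symm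
    rw [hm, h]; ring
  have hmbig : 6 * (r : ℤ) + 1 ≤ m := by
    have := mul_le_mul_of_nonneg_left hMz (show (0 : ℤ) ≤ 2 * r by linarith)
    linarith
  have hsum0 : 0 ≤ ∑ i ∈ T, z i ^ 2 := Finset.sum_nonneg fun i _ => sq_nonneg _
  have hMe : 3 * e ^ 2 ≤ M * e ^ 2 := mul_le_mul_of_nonneg_right hMz (sq_nonneg e)
  have he : -(2 * r : ℤ) < e ∧ e < 2 * r := by
    rcases hε with rfl | rfl <;> constructor <;> nlinarith
  have hneg : -1 ≤ M * e ^ 2 - 2 * ε * e := by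
    rcases hε with rfl | rfl <;> nlinarith [sq_nonneg (e - 1), sq_nonneg (e + 1)]
  have hz : ∀ i ∈ T, |z i| < m := fun i hi => by
    have h1 := Finset.single_le_sum (f := fun x => z x ^ 2) (fun x _ => sq_nonneg _) hi
    rw [← sq_lt_sq₀ (abs_nonneg _) (by linarith), sq_abs]
    nlinarith
  have hjT : ∀ i ∈ T, 0 ≤ j i := fun i hi => by
    by_contra h
    push Not at h
    have h1 := hj i hi
    have h2 := (abs_lt.1 (hz i hi))
    have h3 : (1 : ℤ) ≤ k i := by exact_mod_cast hk i hi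
    have h4 := mul_le_mul_of_nonneg_left (show j i ≤ -1 by omega) (show 0 ≤ m by linarith)
    linarith
  have hJ : (∑ i ∈ T, (c i : ℤ) * j i) + μ * (M * j0) + μ * ε = 2 := by
    have e1 : ∑ i ∈ T, (c i : ℤ) * (2 * (k i : ℤ)) = ∑ i ∈ T, (c i : ℤ) * (z i + m * j i) :=
      Finset.sum_congr rfl fun i hi => by rw [hj i hi]
    simp only [mul_add, Finset.sum_add_distrib, mul_left_comm _ m, ← Finset.mul_sum] at e1
    have e2 : ∑ i ∈ T, (c i : ℤ) * (2 * (k i : ℤ)) = 2 * ∑ i ∈ T, (c i : ℤ) * k i := by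
      rw [Finset.mul_sum]; exact Finset.sum_congr rfl fun i _ => by ring
    refine mul_left_cancel₀ (show m ≠ 0 by linarith) ?_
    linear_combination -e1 + e2 + 2 * hd - hv - (M : ℤ) * μ * hj0 + μ * ε * hm'
  have hμ' : (1 : ℤ) ≤ μ := by exact_mod_cast hμ
  have hk0' : (1 : ℤ) ≤ k0 := by exact_mod_cast hk0
  have hj00 : 0 ≤ j0 := by
    by_contra h
    push Not at h
    have h4 := mul_le_mul_of_nonneg_left (show j0 ≤ -1 by omega) (show 0 ≤ m by linarith)
    rcases hε with rfl | rfl <;> linarith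
  obtain ⟨J, hJe⟩ : ∃ J : ℕ, ∑ i ∈ T, (c i : ℤ) * j i = (J : ℤ) :=
    ⟨_, (Int.toNat_of_nonneg (Finset.sum_nonneg fun i hi => mul_nonneg (Int.natCast_nonneg _) (hjT i hi))).symm⟩
  rw [hJe] at hJ
  have hCS := Finset.sum_mul_sq_le_sq_mul_sq T (fun i => (c i : ℤ)) z
  have hcc : 0 ≤ ∑ i ∈ T, (c i : ℤ) ^ 2 := Finset.sum_nonneg fun i _ => sq_nonneg _
  rcases hε with rfl | rfl
  · -- positive sign
    have hj' : j0 = 0 := by
      by_contra h
      have h1 := mul_le_mul hμ' (mul_le_mul hMz (show 1 ≤ j0 by omega) zero_le_one (by linarith))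
        (by norm_num) (by linarith)
      linarith only [h1, hJ, hμ', Int.natCast_nonneg J]
    subst hj'
    simp only [mul_zero, add_zero, mul_one] at hJ
    have hμ1 : (μ : ℤ) = 1 := by
      rcases (show (μ : ℤ) = 1 ∨ (μ : ℤ) = 2 by omega) with h | h
      · exact h
      · rw [h] at hn; linarith
    rw [hμ1] at hn hv hJ
    norm_num at hn hv hB
    obtain ⟨S, q, w, h1, h2, h3, h4, h5⟩ := split_bound hc hk hj hz hJe (by omega)
      (B := 2 * r - 1 - (M * e ^ 2 - 2 * e)) (by linarith)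
    have hJ1 : (J : ℤ) = 1 := by linarith
    rw [hJ1] at h2
    norm_num at h2
    rcases Nat.eq_zero_or_pos S with hS | hS
    · obtain ⟨e1, -, -, -⟩ := h4 hS
      linarith
    obtain ⟨h6, hB4⟩ := h5 (by omega)
    have hS1 : (1 : ℤ) ≤ S := by exact_mod_cast hS
    have hSM : (M : ℤ) ≤ (S : ℤ) ^ 2 := by linarith
    have h7 : w ^ 2 ≤ 2 * r - 5 - (M * e ^ 2 - 2 * e) := by
      refine h6.trans ?_
      exact (mul_le_of_le_one_left (by linarith) h2).trans (le_of_eq (by ring))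
    have hv' : 2 * (S : ℤ) + w ≤ -1 - M * e := by linarith
    rcases le_or_gt 0 e with he0 | he0
    · have h8 : 0 ≤ M * e ^ 2 - 2 * e := by
        have h8' : 2 * e ≤ M * e ^ 2 := by
          rcases eq_or_lt_of_le he0 with h | h
          · subst h; norm_num
          · nlinarith only [h, hMz]
        linarith only [h8']
      have hMe0 : 0 ≤ (M : ℤ) * e := mul_nonneg (by linarith only [hMz]) he0
      have h9 : (2 * (S : ℤ) + 1) ^ 2 ≤ w ^ 2 := by
        have : 2 * (S : ℤ) + 1 ≤ -w := by linarith only [hv', hMe0]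
        calc (2 * (S : ℤ) + 1) ^ 2 ≤ (-w) ^ 2 := pow_le_pow_left₀ (by positivity) this 2
          _ = w ^ 2 := by ring
      have h10 : 4 * (S : ℤ) ^ 2 ≤ (2 * (S : ℤ) + 1) ^ 2 := by nlinarith only [hS1]
      rcases hcases with ⟨a, b⟩ | ⟨a, b⟩ <;> linarith only [a, b, h7, h8, h9, h10, hSM]
    · rcases hcases with ⟨a, b⟩ | ⟨a, b⟩
      · rw [a, b] at h7
        rw [b] at hv' hSM
        have he1 : e = -1 := by
          by_contra hne
          have h11 : (2 : ℤ) ≤ -e := by omega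
          nlinarith only [h7, h11, sq_nonneg w]
        subst he1
        norm_num at h7
        have hw : w = 0 := by nlinarith only [h7]
        subst hw
        have h11 : (S : ℤ) = 1 := by omega
        rw [h11] at hSM
        norm_num at hSM
      · have hf : (M : ℤ) * 1 ≤ M * -e := mul_le_mul_of_nonneg_left (by omega) (by linarith only [hMz])
        have he2 : (M : ℤ) * 1 ≤ M * e ^ 2 :=
          mul_le_mul_of_nonneg_left (by nlinarith only [he0]) (by linarith only [hMz])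
        have h8 : (M : ℤ) - 1 ≤ -1 - M * e := by linarith only [hf]
        have hcz : ∑ i ∈ T, (c i : ℤ) * z i = -1 - M * e := by linarith only [hv]
        have h9 : ((M : ℤ) - 1) ^ 2 ≤ (∑ i ∈ T, (c i : ℤ) * z i) ^ 2 :=
          pow_le_pow_left₀ (by linarith only [hMz]) (by linarith only [h8, hcz]) 2
        have h10 : ∑ i ∈ T, z i ^ 2 ≤ (r : ℤ) - 5 := by linarith only [hB, he2, he0, b]
        have h11 : (∑ i ∈ T, (c i : ℤ) ^ 2) * (∑ i ∈ T, z i ^ 2) ≤ (1 + M) * ((r : ℤ) - 5) :=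
          mul_le_mul (by linarith only [hn]) h10 hsum0 (by linarith only [hMz])
        have h12 : (1 + (M : ℤ)) * ((r : ℤ) - 5) ≤ (1 + M) * (M - 7) :=
          mul_le_mul_of_nonneg_left (by linarith only [b]) (by linarith only [hMz])
        nlinarith only [h9, h11, h12, hCS, hMz]
  · -- negative sign
    have h1 : (1 : ℤ) ≤ j0 := by
      by_contra h
      have h0 : j0 = 0 := by omega
      subst h0
      linarith only [hj0, hk0', he.1, he.2]
    have h2 : (M : ℤ) ≤ M * j0 := le_mul_of_one_le_right (by linarith only [hMz]) h1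
    have h3 : (μ : ℤ) * (M * j0 - 1) ≤ 2 := by linarith only [hJ, Int.natCast_nonneg J]
    have hμ1 : (μ : ℤ) = 1 := by
      have := mul_le_mul_of_nonneg_left (show (2 : ℤ) ≤ M * j0 - 1 by linarith only [h2, hMz]) (show (0 : ℤ) ≤ μ by linarith only [hμ'])
      omega
    rw [hμ1] at hn hv hJ h3
    have hM3' : (M : ℤ) = 3 := by linarith only [h2, h3, hMz]
    have hJ0 : (J : ℤ) = 0 := by linarith only [hJ, h2, hMz, Int.natCast_nonneg J]
    have hall : ∀ i ∈ T, 2 ≤ z i := fun i hi => by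
      have h8 := (Finset.sum_eq_zero_iff_of_nonneg (s := T) (f := fun i => (c i : ℤ) * j i) fun x hx =>
        mul_nonneg (Int.natCast_nonneg _) (hjT x hx)).1 (by rw [hJe, hJ0]) i hi
      have h9 : j i = 0 := (mul_eq_zero.1 h8).resolve_left (by have := hc i hi; omega)
      have h10 := hj i hi
      rw [h9, mul_zero, add_zero] at h10
      have h11 : (1 : ℤ) ≤ k i := by exact_mod_cast hk i hi
      omega
    rw [hM3'] at hn hv hB
    norm_num at hn hv hB
    obtain ⟨i, hi⟩ : T.Nonempty := Finset.nonempty_iff_ne_empty.2 fun e => by simp [e] at hn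
    have h12 : 2 ≤ ∑ i ∈ T, (c i : ℤ) * z i := by
      refine le_trans ?_ (Finset.single_le_sum (f := fun x => (c x : ℤ) * z x) (fun x hx =>
        mul_nonneg (Int.natCast_nonneg _) (by have := hall x hx; omega)) hi)
      have h13 : (1 : ℤ) ≤ c i := by exact_mod_cast hc i hi
      have := mul_le_mul h13 (hall i hi) (by norm_num) (Int.natCast_nonneg _)
      linarith only [this]
    have h14 : (4 : ℤ) ≤ ∑ i ∈ T, z i ^ 2 :=
      le_trans (by have h16 := pow_le_pow_left₀ (by norm_num) (hall i hi) 2; linarith only [h16])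
        (Finset.single_le_sum (f := fun x => z x ^ 2) (fun x _ => sq_nonneg _) hi)
    have h15 : e ≤ -2 := by omega
    rcases hcases with ⟨a, -⟩ | ⟨-, b⟩
    · rw [a] at hB; nlinarith only [hB, h14, h15]
    · linarith only [b, hM3', hr5]

end Cfsg.Agent.SEB.Elementary
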