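import Cfsg.Agent.Lib.Char.Coherence
import Cfsg.Agent.Lib.Char.IndValue
import Cfsg.Agent.Lib.Char.Glauberman
import Cfsg.Agent.Lib.Char.MultiplicativeCoprime
import Cfsg.Agent.Lib.Char.Central
import Mathlib.GroupTheory.FiniteAbelian.Duality

/-!
# A regular abelian subgroup with trivial intersections outside a fixed-point-free complement

Such a transitive group is doubly transitive or its point stabiliser has the orbits of the complement.
-/

set_option autoImplicit false
set_option linter.style.haveILetI false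
set_option linter.unusedSectionVars false

open scoped ComplexConjugate
open Cfsg Cfsg.Agent.Char MulAction

namespace Cfsg.Agent.SEB.Endgame

universe u v

/-- The irreducible characters of a commutative group are linear and as many as its elements. -/
theorem irr_comm {A : Type u} [Group A] [Fintype A] (hA : ∀ x y : A, x * y = y * x) :
    Nat.card (IrrCharacter A) = Nat.card A ∧
      ∀ χ : IrrCharacter A, ∃ l : A →* ℂˣ, (χ : A → ℂ) = fun g => (l g : ℂ) := by
  classical
  letI : CommGroup A := { (inferInstance : Group A) with mul_comm := hA }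
  have hcard : Nat.card (IrrCharacter A) = Nat.card A := by
    rw [card_irr]
    exact (Nat.card_congr (ConjClasses.mkEquiv (α := A))).symm
  refine ⟨hcard, fun χ => ?_⟩
  let f : (A →* ℂˣ) → IrrCharacter A := fun l => ⟨fun g => (l g : ℂ), isIrrCharacter_linear l⟩
  have hf : Function.Injective f := fun l l' h =>
    MonoidHom.ext fun g => Units.ext (congrFun (congrArg Subtype.val h) g)
  have hb : Function.Bijective f := hf.bijective_of_nat_card_le (by
    rw [hcard, CommGroup.card_monoidHom_of_hasEnoughRootsOfUnity])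
  obtain ⟨l, hl⟩ := hb.2 χ
  exact ⟨l, by rw [← hl]⟩

variable {G : Type u} [Group G] [Fintype G] {Ω : Type v} [MulAction G Ω] [Finite Ω]

/-- The number of orbits of a point stabiliser is the norm of the permutation character. -/
theorem norm_perm [IsPretransitive G Ω] (p : Ω) :
    classInner (fun g : G => (Nat.card (fixedBy Ω g) : ℂ)) (fun g : G => (Nat.card (fixedBy Ω g) : ℂ)) =
      (Nat.card (orbitRel.Quotient (stabilizer G p) Ω) : ℂ) := by
  classical
  set S := stabilizer G p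
  haveI := Fintype.ofFinite S
  haveI := Fintype.ofFinite Ω
  haveI := Fintype.ofFinite (orbitRel.Quotient S Ω)
  set φ : G → ℂ := fun g => (Nat.card (fixedBy Ω g) : ℂ)
  have hφ : φ = indFun S (fun _ => 1) := funext fun g => card_fixedBy_eq_indFun p g
  have hcf : IsClassFunction G φ := hφ ▸ isClassFunction_indFun S _
  conv_lhs => arg 1; rw [hφ]
  rw [frobenius S _ hcf, classInner]
  have h := sum_card_fixedBy_eq_card_orbits_mul_card_group S Ω
  have h' : ∑ s : S, (1 : ℂ) * conj (φ (s : G)) =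
      ((Fintype.card (orbitRel.Quotient S Ω) * Fintype.card S : ℕ) : ℂ) := by
    rw [← h, Nat.cast_sum]
    refine Finset.sum_congr rfl fun s _ => ?_
    rw [one_mul, map_natCast, ← Nat.card_eq_fintype_card]
    rfl
  rw [h', Nat.cast_mul, Nat.card_eq_fintype_card, Nat.card_eq_fintype_card]
  field_simp

variable {p : Ω} {F C : Subgroup G} (hab : ∀ x ∈ F, ∀ y ∈ F, x * y = y * x)
  (hreg : ∀ x : Ω, ∃! f : G, f ∈ F ∧ f • p = x) (hCp : C ≤ stabilizer G p)
  (hnorm : ∀ c ∈ C, ∀ f ∈ F, c * f * c⁻¹ ∈ F)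
  (hfree : ∀ c ∈ C, ∀ f ∈ F, c * f * c⁻¹ = f → c = 1 ∨ f = 1)
  (hTI : ∀ f ∈ F, f ≠ 1 → ∀ g : G, g * f * g⁻¹ ∈ F → ∃ f' ∈ F, ∃ c ∈ C, g = f' * c)

include hreg in
theorem eq_one_of_fix {f : G} (hf : f ∈ F) (h : f • p = p) : f = 1 :=
  (hreg p).unique ⟨hf, h⟩ ⟨one_mem _, one_smul _ _⟩

include hab hreg hCp hnorm hfree hTI

/-- **A doubly transitive group, or the orbits of the complement.** -/
theorem transitive_or_orbits :
    (∀ x y : Ω, x ≠ p → y ≠ p → ∃ g ∈ stabilizer G p, g • x = y) ∨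
      ∀ g ∈ stabilizer G p, ∀ x : Ω, ∃ c ∈ C, c • x = g • x := by
  classical
  haveI : IsPretransitive G Ω := ⟨fun x y => by
    obtain ⟨f, ⟨-, hf⟩, -⟩ := hreg x
    obtain ⟨f', ⟨-, hf'⟩, -⟩ := hreg y
    exact ⟨f' * f⁻¹, by rw [← hf, mul_smul, inv_smul_smul, hf']⟩⟩
  set S := stabilizer G p with hS
  haveI := Fintype.ofFinite S
  haveI := Fintype.ofFinite F
  haveI := Fintype.ofFinite C
  haveI := Fintype.ofFinite Ω
  obtain ⟨hcardF, hlin⟩ := irr_comm (A := F) fun x y => Subtype.ext (hab x x.2 y y.2)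
  set φ : G → ℂ := fun g => (Nat.card (fixedBy Ω g) : ℂ) with hφdef
  have hφ : φ = indFun S (fun _ => 1) := funext fun g => card_fixedBy_eq_indFun p g
  have hφc : IsCharacter G φ := hφ ▸ isCharacter_indFun S isCharacter_one
  have hbij : Function.Bijective fun f : F => (f : G) • p :=
    ⟨fun f f' h => Subtype.ext ((hreg _).unique ⟨f.2, h⟩ ⟨f'.2, rfl⟩),
      fun x => by obtain ⟨f, ⟨hf, hfx⟩, -⟩ := hreg x; exact ⟨⟨f, hf⟩, hfx⟩⟩
  have hΩ : Nat.card Ω = Nat.card F := (Nat.card_eq_of_bijective _ hbij).symm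
  -- multiplicities
  choose m hm using fun ξ : IrrCharacter G => classInner_natCast hφc (irr_isCharacter ξ.2)
  choose a ha using fun (ξ : IrrCharacter G) (θ : IrrCharacter F) =>
    classInner_natCast (irr_isCharacter θ.2) (isCharacter_comp F.subtype (irr_isCharacter ξ.2))
  have hexp : φ = ∑ ξ, (m ξ : ℂ) • (ξ : G → ℂ) := by
    conv_lhs => rw [char_expansion hφc]
    exact Finset.sum_congr rfl fun ξ _ => by rw [hm]
  have hone : ∀ θ : IrrCharacter F, (θ : F → ℂ) 1 = 1 := fun θ => by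
    obtain ⟨l, hl⟩ := hlin θ
    rw [hl]
    show ((l 1 : ℂˣ) : ℂ) = 1
    rw [map_one, Units.val_one]
  have hsum : ∀ θ : IrrCharacter F, ∑ ξ, m ξ * a ξ θ = 1 := fun θ => by
    have h1 : classInner (θ : F → ℂ) (fun f : F => φ f) = 1 := by
      rw [classInner, Finset.sum_eq_single (1 : F)]
      · rw [hone, one_mul, hφdef, map_natCast]
        show (Nat.card F : ℂ)⁻¹ * (Nat.card (fixedBy Ω ((1 : F) : G)) : ℂ) = 1
        rw [OneMemClass.coe_one, fixedBy_one_eq_univ, Nat.card_univ, hΩ,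
          inv_mul_cancel₀ (Nat.cast_ne_zero.2 Nat.card_pos.ne')]
      · intro f _ hf
        have he : fixedBy Ω (f : G) = ∅ := by
          refine Set.eq_empty_iff_forall_notMem.2 fun x hx => hf (Subtype.ext (eq_one_of_fix hreg f.2 ?_))
          obtain ⟨f', ⟨hf', hfx⟩, -⟩ := hreg x
          rw [mem_fixedBy, ← hfx, smul_smul, hab _ f.2 _ hf', ← smul_smul] at hx
          exact smul_left_cancel f' hx
        rw [hφdef]
        simp [he]
      · exact fun h => absurd (Finset.mem_univ _) h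
    have h2 : classInner (θ : F → ℂ) (fun f : F => φ f) = ∑ ξ, (m ξ : ℂ) * (a ξ θ : ℂ) := by
      rw [show (fun f : F => φ f) = ∑ ξ, (m ξ : ℂ) • (fun f : F => (ξ : G → ℂ) f) by
        funext f; conv_lhs => rw [hexp]
        simp [Finset.sum_apply]]
      rw [classInner_sum_right]
      refine Finset.sum_congr rfl fun ξ _ => ?_
      rw [classInner_smul_right, map_natCast]
      exact congrArg _ (ha ξ θ)
    exact_mod_cast (h2.symm.trans h1)
  have hex : ∀ θ : IrrCharacter F, ∃ ξ, m ξ = 1 ∧ a ξ θ = 1 ∧ ∀ η, η ≠ ξ → m η * a η θ = 0 := fun θ => by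
    obtain ⟨ξ, hξ⟩ : ∃ ξ, m ξ * a ξ θ ≠ 0 := by
      by_contra h
      push Not at h
      have := hsum θ
      simp [h] at this
    have h1 := hsum θ
    rw [← Finset.add_sum_erase _ _ (Finset.mem_univ ξ)] at h1
    have h3 : m ξ * a ξ θ = 1 := by
      have := Nat.pos_of_ne_zero hξ
      omega
    refine ⟨ξ, Nat.eq_one_of_mul_eq_one_right h3, Nat.eq_one_of_mul_eq_one_left h3, fun η hη => ?_⟩
    have h4 : ∑ x ∈ Finset.univ.erase ξ, m x * a x θ = 0 := by omega
    exact (Finset.sum_eq_zero_iff.1 h4) η (Finset.mem_erase.2 ⟨hη, Finset.mem_univ _⟩)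
  choose Ξ hΞm hΞa hΞu using hex
  have huniq : ∀ θ η, m η * a η θ ≠ 0 → η = Ξ θ := fun θ η h => by
    by_contra hne
    exact h (hΞu θ η hne)
  -- the trivial characters
  set o : IrrCharacter F := ⟨fun g => ((1 : F →* ℂˣ) g : ℂ), isIrrCharacter_linear 1⟩ with ho
  set O : IrrCharacter G := ⟨fun g => ((1 : G →* ℂˣ) g : ℂ), isIrrCharacter_linear 1⟩ with hO
  have hmO : m O = 1 := by
    have h := hm O
    rw [hφ, frobenius S _ (isClassFunction_character (irr_isCharacter O.2))] at h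
    have h' : classInner (fun _ : S => (1 : ℂ)) (fun s : S => (O : G → ℂ) s) = 1 := by
      simp [classInner, hO]
    rw [h'] at h
    exact_mod_cast h.symm
  have haO : ∀ θ, a O θ = if θ = o then 1 else 0 := fun θ => by
    have h := ha O θ
    rw [show (⇑F.subtype : F → G) = Subtype.val from rfl] at h
    have h' : classInner (θ : F → ℂ) (o : F → ℂ) = (a O θ : ℂ) := by
      rw [← h]; congr 1
    rw [irrC_orth] at h'
    split_ifs at h' ⊢ with e <;> exact_mod_cast h'.symm
  have hΞo : Ξ o = O := (huniq o O (by rw [hmO, haO, if_pos rfl]; exact one_ne_zero)).symm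
  have hΞne : ∀ θ, θ ≠ o → Ξ θ ≠ O := fun θ hθ e => by
    have h := hΞa θ
    rw [e, haO, if_neg hθ] at h
    exact one_ne_zero h.symm
  -- the constituents
  set K : Finset (IrrCharacter F) := Finset.univ.erase o with hK
  have hnorm1 : classInner φ φ = ((Finset.univ.image Ξ).card : ℂ) := by
    have h1 := classInner_int_combination (θ := φ) (z := fun ξ => (m ξ : ℤ))
      (hexp.trans (Finset.sum_congr rfl fun ξ _ => by push_cast; rfl))
    rw [h1]
    have h2 : ∀ ξ, m ξ ≠ 0 → ξ ∈ Finset.univ.image Ξ ∧ m ξ = 1 := fun ξ hξ => by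
      obtain ⟨θ, hθ⟩ : ∃ θ, a ξ θ ≠ 0 := by
        by_contra h
        push Not at h
        refine irr_one_ne_zero ξ.2 ?_
        have h3 : (ξ : G → ℂ) ∘ F.subtype = 0 := by
          rw [char_expansion (isCharacter_comp F.subtype (irr_isCharacter ξ.2))]
          refine Finset.sum_eq_zero fun θ _ => ?_
          rw [← classInner_symm]
          have := ha ξ θ
          rw [h θ, Nat.cast_zero] at this
          rw [this, map_zero, zero_smul]
        exact congrFun h3 1
      have e := huniq θ ξ (Nat.mul_ne_zero hξ hθ)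
      exact ⟨Finset.mem_image.2 ⟨θ, Finset.mem_univ _, e.symm⟩, e ▸ hΞm θ⟩
    norm_cast
    rw [← Finset.sum_subset (Finset.subset_univ (Finset.univ.image Ξ)) fun ξ _ hξ => by
      by_cases h : m ξ = 0
      · simp [h]
      · exact absurd (h2 ξ h).1 hξ]
    rw [Finset.sum_congr rfl (g := fun _ => 1) fun ξ hξ => ?_, Finset.sum_const, smul_eq_mul, mul_one]
    obtain ⟨θ, -, rfl⟩ := Finset.mem_image.1 hξ
    rw [hΞm]
  have himage : (Finset.univ.image Ξ).card = (K.image Ξ).card + 1 := by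
    rw [← Finset.insert_erase (Finset.mem_univ o), Finset.image_insert, ← hK, hΞo,
      Finset.card_insert_of_notMem]
    intro h
    obtain ⟨θ, hθ, e⟩ := Finset.mem_image.1 h
    exact hΞne θ (Finset.ne_of_mem_erase hθ) e
  have horbS : Nat.card (orbitRel.Quotient S Ω) = (K.image Ξ).card + 1 := by
    rw [← himage]
    exact_mod_cast (norm_perm (G := G) p).symm.trans hnorm1
  -- twisting by the complement
  let cjF : C → MulAut F := fun c =>
    { toFun := fun f => ⟨(c : G) * f * (c : G)⁻¹, hnorm _ c.2 _ f.2⟩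
      invFun := fun f => ⟨(c : G)⁻¹ * f * (c : G), by
        have := hnorm _ (inv_mem c.2) _ f.2
        rwa [inv_inv] at this⟩
      left_inv := fun f => Subtype.ext (by group)
      right_inv := fun f => Subtype.ext (by group)
      map_mul' := fun f f' => Subtype.ext (by simp only [Subgroup.coe_mul]; group) }
  have hcjF : ∀ (c : C) (f : F), ((cjF c f : F) : G) = (c : G) * f * (c : G)⁻¹ := fun c f => rfl
  let tw : C → IrrCharacter F → IrrCharacter F := fun c θ => irrComp (cjF c) θ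
  have htw : ∀ c θ (f : F), (tw c θ : F → ℂ) f = (θ : F → ℂ) (cjF c f) := fun c θ f => rfl
  have htw_one : ∀ θ, tw 1 θ = θ := fun θ => Subtype.ext (funext fun f => by
    rw [htw, show cjF 1 f = f from Subtype.ext (by rw [hcjF]; simp)])
  have hfreeI : ∀ θ, θ ≠ o → ∀ c, tw c θ = θ → c = 1 := by
    intro θ hθ c h
    by_contra hc
    obtain ⟨l, hl⟩ := hlin θ
    let g : F → F := fun f => cjF c f * f⁻¹
    have hg : Function.Injective g := fun f f' e => by
      have e' : (c : G) * f * (c : G)⁻¹ * (f : G)⁻¹ = (c : G) * f' * (c : G)⁻¹ * (f' : G)⁻¹ :=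
        congrArg Subtype.val e
      have hc' : (c : G) * ((f' : G)⁻¹ * f) * (c : G)⁻¹ = (f' : G)⁻¹ * f := by
        calc (c : G) * ((f' : G)⁻¹ * f) * (c : G)⁻¹
            = ((c : G) * f' * (c : G)⁻¹)⁻¹ * ((c : G) * f * (c : G)⁻¹ * (f : G)⁻¹) * f := by group
          _ = ((c : G) * f' * (c : G)⁻¹)⁻¹ * ((c : G) * f' * (c : G)⁻¹ * (f' : G)⁻¹) * f := by rw [e']
          _ = _ := by group
      rcases hfree _ c.2 _ (F.mul_mem (F.inv_mem f'.2) f.2) hc' with h1 | h1
      · exact absurd (Subtype.ext h1) hc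
      · exact Subtype.ext (inv_mul_eq_one.1 h1).symm
    refine hθ (Subtype.ext (funext fun f => ?_))
    obtain ⟨f', rfl⟩ := Finite.injective_iff_surjective.1 hg f
    have h1 := congrFun (congrArg Subtype.val h) f'
    rw [htw, hl] at h1
    rw [hl, ho]
    show ((l (cjF c f' * f'⁻¹) : ℂˣ) : ℂ) = 1
    rw [map_mul, map_inv, Units.ext h1, mul_inv_cancel, Units.val_one]
  have hinv : ∀ ξ c θ, a ξ (tw c θ) = a ξ θ := fun ξ c θ => by
    have h1 := ha ξ (tw c θ)
    have h2 := ha ξ θ
    have h3 : classInner (tw c θ : F → ℂ) (fun f : F => (ξ : G → ℂ) (F.subtype f)) =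
        classInner (θ : F → ℂ) (fun f : F => (ξ : G → ℂ) (F.subtype f)) := by
      simp only [classInner]
      congr 1
      refine Fintype.sum_equiv (cjF c).toEquiv _ _ fun f => ?_
      rw [htw]
      congr 2
      exact (isClassFunction_character (irr_isCharacter ξ.2) f c).symm
    exact_mod_cast (h1.symm.trans h3).trans h2
  have hΞinv : ∀ c θ, Ξ (tw c θ) = Ξ θ := fun c θ =>
    (huniq _ _ (by rw [hinv, hΞm, hΞa]; exact one_ne_zero)).symm
  -- induction from `F`
  have hres : ∀ (f : F → ℂ), IsClassFunction F f → ∀ x : F, x ≠ 1 →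
      indFun F f x = ∑ c : C, f (cjF c x) := by
    intro f _ x hx
    let e : F × C → G := fun q => ((q.1 : G) * q.2)⁻¹
    have he : Function.Injective e := by
      rintro ⟨f₁, c₁⟩ ⟨f₂, c₂⟩ h
      have h' : (f₁ : G) * c₁ = f₂ * c₂ := inv_injective h
      have h'' : ((f₂ : G)⁻¹ * f₁) • p = p := by
        rw [show (f₂ : G)⁻¹ * f₁ = c₂ * (c₁ : G)⁻¹ by
          calc (f₂ : G)⁻¹ * f₁ = (f₂ : G)⁻¹ * (f₁ * c₁) * (c₁ : G)⁻¹ := by group
            _ = _ := by rw [h']; group]
        exact S.mul_mem (hCp c₂.2) (S.inv_mem (hCp c₁.2))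
      have hf : f₁ = f₂ := Subtype.ext
        (inv_mul_eq_one.1 (eq_one_of_fix hreg (F.mul_mem (F.inv_mem f₂.2) f₁.2) h'')).symm
      subst hf
      exact Prod.ext rfl (Subtype.ext (mul_left_cancel h'))
    rw [indFun]
    have hsum' : ∑ g : G, extendByZero F f (g⁻¹ * (x : G) * g) =
        ∑ q : F × C, extendByZero F f ((e q)⁻¹ * (x : G) * e q) := by
      rw [← Finset.sum_image (f := fun g : G => extendByZero F f (g⁻¹ * (x : G) * g)) fun q _ q' _ h => he h]
      refine (Finset.sum_subset (Finset.subset_univ _) fun g _ hg => ?_).symm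
      refine extendByZero_not_mem F f fun hmem => hg ?_
      obtain ⟨f', hf', c, hc, e'⟩ := hTI x x.2 (fun e => hx (Subtype.ext e)) g⁻¹ (by rwa [inv_inv])
      exact Finset.mem_image.2 ⟨(⟨f', hf'⟩, ⟨c, hc⟩), Finset.mem_univ _, by
        show (f' * c)⁻¹ = g
        rw [← e', inv_inv]⟩
    have hq : ∀ q : F × C, extendByZero F f ((e q)⁻¹ * (x : G) * e q) = f (cjF q.2 x) := fun q => by
      have e' : (e q)⁻¹ * (x : G) * e q = ((cjF q.2 x : F) : G) := by
        rw [hcjF]
        show ((q.1 : G) * q.2)⁻¹⁻¹ * x * ((q.1 : G) * q.2)⁻¹ = _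
        calc ((q.1 : G) * q.2)⁻¹⁻¹ * x * ((q.1 : G) * q.2)⁻¹
            = (q.1 : G) * ((q.2 : G) * x * (q.2 : G)⁻¹) * (q.1 : G)⁻¹ := by group
          _ = (q.2 : G) * x * (q.2 : G)⁻¹ * q.1 * (q.1 : G)⁻¹ := by
            rw [hab _ q.1.2 _ (hnorm _ q.2.2 _ x.2)]
          _ = _ := by group
      rw [e', extendByZero_mem F f (cjF q.2 x).2]
    rw [hsum', Finset.sum_congr rfl fun q _ => hq q, Fintype.sum_prod_type, Finset.sum_comm]
    simp only [Finset.sum_const, ← Finset.smul_sum]
    rw [Finset.card_univ, nsmul_eq_mul, ← Nat.card_eq_fintype_card, ← mul_assoc,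
      inv_mul_cancel₀ (Nat.cast_ne_zero.2 Nat.card_pos.ne'), one_mul]
  let D : IrrCharacter F → IrrCharacter F → G → ℂ := fun θ η => indFun F ((θ : F → ℂ) - (η : F → ℂ))
  have hDnorm : ∀ θ η, θ ≠ o → η ≠ o → (∀ c, tw c θ ≠ η) → classInner (D θ η) (D θ η) = 2 := by
    intro θ η hθ hη hn
    have hn' : ∀ c, θ ≠ tw c η := fun c e => hn c⁻¹ (by
      rw [e]
      refine Subtype.ext (funext fun f => ?_)
      rw [htw, htw, show cjF c (cjF c⁻¹ f) = f from Subtype.ext (by
        rw [hcjF, hcjF, Subgroup.coe_inv]; group)])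
    set b : F → ℂ := (θ : F → ℂ) - (η : F → ℂ) with hb
    rw [frobenius F _ (isClassFunction_indFun F _)]
    have hpt : classInner b (fun f : F => indFun F b f) =
        ∑ c : C, classInner b ((tw c θ : F → ℂ) - (tw c η : F → ℂ)) := by
      simp only [classInner]
      rw [← Finset.mul_sum, Finset.sum_comm]
      congr 1
      refine Finset.sum_congr rfl fun f _ => ?_
      rw [← Finset.mul_sum, ← map_sum]
      by_cases hf : f = 1
      · subst hf
        simp [hb, hone]
      · rw [hres b (fun x y => by rw [show y * x * y⁻¹ = x by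
          apply Subtype.ext
          rw [Subgroup.coe_mul, Subgroup.coe_mul, Subgroup.coe_inv, hab _ y.2 _ x.2, mul_inv_cancel_right]]) f hf]
        rfl
    rw [hpt, Finset.sum_eq_single (1 : C)]
    · rw [htw_one, htw_one, hb, classInner_sub_left, classInner_sub_right, classInner_sub_right,
        irrC_orth, irrC_orth, irrC_orth, irrC_orth, if_pos rfl, if_pos rfl,
        if_neg (fun e => hn 1 (by rw [htw_one, e])), if_neg (fun e => hn 1 (by rw [htw_one, e]))]
      norm_num
    · intro c _ hc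
      rw [hb, classInner_sub_left, classInner_sub_right, classInner_sub_right,
        irrC_orth, irrC_orth, irrC_orth, irrC_orth, if_neg (fun e => hc (hfreeI θ hθ c e.symm)),
        if_neg (hn' c), if_neg (fun e => hn c e.symm), if_neg (fun e => hc (hfreeI η hη c e.symm))]
      norm_num
    · exact fun h => absurd (Finset.mem_univ _) h
  have hD : ∀ θ η, θ ≠ o → η ≠ o → Ξ θ ≠ Ξ η → D θ η = (Ξ θ : G → ℂ) - (Ξ η : G → ℂ) := by
    intro θ η hθ hη hne
    have hgen : IsGeneralizedCharacter G (D θ η) :=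
      ⟨_, _, isCharacter_indFun F (irr_isCharacter θ.2), isCharacter_indFun F (irr_isCharacter η.2),
        indFun_sub F _ _⟩
    have hD1 : D θ η 1 = 0 := by
      show indFun F _ 1 = 0
      rw [indFun_one, Pi.sub_apply, hone, hone, sub_self, mul_zero]
    obtain ⟨A, B, -, hAB⟩ := exists_pair_of_norm_two hgen hD1
      (hDnorm θ η hθ hη fun c e => hne (by rw [← e, hΞinv]))
    have hin : ∀ ξ : IrrCharacter G, classInner (D θ η) (ξ : G → ℂ) = (a ξ θ : ℂ) - (a ξ η : ℂ) := fun ξ => by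
      show classInner (indFun F _) _ = _
      rw [frobenius F _ (isClassFunction_character (irr_isCharacter ξ.2)), classInner_sub_left]
      exact congrArg₂ (· - ·) (ha ξ θ) (ha ξ η)
    have h0 : ∀ α β, Ξ α ≠ Ξ β → a (Ξ α) β = 0 := fun α β h => by
      have := hΞu β (Ξ α) h
      rwa [hΞm, one_mul] at this
    have hA : A = Ξ θ := by
      have h := hin (Ξ θ)
      rw [hAB, classInner_sub_left, irrC_orth, irrC_orth, hΞa, h0 θ η hne] at h
      split_ifs at h with h1 h2 <;> first | exact h1 | (norm_num at h)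
    have hB : B = Ξ η := by
      have h := hin (Ξ η)
      rw [hAB, classInner_sub_left, irrC_orth, irrC_orth, hΞa, h0 η θ hne.symm] at h
      split_ifs at h with h1 h2 <;> first | assumption | (norm_num at h)
    rw [hAB, hA, hB]
  have hcls : ∀ x y : Ω, (∃ g ∈ S, g • x = y) ↔
      (Quotient.mk'' x : orbitRel.Quotient S Ω) = Quotient.mk'' y := fun x y => by
    rw [Quotient.eq'', orbitRel_apply]
    exact ⟨fun ⟨g, hg, e⟩ => ⟨⟨g, hg⟩⁻¹, by show g⁻¹ • y = x; rw [← e, inv_smul_smul]⟩,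
      fun ⟨g, e⟩ => ⟨((g⁻¹ : S) : G), (g⁻¹).2, by
        show ((g⁻¹ : S) : G) • x = y
        rw [← e, Subgroup.coe_inv]
        exact inv_smul_smul _ _⟩⟩
  by_cases hconst : (K.image Ξ).card ≤ 1
  · left
    intro x y hx hy
    rw [hcls]
    by_contra hne
    haveI := Fintype.ofFinite (orbitRel.Quotient S Ω)
    have hp : ∀ z, z ≠ p → (Quotient.mk'' p : orbitRel.Quotient S Ω) ≠ Quotient.mk'' z := fun z hz e => by
      obtain ⟨g, hg, e'⟩ := (hcls p z).2 e
      exact hz (e'.symm.trans hg)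
    have h3 : ({Quotient.mk'' p, Quotient.mk'' x, Quotient.mk'' y} : Finset (orbitRel.Quotient S Ω)).card = 3 :=
      Finset.card_eq_three.2 ⟨_, _, _, hp x hx, hp y hy, hne, rfl⟩
    have h4 := Finset.card_le_univ ({Quotient.mk'' p, Quotient.mk'' x, Quotient.mk'' y} :
      Finset (orbitRel.Quotient S Ω))
    rw [h3, ← Nat.card_eq_fintype_card, horbS] at h4
    omega
  right
  have hfib : ∀ θ η, θ ≠ o → η ≠ o → Ξ θ = Ξ η → ∃ c, tw c θ = η := by
    intro θ η hθ hη he
    obtain ⟨μ, hμ, hμne⟩ : ∃ μ, μ ≠ o ∧ Ξ μ ≠ Ξ θ := by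
      by_contra h
      push Not at h
      refine hconst (Finset.card_le_one.2 fun x hx y hy => ?_)
      obtain ⟨x', hx', rfl⟩ := Finset.mem_image.1 hx
      obtain ⟨y', hy', rfl⟩ := Finset.mem_image.1 hy
      rw [h x' (Finset.ne_of_mem_erase hx'), h y' (Finset.ne_of_mem_erase hy')]
    by_contra hn
    push Not at hn
    have h1 : D θ η = 0 := by
      have e : D θ η = D θ μ - D η μ := by
        show indFun F _ = indFun F _ - indFun F _
        rw [← indFun_sub]
        congr 1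
        abel
      rw [e, hD θ μ hθ hμ hμne.symm, hD η μ hη hμ (he ▸ hμne.symm), he, sub_self]
    have h2 := hDnorm θ η hθ hη hn
    rw [h1] at h2
    simp [classInner] at h2
  have hcard : K.card = (K.image Ξ).card * Nat.card C := by
    rw [Finset.card_eq_sum_card_image Ξ K, ← smul_eq_mul, ← Finset.sum_const]
    refine Finset.sum_congr rfl fun ξ hξ => ?_
    obtain ⟨θ, hθ, rfl⟩ := Finset.mem_image.1 hξ
    have hθo := Finset.ne_of_mem_erase hθ
    rw [Nat.card_eq_fintype_card, ← Finset.card_univ]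
    symm
    refine Finset.card_bij (fun c _ => tw c θ) (fun c _ => ?_) (fun c _ c' _ e => ?_) (fun η hη => ?_)
    · refine Finset.mem_filter.2 ⟨Finset.mem_erase.2 ⟨fun e => hΞne θ hθo ?_, Finset.mem_univ _⟩, hΞinv c θ⟩
      rw [← hΞinv c θ, e, hΞo]
    · have h : tw (c * c'⁻¹) θ = θ := by
        refine Subtype.ext (funext fun f => ?_)
        have h1 := congrFun (congrArg Subtype.val e) (cjF c'⁻¹ f)
        rw [htw, htw] at h1
        rw [htw, show cjF (c * c'⁻¹) f = cjF c (cjF c'⁻¹ f) from Subtype.ext (by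
          rw [hcjF, hcjF, hcjF, Subgroup.coe_mul]; group), h1,
          show cjF c' (cjF c'⁻¹ f) = f from Subtype.ext (by rw [hcjF, hcjF, Subgroup.coe_inv]; group)]
      exact mul_inv_eq_one.1 (hfreeI θ hθo _ h)
    · obtain ⟨hη1, hη2⟩ := Finset.mem_filter.1 hη
      obtain ⟨c, hc⟩ := hfib θ η hθo (Finset.ne_of_mem_erase hη1) hη2.symm
      exact ⟨c, Finset.mem_univ _, hc⟩
  have horbC : Nat.card (orbitRel.Quotient C Ω) = (K.image Ξ).card + 1 := by
    haveI := Fintype.ofFinite (orbitRel.Quotient C Ω)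
    have h := sum_card_fixedBy_eq_card_orbits_mul_card_group C Ω
    have hfix : ∀ c : C, c ≠ 1 → Fintype.card (fixedBy Ω c) = 1 := fun c hc => by
      refine Fintype.card_eq_one_iff.2 ⟨⟨p, hCp c.2⟩, fun ⟨x, hx⟩ => Subtype.ext ?_⟩
      obtain ⟨f, ⟨hf, rfl⟩, -⟩ := hreg x
      have h1 : ((c : G) * f * (c : G)⁻¹) • p = f • p := by
        rw [mul_smul, mul_smul, show (c : G)⁻¹ • p = p from S.inv_mem (hCp c.2)]
        exact hx
      rcases hfree _ c.2 _ hf ((hreg (f • p)).unique ⟨hnorm _ c.2 _ hf, h1⟩ ⟨hf, rfl⟩) with h2 | h2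
      · exact absurd (Subtype.ext h2) hc
      · show f • p = p
        rw [h2, one_smul]
    rw [← Finset.add_sum_erase _ _ (Finset.mem_univ (1 : C)),
      Finset.sum_congr rfl fun c hc => hfix c (Finset.ne_of_mem_erase hc), Finset.sum_const,
      Finset.card_erase_of_mem (Finset.mem_univ _), Finset.card_univ, smul_eq_mul, mul_one,
      ← Nat.card_eq_fintype_card, ← Nat.card_eq_fintype_card, ← Nat.card_eq_fintype_card,
      fixedBy_one_eq_univ, Nat.card_univ, hΩ] at h
    have hK' : K.card + 1 = Nat.card F := by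
      rw [hK, Finset.card_erase_add_one (Finset.mem_univ o), Finset.card_univ, ← Nat.card_eq_fintype_card,
        hcardF]
    have hpos : 0 < Nat.card C := Nat.card_pos
    refine (Nat.eq_of_mul_eq_mul_right hpos ?_).symm
    rw [add_mul, one_mul, ← hcard]
    have h' : Nat.card F + (Nat.card C - 1) = Nat.card (orbitRel.Quotient C Ω) * Nat.card C := h
    omega
  let q : orbitRel.Quotient C Ω → orbitRel.Quotient S Ω := Quotient.map' id fun x y hxy => by
    rw [orbitRel_apply] at hxy ⊢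
    obtain ⟨c, hc⟩ := hxy
    exact ⟨⟨c, hCp c.2⟩, hc⟩
  have hq : Function.Injective q := by
    haveI := Fintype.ofFinite (orbitRel.Quotient C Ω)
    refine Finite.injective_iff_surjective_of_equiv ?_ |>.2 ?_
    · exact Finite.equivFinOfCardEq horbC |>.trans (Finite.equivFinOfCardEq horbS).symm
    · exact fun z => Quotient.inductionOn' z fun x => ⟨Quotient.mk'' x, rfl⟩
  intro g hg x
  have he : q (Quotient.mk'' (g • x)) = q (Quotient.mk'' x) := by
    show (Quotient.mk'' (g • x) : orbitRel.Quotient S Ω) = Quotient.mk'' x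
    exact ((hcls x (g • x)).1 ⟨g, hg, rfl⟩).symm
  obtain ⟨c, hc⟩ := (orbitRel_apply ..).1 (Quotient.eq''.1 (hq he))
  exact ⟨c, c.2, hc⟩

omit [Fintype G] [MulAction G Ω] [Finite Ω] hab hreg hCp hnorm hfree hTI in
/-- A class of involutions on which such a subgroup is regular commutes pairwise, or its members are
isolated in it. -/
theorem commute_or_isolated [Finite G] {t : G} (ht : t * t = 1) {F C : Subgroup G}
    (hab : ∀ x ∈ F, ∀ y ∈ F, x * y = y * x)
    (hex : ∀ g : G, ∃ f ∈ F, f * t * f⁻¹ = g * t * g⁻¹) (hC : ∀ c ∈ C, c * t = t * c)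
    (hsemi : ∀ f ∈ F, f * t = t * f → f = 1) (hodd : Odd (Nat.card C))
    (hnorm : ∀ c ∈ C, ∀ f ∈ F, c * f * c⁻¹ ∈ F)
    (hfree : ∀ c ∈ C, ∀ f ∈ F, c * f * c⁻¹ = f → c = 1 ∨ f = 1)
    (hTI : ∀ f ∈ F, f ≠ 1 → ∀ g : G, g * f * g⁻¹ ∈ F → ∃ f' ∈ F, ∃ c ∈ C, g = f' * c) :
    (∀ g : G, Commute t (g * t * g⁻¹)) ∨ ∀ g : G, Commute t (g * t * g⁻¹) → g * t * g⁻¹ = t := by
  classical
  haveI := Fintype.ofFinite G
  let Ω := MulAction.orbit (ConjAct G) t
  letI : MulAction G Ω := MulAction.compHom Ω (ConjAct.toConjAct : G ≃* ConjAct G).toMonoidHom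
  have hsmul : ∀ (g : G) (x : Ω), ((g • x : Ω) : G) = g * (x : G) * g⁻¹ := fun g x => by
    show ((ConjAct.toConjAct g • x : Ω) : G) = _
    rw [MulAction.orbit.coe_smul, ConjAct.toConjAct_smul]
  haveI : Finite Ω := inferInstance
  set p : Ω := ⟨t, MulAction.mem_orbit_self t⟩ with hp
  have hpt : ∀ g : G, ((g • p : Ω) : G) = g * t * g⁻¹ := fun g => hsmul g p
  have hmem : ∀ x : Ω, ∃ g : G, g • p = x := fun ⟨x, hx⟩ => by
    obtain ⟨g, hg⟩ := hx
    exact ⟨ConjAct.ofConjAct g, Subtype.ext hg⟩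
  have hreg : ∀ x : Ω, ∃! f : G, f ∈ F ∧ f • p = x := fun x => by
    obtain ⟨g, rfl⟩ := hmem x
    obtain ⟨f, hf, e⟩ := hex g
    refine ⟨f, ⟨hf, Subtype.ext (by rw [hpt, hpt, e])⟩, fun f' ⟨hf', e'⟩ => ?_⟩
    refine (inv_mul_eq_one.1 (hsemi _ (mul_mem (inv_mem hf) hf') ?_)).symm
    have h1 : f' * t * f'⁻¹ = f * t * f⁻¹ := by rw [e, ← hpt, ← hpt, e']
    calc f⁻¹ * f' * t = f⁻¹ * (f' * t * f'⁻¹) * f' := by group
      _ = f⁻¹ * (f * t * f⁻¹) * f' := by rw [h1]
      _ = _ := by group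
  have hCp : C ≤ MulAction.stabilizer G p := fun c hc => Subtype.ext (by
    rw [hpt, hC c hc, mul_inv_cancel_right])
  have hstab : ∀ g : G, g ∈ MulAction.stabilizer G p ↔ g * t * g⁻¹ = t := fun g => by
    rw [MulAction.mem_stabilizer_iff, Subtype.ext_iff, hpt]
  rcases transitive_or_orbits hab hreg hCp hnorm hfree hTI with h | h
  · -- one orbit
    by_cases hall : ∀ g : G, Commute t (g * t * g⁻¹)
    · exact Or.inl hall
    right
    intro g hg
    by_contra hne
    push Not at hall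
    obtain ⟨g', hg'⟩ := hall
    have h1 : g • p ≠ p := fun e => hne (by rw [← hpt, e])
    have h2 : g' • p ≠ p := fun e => hg' (by rw [← hpt, e])
    obtain ⟨k, hk, hke⟩ := h _ _ h1 h2
    rw [hstab] at hk
    have h3 := congrArg Subtype.val hke
    rw [hsmul, hpt, hpt] at h3
    refine hg' ?_
    have h4 : k * (t * (g * t * g⁻¹)) * k⁻¹ = k * ((g * t * g⁻¹) * t) * k⁻¹ := by rw [hg.eq]
    show t * (g' * t * g'⁻¹) = g' * t * g'⁻¹ * t
    rw [← h3]
    conv_lhs => arg 1; rw [← hk]
    conv_rhs => arg 2; rw [← hk]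
    calc k * t * k⁻¹ * (k * (g * t * g⁻¹) * k⁻¹) = k * (t * (g * t * g⁻¹)) * k⁻¹ := by group
      _ = k * ((g * t * g⁻¹) * t) * k⁻¹ := h4
      _ = _ := by group
  · left
    intro g
    set x := g • p with hx
    have htp : t ∈ MulAction.stabilizer G p := (hstab t).2 (by rw [mul_inv_cancel_right])
    obtain ⟨c, hc, hcx⟩ := h t htp x
    by_cases hxp : x = p
    · rw [← hpt, ← hx, hxp]
    have hcc : (c * c) • x = x := by
      rw [mul_smul, hcx, ← mul_smul, hC c hc, mul_smul, hcx, ← mul_smul, ht, one_smul]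
    obtain ⟨f, ⟨hf, hfx⟩, -⟩ := hreg x
    have hcc1 : c * c = 1 := by
      have h1 : ((c * c) * f * (c * c)⁻¹) • p = f • p := by
        rw [mul_smul, mul_smul, show (c * c)⁻¹ • p = p from inv_mem (mul_mem (hCp hc) (hCp hc)), hfx, hcc]
      refine (hfree _ (mul_mem hc hc) _ hf
        ((hreg (f • p)).unique ⟨hnorm _ (mul_mem hc hc) _ hf, h1⟩ ⟨hf, rfl⟩)).resolve_right fun e => hxp ?_
      rw [← hfx, e, one_smul]
    have hc1 : c = 1 := by
      rw [← orderOf_eq_one_iff]
      have h1 : orderOf c ∣ 2 := orderOf_dvd_of_pow_eq_one (by rw [pow_two, hcc1])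
      have h2 := hodd.of_dvd_nat (Subgroup.orderOf_dvd_natCard C hc)
      exact Nat.dvd_one.1 ((Nat.coprime_two_left.2 h2) ▸ Nat.dvd_gcd h1 dvd_rfl)
    rw [hc1, one_smul] at hcx
    have h5 := congrArg Subtype.val hcx
    rw [hsmul t, hx, hpt] at h5
    show t * (g * t * g⁻¹) = g * t * g⁻¹ * t
    conv_rhs => rw [h5]
    group

end Cfsg.Agent.SEB.Endgame
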