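import Cfsg.Agent.Lib.Bender.Endgame
import Cfsg.Agent.Lib.Char.Convolution
import Cfsg.Agent.Lib.Char.Coprime
import Cfsg.Agent.Lib.Char.PermLemma
import Cfsg.Agent.Lib.Char.RelGlaubermanCentral
import Cfsg.Agent.Lib.Char.TwoDegreesPrime

/-!
# A transitive kernel with a semiregular abelian direct factor

If no member `u` of the class of `t` carries `t` to a conjugate of `t` by the factor, then `t` lies in
the kernel of a non-trivial constituent of the permutation character on its class.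
-/

set_option autoImplicit false
set_option linter.style.haveILetI false
set_option linter.unusedSectionVars false

open scoped ComplexConjugate
open Cfsg Cfsg.Agent.Char

namespace Cfsg.Agent.SEB.Endgame

universe u

variable {G : Type u} [Group G] [Fintype G]

/-- Summation over a product of two subgroups. -/
theorem sum_product (K C : Subgroup G) [Fintype K] [Fintype C] (h : ∀ g : G, ∃ k ∈ K, ∃ c ∈ C, g = k * c)
    (φ : G → ℂ) : ∑ k : K, ∑ c : C, φ ((k : G) * c) = (Nat.card ↥(K ⊓ C) : ℂ) * ∑ g : G, φ g := by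
  classical
  rw [← Fintype.sum_prod_type', ← Finset.sum_fiberwise_of_maps_to (s := Finset.univ) (t := Finset.univ)
    (g := fun q : K × C => (q.1 : G) * q.2) (fun _ _ => Finset.mem_univ _), Finset.mul_sum]
  refine Finset.sum_congr rfl fun g _ => ?_
  obtain ⟨k₀, hk₀, c₀, hc₀, rfl⟩ := h g
  rw [Finset.sum_congr rfl (g := fun _ : K × C => φ (k₀ * c₀)) fun q hq => by
    rw [(Finset.mem_filter.1 hq).2], Finset.sum_const, nsmul_eq_mul, ← Fintype.card_subtype,
    ← Nat.card_eq_fintype_card]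
  congr 2
  refine Nat.card_congr
    { toFun := fun q => ⟨k₀⁻¹ * (q.1.1 : G), K.mul_mem (K.inv_mem hk₀) q.1.1.2, by
        have e : (q.1.1 : G) * q.1.2 = k₀ * c₀ := q.2
        rw [show k₀⁻¹ * (q.1.1 : G) = c₀ * (q.1.2 : G)⁻¹ by
          calc k₀⁻¹ * (q.1.1 : G) = k₀⁻¹ * ((q.1.1 : G) * q.1.2) * (q.1.2 : G)⁻¹ := by group
            _ = _ := by rw [e]; group]
        exact C.mul_mem hc₀ (C.inv_mem q.1.2.2)⟩
      invFun := fun i => ⟨(⟨k₀ * i, K.mul_mem hk₀ i.2.1⟩, ⟨(i : G)⁻¹ * c₀, C.mul_mem (C.inv_mem i.2.2) hc₀⟩), by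
        show k₀ * (i : G) * ((i : G)⁻¹ * c₀) = k₀ * c₀
        group⟩
      left_inv := fun q => by
        have e : (q.1.1 : G) * q.1.2 = k₀ * c₀ := q.2
        refine Subtype.ext (Prod.ext (Subtype.ext ?_) (Subtype.ext ?_))
        · show k₀ * (k₀⁻¹ * (q.1.1 : G)) = q.1.1
          group
        · show (k₀⁻¹ * (q.1.1 : G))⁻¹ * c₀ = q.1.2
          calc (k₀⁻¹ * (q.1.1 : G))⁻¹ * c₀ = (q.1.1 : G)⁻¹ * (k₀ * c₀) := by group
            _ = _ := inv_mul_eq_of_eq_mul e.symm
      right_inv := fun i => Subtype.ext (by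
        show k₀⁻¹ * (k₀ * (i : G)) = i
        group) }

/-- A fixed-point-free automorphism fixes no irreducible character but the trivial one. -/
theorem eq_one_of_fixed {Q : Type u} [Group Q] [Fintype Q] (α : MulAut Q)
    (hfree : ∀ x, α x = x → x = 1) {θ : IrrCharacter Q} (h : irrComp α θ = θ) :
    (θ : Q → ℂ) = fun _ => 1 := by
  classical
  have hcls : Nat.card {C : ConjClasses Q // ConjClasses.map α.toMonoidHom C = C} = 1 := by
    refine Nat.card_eq_one_iff_unique.2 ⟨⟨?_⟩, ⟨⟨ConjClasses.mk 1, ?_⟩⟩⟩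
    swap
    · show ConjClasses.mk (α 1) = ConjClasses.mk 1
      rw [map_one]
    have key : ∀ C : ConjClasses Q, ConjClasses.map α.toMonoidHom C = C → C = ConjClasses.mk 1 := by
      intro C hC
      obtain ⟨x, rfl⟩ := ConjClasses.mk_surjective C
      have h1 : IsConj (α x) x := ConjClasses.mk_eq_mk_iff_isConj.1 hC
      obtain ⟨y, hy⟩ := isConj_iff.1 h1
      have hinj : Function.Injective fun z : Q => z⁻¹ * α z := fun z w e => by
        have h2 : α (w * z⁻¹) = w * z⁻¹ := by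
          have e' : α z = z * (w⁻¹ * α w) := by
            rw [← show z⁻¹ * α z = w⁻¹ * α w from e, mul_inv_cancel_left]
          rw [map_mul, map_inv, e']
          group
        exact (mul_inv_eq_one.1 (hfree _ h2)).symm
      obtain ⟨w, hw⟩ := Finite.injective_iff_surjective.1 hinj y
      have hαw : α w = w * y := by rw [← show w⁻¹ * α w = y from hw, mul_inv_cancel_left]
      have hfix : α (w * x * w⁻¹) = w * x * w⁻¹ := by
        rw [map_mul, map_mul, map_inv, hαw, show α x = y⁻¹ * x * y from (by rw [mul_assoc, eq_mul_inv_iff_mul_eq.1 hy.symm]; group : α x = y⁻¹ * x * y)]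
        group
      have h1 : x = 1 := by
        have h2 := hfree _ hfix
        calc x = w⁻¹ * (w * x * w⁻¹) * w := by group
          _ = 1 := by rw [h2]; group
      rw [h1]
    rintro ⟨C, hC⟩ ⟨C', hC'⟩
    exact Subtype.ext ((key C hC).trans (key C' hC').symm)
  rw [← card_fixed_irr_eq_card_fixed_classes, Nat.card_eq_one_iff_unique] at hcls
  haveI := hcls.1
  have e := Subsingleton.elim (α := {χ : IrrCharacter Q // irrComp α χ = χ}) ⟨θ, h⟩
    ⟨⟨fun _ => 1, isIrrCharacter_one⟩, rfl⟩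
  exact congrArg (fun z : {χ : IrrCharacter Q // irrComp α χ = χ} => (z.1 : Q → ℂ)) e

/-- The induced function of a fixed-point-free trivial intersection configuration. -/
theorem res_indFun {F C : Subgroup G} [Fintype F] [Fintype C] (hn : ∀ c ∈ C, ∀ f ∈ F, c * f * c⁻¹ ∈ F)
    (hFC : F ⊓ C = ⊥) (δ : F → ℂ) (hδ : IsClassFunction F δ) {x : F}
    (hTI : ∀ g : G, g * (x : G) * g⁻¹ ∈ F → ∃ f' ∈ F, ∃ c ∈ C, g = f' * c) :
    indFun F δ x = ∑ c : C, δ ⟨(c : G) * x * (c : G)⁻¹, hn _ c.2 _ x.2⟩ := by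
  classical
  let e : F × C → G := fun q => ((q.1 : G) * q.2)⁻¹
  have he : Function.Injective e := by
    rintro ⟨f₁, c₁⟩ ⟨f₂, c₂⟩ h
    have h' : (f₁ : G) * c₁ = f₂ * c₂ := inv_injective h
    have h1 : (f₂ : G)⁻¹ * f₁ ∈ F ⊓ C := ⟨F.mul_mem (F.inv_mem f₂.2) f₁.2, by
      rw [show (f₂ : G)⁻¹ * f₁ = c₂ * (c₁ : G)⁻¹ by
        calc (f₂ : G)⁻¹ * f₁ = (f₂ : G)⁻¹ * (f₁ * c₁) * (c₁ : G)⁻¹ := by group
          _ = _ := by rw [h']; group]
      exact C.mul_mem c₂.2 (C.inv_mem c₁.2)⟩
    rw [hFC, Subgroup.mem_bot, inv_mul_eq_one] at h1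
    obtain rfl : f₂ = f₁ := Subtype.ext h1
    exact Prod.ext rfl (Subtype.ext (mul_left_cancel h'))
  rw [indFun]
  have hsum' : ∑ g : G, extendByZero F δ (g⁻¹ * (x : G) * g) =
      ∑ q : F × C, extendByZero F δ ((e q)⁻¹ * (x : G) * e q) := by
    rw [← Finset.sum_image (f := fun g : G => extendByZero F δ (g⁻¹ * (x : G) * g)) fun q _ q' _ h => he h]
    refine (Finset.sum_subset (Finset.subset_univ _) fun g _ hg => ?_).symm
    refine extendByZero_not_mem F δ fun hmem => hg ?_
    obtain ⟨f', hf', c, hc, e'⟩ := hTI g⁻¹ (by rwa [inv_inv])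
    exact Finset.mem_image.2 ⟨(⟨f', hf'⟩, ⟨c, hc⟩), Finset.mem_univ _, by
      show (f' * c)⁻¹ = g
      rw [← e', inv_inv]⟩
  let u : C → ℂ := fun c => δ ⟨(c : G) * x * (c : G)⁻¹, hn _ c.2 _ x.2⟩
  have hq : ∀ q : F × C, extendByZero F δ ((e q)⁻¹ * (x : G) * e q) = u q.2 := fun q => by
    have e' : (e q)⁻¹ * (x : G) * e q =
        ((q.1 * ⟨(q.2 : G) * x * (q.2 : G)⁻¹, hn _ q.2.2 _ x.2⟩ * q.1⁻¹ : F) : G) := by
      show ((q.1 : G) * q.2)⁻¹⁻¹ * x * ((q.1 : G) * q.2)⁻¹ =
        (q.1 : G) * ((q.2 : G) * x * (q.2 : G)⁻¹) * (q.1 : G)⁻¹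
      group
    rw [e', extendByZero_mem F δ (SetLike.coe_mem _)]
    exact hδ _ _
  rw [hsum', Finset.sum_congr rfl fun q _ => hq q, Fintype.sum_prod_type, Finset.sum_comm]
  simp only [Finset.sum_const, ← Finset.smul_sum]
  rw [Finset.card_univ, nsmul_eq_mul, ← Nat.card_eq_fintype_card, ← mul_assoc,
    inv_mul_cancel₀ (Nat.cast_ne_zero.2 Nat.card_pos.ne'), one_mul]

/-- **No semiregular abelian factor of a transitive kernel avoids all swappers.** -/
theorem false_of_factor {t : G} (ht : t * t = 1) (ht1 : t ≠ 1) {F Q A C : Subgroup G}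
    (hQF : Q ≤ F) (hAF : A ≤ F) (hprod : ∀ f ∈ F, ∃ x ∈ Q, ∃ a ∈ A, f = x * a) (hQA : Q ⊓ A = ⊥)
    (hQAc : ∀ x ∈ Q, ∀ a ∈ A, x * a = a * x) (hAab : ∀ a ∈ A, ∀ b ∈ A, a * b = b * a) (hA : A ≠ ⊥)
    (hnQ : ∀ c ∈ C, ∀ x ∈ Q, c * x * c⁻¹ ∈ Q) (hnA : ∀ c ∈ C, ∀ a ∈ A, c * a * c⁻¹ ∈ A)
    (hfree : ∀ c ∈ C, ∀ f ∈ F, c * f * c⁻¹ = f → c = 1 ∨ f = 1) (hodd : Odd (Nat.card F))
    (hex : ∀ g : G, ∃ f ∈ F, f * t * f⁻¹ = g * t * g⁻¹) (hfixQ : ∀ f ∈ F, f * t = t * f → f ∈ Q)
    (hTI : ∀ f ∈ F, f ∉ Q → ∀ g : G, g * f * g⁻¹ ∈ F → ∃ f' ∈ F, ∃ c ∈ C, g = f' * c)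
    (hN0 : ∀ a ∈ A, a ≠ 1 → ∀ g : G, g * t * g⁻¹ * t * (g * t * g⁻¹)⁻¹ ≠ a * t * a⁻¹)
    (hK : ∀ K : Subgroup G, K.Normal → t ∈ K → A ≤ K) : False := by
  classical
  set Ct := Subgroup.centralizer ({t} : Set G) with hCt
  have hmemCt : ∀ {g : G}, g ∈ Ct ↔ g * t = t * g := Subgroup.mem_centralizer_singleton_iff
  haveI := Fintype.ofFinite F
  haveI := Fintype.ofFinite Ct
  haveI := Fintype.ofFinite C
  haveI := Fintype.ofFinite Q
  have hprodG : ∀ g : G, ∃ f ∈ F, ∃ c ∈ Ct, g = f * c := fun g => by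
    obtain ⟨f, hf, e⟩ := hex g
    refine ⟨f, hf, f⁻¹ * g, hmemCt.2 ?_, by group⟩
    calc f⁻¹ * g * t = f⁻¹ * (g * t * g⁻¹) * g := by group
      _ = f⁻¹ * (f * t * f⁻¹) * g := by rw [e]
      _ = _ := by group
  -- the two projections
  choose qp hqp ap hap hdec using fun f : F => hprod f f.2
  have huniq : ∀ x ∈ Q, ∀ y ∈ Q, ∀ a ∈ A, ∀ b ∈ A, x * a = y * b → x = y ∧ a = b := by
    intro x hx y hy a ha b hb h
    have h1 : y⁻¹ * x ∈ Q ⊓ A := ⟨Q.mul_mem (Q.inv_mem hy) hx, by
      rw [show y⁻¹ * x = b * a⁻¹ by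
        calc y⁻¹ * x = y⁻¹ * (x * a) * a⁻¹ := by group
          _ = _ := by rw [h]; group]
      exact A.mul_mem hb (A.inv_mem ha)⟩
    rw [hQA, Subgroup.mem_bot, inv_mul_eq_one] at h1
    subst h1
    exact ⟨rfl, mul_left_cancel h⟩
  have hmul : ∀ f g : F, qp (f * g) = qp f * qp g ∧ ap (f * g) = ap f * ap g := fun f g =>
    huniq _ (hqp _) _ (Q.mul_mem (hqp f) (hqp g)) _ (hap _) _ (A.mul_mem (hap f) (hap g)) (by
      rw [← hdec, Subgroup.coe_mul]
      conv_lhs => rw [hdec f, hdec g]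
      calc qp f * ap f * (qp g * ap g) = qp f * (ap f * qp g) * ap g := by group
        _ = qp f * (qp g * ap f) * ap g := by rw [hQAc _ (hqp g) _ (hap f)]
        _ = _ := by group)
  let pQ : F →* Q := MonoidHom.mk' (fun f => ⟨qp f, hqp f⟩) fun f g => Subtype.ext (hmul f g).1
  let pA : F →* A := MonoidHom.mk' (fun f => ⟨ap f, hap f⟩) fun f g => Subtype.ext (hmul f g).2
  have hval : ∀ f : F, (f : G) = (pQ f : G) * (pA f : G) := fun f => hdec f
  have hpQs : Function.Surjective pQ := fun x => by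
    refine ⟨⟨x, hQF x.2⟩, Subtype.ext ?_⟩
    exact (huniq _ (hqp _) _ x.2 _ (hap _) 1 A.one_mem (by rw [← hdec, mul_one])).1
  have hpA_one : ∀ f : F, pA f = 1 ↔ (f : G) ∈ Q := fun f => by
    constructor
    · intro h
      rw [hval f, h, OneMemClass.coe_one, mul_one]
      exact (pQ f).2
    · intro h
      exact Subtype.ext (huniq _ (hqp f) _ h _ (hap f) 1 A.one_mem (by rw [← hdec, mul_one])).2
  have hAcen : ∀ a ∈ A, ∀ f ∈ F, f * a = a * f := fun a ha f hf => by
    obtain ⟨x, hx, b, hb, rfl⟩ := hprod f hf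
    rw [mul_assoc, hAab b hb a ha, ← mul_assoc, hQAc x hx a ha, mul_assoc]
  have hnF : ∀ c ∈ C, ∀ f ∈ F, c * f * c⁻¹ ∈ F := fun c hc f hf => by
    obtain ⟨x, hx, a, ha, rfl⟩ := hprod f hf
    rw [show c * (x * a) * c⁻¹ = c * x * c⁻¹ * (c * a * c⁻¹) by group]
    exact F.mul_mem (hQF (hnQ c hc x hx)) (hAF (hnA c hc a ha))
  obtain ⟨a₀, ha₀, ha₀1⟩ := A.bot_or_exists_ne_one.resolve_left hA
  have hFC : F ⊓ C = ⊥ := by
    refine (Subgroup.eq_bot_iff_forall _).2 fun z hz => ?_
    refine (hfree z hz.2 a₀ (hAF ha₀) ?_).resolve_right ha₀1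
    rw [hAcen a₀ ha₀ z hz.1, mul_inv_cancel_right]
  have hQn : ∀ y ∈ F, ∀ x ∈ Q, y * x * y⁻¹ ∈ Q := fun y hy x hx => by
    obtain ⟨q, hq, a, ha, rfl⟩ := hprod y hy
    rw [show q * a * x * (q * a)⁻¹ = q * (a * x * a⁻¹) * q⁻¹ by group, ← hQAc x hx a ha, mul_inv_cancel_right]
    exact Q.mul_mem (Q.mul_mem hq hx) (Q.inv_mem hq)
  -- the permutation character
  set π : G → ℂ := indFun Ct (fun _ => 1) with hπ
  have hπc : IsCharacter G π := isCharacter_indFun Ct isCharacter_one
  choose μ hμ using fun ξ : IrrCharacter G =>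
    classInner_natCast (isCharacter_one (G := Ct)) (isCharacter_comp Ct.subtype (irr_isCharacter ξ.2))
  have hπμ : ∀ ξ : IrrCharacter G, classInner π (ξ : G → ℂ) = μ ξ := fun ξ =>
    (frobenius Ct _ (isClassFunction_character (irr_isCharacter ξ.2))).trans (hμ ξ)
  have hπ0 : ∀ f : F, (f : G) ∉ Q → π f = 0 := fun f hf => by
    rw [hπ, indFun, Finset.sum_eq_zero fun x _ => ?_, mul_zero]
    refine extendByZero_not_mem Ct _ fun h => hf ?_
    obtain ⟨y, hy, c, hc, rfl⟩ := hprodG x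
    have h1 : y⁻¹ * (f : G) * y ∈ Ct := by
      have h2 := Ct.mul_mem (Ct.mul_mem hc h) (Ct.inv_mem hc)
      rwa [show c * ((y * c)⁻¹ * (f : G) * (y * c)) * c⁻¹ = y⁻¹ * (f : G) * y by group] at h2
    have h3 := hQn y hy _ (hfixQ _ (F.mul_mem (F.mul_mem (F.inv_mem hy) f.2) hy) (hmemCt.1 h1))
    rwa [show y * (y⁻¹ * (f : G) * y) * y⁻¹ = (f : G) by group] at h3
  have hπlin : ∀ l : F →* ℂˣ, (∀ f : F, (f : G) ∈ Ct → l f = 1) →
      classInner (fun f : F => π f) (fun f : F => (l f : ℂ)) = 1 := by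
    intro l hl
    have h1 : ∀ x : G, ∑ f : F, extendByZero Ct (fun _ => (1 : ℂ)) (x⁻¹ * (f : G) * x) * conj (l f : ℂ) =
        (Nat.card ↥(F ⊓ Ct) : ℂ) := by
      intro x
      obtain ⟨y, hy, c, hc, rfl⟩ := hprodG x
      rw [← Fintype.sum_equiv (MulAut.conj (⟨y, hy⟩ : F)).toEquiv
        (fun f : F => if (f : G) ∈ Ct then (1 : ℂ) else 0) _ fun f => ?_]
      · rw [Finset.sum_boole, ← Fintype.card_subtype, ← Nat.card_eq_fintype_card]
        exact congrArg _ (Nat.card_congr
          { toFun := fun f => ⟨f.1, f.1.2, f.2⟩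
            invFun := fun g => ⟨⟨g, g.2.1⟩, g.2.2⟩
            left_inv := fun _ => rfl
            right_inv := fun _ => rfl })
      · show _ = extendByZero Ct _ ((y * c)⁻¹ * ((⟨y, hy⟩ * f * (⟨y, hy⟩ : F)⁻¹ : F) : G) * (y * c)) *
          conj ((l (⟨y, hy⟩ * f * (⟨y, hy⟩ : F)⁻¹) : ℂˣ) : ℂ)
        have hl' : l (⟨y, hy⟩ * f * (⟨y, hy⟩ : F)⁻¹) = l f := by
          rw [map_mul, map_mul, map_inv, mul_comm (l ⟨y, hy⟩), mul_inv_cancel_right]
        rw [hl', show (y * c)⁻¹ * ((⟨y, hy⟩ * f * (⟨y, hy⟩ : F)⁻¹ : F) : G) * (y * c) = c⁻¹ * f * c by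
          rw [Subgroup.coe_mul, Subgroup.coe_mul, Subgroup.coe_inv]; group]
        by_cases hf : (f : G) ∈ Ct
        · rw [if_pos hf, extendByZero_mem Ct _ (Ct.mul_mem (Ct.mul_mem (Ct.inv_mem hc) hf) hc), hl f hf]
          simp
        · rw [if_neg hf, extendByZero_not_mem Ct _ fun h => hf ?_, zero_mul]
          have h2 := Ct.mul_mem (Ct.mul_mem hc h) (Ct.inv_mem hc)
          rwa [show c * (c⁻¹ * (f : G) * c) * c⁻¹ = (f : G) by group] at h2
    have h2 := sum_product F Ct hprodG (fun _ => (1 : ℂ))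
    simp only [Finset.sum_const, Finset.card_univ, nsmul_eq_mul, mul_one, ← Nat.card_eq_fintype_card] at h2
    have e : ∀ f : F, π f * conj (l f : ℂ) = (Nat.card Ct : ℂ)⁻¹ *
        ∑ x : G, extendByZero Ct (fun _ => (1 : ℂ)) (x⁻¹ * (f : G) * x) * conj (l f : ℂ) := fun f => by
      rw [hπ, indFun, mul_assoc, Finset.sum_mul]
    rw [classInner, Finset.sum_congr rfl fun f _ => e f, ← Finset.mul_sum, Finset.sum_comm,
      Finset.sum_congr rfl fun x _ => h1 x, Finset.sum_const, Finset.card_univ, nsmul_eq_mul,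
      ← Nat.card_eq_fintype_card]
    have hF0 : (Nat.card F : ℂ) ≠ 0 := Nat.cast_ne_zero.2 Nat.card_pos.ne'
    have hC0 : (Nat.card Ct : ℂ) ≠ 0 := Nat.cast_ne_zero.2 Nat.card_pos.ne'
    field_simp
    linear_combination -h2
  -- the averaged count
  let M : G → ℂ := fun y => ∑ g : G, ∑ c : Ct, if y = g * t * g⁻¹ * c then 1 else 0
  set ψ : G → ℂ := fun x => ((Nat.card G : ℂ) * (Nat.card Ct : ℂ))⁻¹ * ∑ h : G, M (h * x * h⁻¹) with hψ
  have hψa : ∀ a ∈ A, a ≠ 1 → ψ a = 0 := by
    intro a ha ha1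
    rw [hψ]
    show _ * ∑ h : G, M (h * a * h⁻¹) = 0
    rw [Finset.sum_eq_zero, mul_zero]
    intro h _
    refine Finset.sum_eq_zero fun g _ => Finset.sum_eq_zero fun c _ => if_neg fun e => ?_
    obtain ⟨f, hf, d, hd, hfd⟩ := hprodG h⁻¹
    have hd' : d⁻¹ * a * d = h * a * h⁻¹ := by
      rw [show h = (f * d)⁻¹ by rw [← hfd, inv_inv]]
      calc d⁻¹ * a * d = d⁻¹ * (f⁻¹ * (f * a)) * d := by group
        _ = d⁻¹ * (f⁻¹ * (a * f)) * d := by rw [hAcen a ha f hf]
        _ = _ := by group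
    rw [← hd'] at e
    refine hN0 a ha ha1 (d * g) ?_
    have hdt : d * t * d⁻¹ = t := by rw [hmemCt.1 hd, mul_inv_cancel_right]
    have hct : (c : G) * t * (c : G)⁻¹ = t := by rw [hmemCt.1 c.2, mul_inv_cancel_right]
    have ha' : a = d * g * t * (d * g)⁻¹ * (d * (c : G) * d⁻¹) := by
      calc a = d * (d⁻¹ * a * d) * d⁻¹ := by group
        _ = d * (g * t * g⁻¹ * c) * d⁻¹ := by rw [e]
        _ = _ := by group
    have hc' : d * (c : G) * d⁻¹ * t * (d * (c : G) * d⁻¹)⁻¹ = t := by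
      calc d * (c : G) * d⁻¹ * t * (d * (c : G) * d⁻¹)⁻¹
          = d * ((c : G) * (d⁻¹ * t * d) * (c : G)⁻¹) * d⁻¹ := by group
        _ = d * ((c : G) * t * (c : G)⁻¹) * d⁻¹ := by
          rw [show d⁻¹ * t * d = t by rw [mul_assoc, ← hmemCt.1 hd, inv_mul_cancel_left]]
        _ = _ := by rw [hct, hdt]
    conv_rhs => rw [ha']
    calc d * g * t * (d * g)⁻¹ * t * (d * g * t * (d * g)⁻¹)⁻¹
        = d * g * t * (d * g)⁻¹ * (d * (c : G) * d⁻¹ * t * (d * (c : G) * d⁻¹)⁻¹) *
            (d * g * t * (d * g)⁻¹)⁻¹ := by rw [hc']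
      _ = _ := by group
  have hψcl : IsClassFunction G ψ := fun x y => by
    simp only [hψ]
    congr 1
    exact Fintype.sum_equiv (Equiv.mulRight y) _ _ fun h => by
      rw [Equiv.coe_mulRight]; congr 1; group
  let R : IrrCharacter G → ℂ := fun ξ => (μ ξ : ℂ) * conj ((ξ : G → ℂ) t) / (ξ : G → ℂ) 1
  have hψR : ∀ ξ : IrrCharacter G, classInner ψ (ξ : G → ℂ) = R ξ := by
    intro ξ
    have hG0 : (Nat.card G : ℂ) ≠ 0 := Nat.cast_ne_zero.2 Nat.card_pos.ne'
    have hC0 : (Nat.card Ct : ℂ) ≠ 0 := Nat.cast_ne_zero.2 Nat.card_pos.ne'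
    have hcl := isClassFunction_character (irr_isCharacter ξ.2)
    have h1 : ∑ x : G, (∑ h : G, M (h * x * h⁻¹)) * conj ((ξ : G → ℂ) x) =
        (Nat.card G : ℂ) * ∑ y : G, M y * conj ((ξ : G → ℂ) y) := by
      simp only [Finset.sum_mul]
      rw [Finset.sum_comm, Finset.sum_congr rfl fun h _ => show _ = ∑ y : G, M y * conj ((ξ : G → ℂ) y) from
        Fintype.sum_equiv (MulAut.conj h).toEquiv _ _ fun x => by
          show _ = M (h * x * h⁻¹) * conj ((ξ : G → ℂ) (h * x * h⁻¹))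
          rw [hcl x h],
        Finset.sum_const, Finset.card_univ, nsmul_eq_mul, ← Nat.card_eq_fintype_card]
    have h2 : ∑ y : G, M y * conj ((ξ : G → ℂ) y) =
        ∑ c : Ct, conj (∑ g : G, (ξ : G → ℂ) ((c : G) * (g * t * g⁻¹))) := by
      simp only [M, Finset.sum_mul, ite_mul, one_mul, zero_mul]
      rw [Finset.sum_comm, Finset.sum_congr rfl fun g _ => Finset.sum_comm, Finset.sum_comm]
      refine Finset.sum_congr rfl fun c _ => ?_
      rw [map_sum]
      refine Finset.sum_congr rfl fun g _ => ?_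
      rw [Finset.sum_ite_eq' Finset.univ (g * t * g⁻¹ * (c : G)), if_pos (Finset.mem_univ _),
        ← hcl (g * t * g⁻¹ * c) c]
      congr 2
      group
    have h3 : ∀ c : Ct, ∑ g : G, (ξ : G → ℂ) ((c : G) * (g * t * g⁻¹)) =
        (Nat.card G : ℂ) * (ξ : G → ℂ) c * (ξ : G → ℂ) t / (ξ : G → ℂ) 1 := fun c => by
      rw [← sum_conj_mul ξ.2 (c : G) t, mul_div_cancel_left₀ _ (irr_one_ne_zero ξ.2)]
    have h4 : ∑ c : Ct, conj ((ξ : G → ℂ) (c : G)) = (Nat.card Ct : ℂ) * μ ξ := by
      rw [← hμ ξ, classInner, ← mul_assoc, mul_inv_cancel₀ hC0, one_mul]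
      exact Finset.sum_congr rfl fun c _ => by rw [one_mul]; rfl
    simp only [classInner, hψ]
    rw [Finset.sum_congr rfl fun x _ => mul_assoc _ (∑ h : G, M (h * x * h⁻¹)) _, ← Finset.mul_sum, h1, h2, Finset.sum_congr rfl fun c _ => by rw [h3 c]]
    simp only [map_div₀, map_mul, map_natCast, conj_char_one (irr_isCharacter ξ.2), ← Finset.sum_div,
      ← Finset.sum_mul, ← Finset.mul_sum, h4, R]
    field_simp
  have hψexp : ψ = ∑ ξ : IrrCharacter G, R ξ • (ξ : G → ℂ) := by
    conv_lhs => rw [classFun_expansion hψcl]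
    exact Finset.sum_congr rfl fun ξ _ => by rw [hψR]
  let b : (F → ℂ) → ℂ := fun u => classInner (fun f : F => ψ f) u
  have hb : ∀ u : F → ℂ, b u = ∑ ξ : IrrCharacter G, R ξ * classInner (fun f : F => (ξ : G → ℂ) f) u := by
    intro u
    show classInner (fun f : F => ψ f) u = _
    rw [show (fun f : F => ψ f) = ∑ ξ, R ξ • (fun f : F => (ξ : G → ℂ) f) by
      funext f; conv_lhs => rw [hψexp]
      simp [Finset.sum_apply]]
    rw [classInner_sum_left]
    exact Finset.sum_congr rfl fun ξ _ => by rw [classInner_smul_left]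
  -- a linear character of the factor
  letI : CommGroup A := { (inferInstance : Group A) with
    mul_comm := fun x y => Subtype.ext (hAab x x.2 y y.2) }
  obtain ⟨l₀, hl₀⟩ : ∃ l : A →* ℂˣ, l ≠ 1 := by
    obtain ⟨l, hl⟩ := CommGroup.exists_apply_ne_one_of_hasEnoughRootsOfUnity A ℂ
      (a := ⟨a₀, ha₀⟩) fun e => ha₀1 (congrArg Subtype.val e)
    exact ⟨l, fun e => hl (by rw [e]; rfl)⟩
  set l : F →* ℂˣ := l₀.comp pA with hl
  have hlQ : ∀ f : F, (f : G) ∈ Q → l f = 1 := fun f hf => by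
    rw [hl, MonoidHom.comp_apply, (hpA_one f).2 hf, map_one]
  -- the two linear constituents
  have hb1 : b (fun _ => 1) = 1 ∧ b (fun f => (l f : ℂ)) ≠ 1 := by
    have hexp : π = ∑ ξ : IrrCharacter G, (μ ξ : ℂ) • (ξ : G → ℂ) := by
      conv_lhs => rw [char_expansion hπc]
      exact Finset.sum_congr rfl fun ξ _ => by rw [hπμ]
    have hrF : ∀ k : F →* ℂˣ, (∀ f : F, (f : G) ∈ Ct → k f = 1) →
        ∃ ξ, μ ξ = 1 ∧ classInner (fun f : F => (ξ : G → ℂ) f) (fun f : F => (k f : ℂ)) = 1 ∧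
          b (fun f => (k f : ℂ)) = R ξ := by
      intro k hk
      choose n hn using fun ξ : IrrCharacter G => classInner_natCast
        (isCharacter_comp F.subtype (irr_isCharacter ξ.2)) (isCharacter_linear k)
      have hsum : ∑ ξ, μ ξ * n ξ = 1 := by
        have h := hπlin k hk
        rw [show (fun f : F => π f) = ∑ ξ, (μ ξ : ℂ) • (fun f : F => (ξ : G → ℂ) f) by
          funext f; conv_lhs => rw [hexp]
          simp [Finset.sum_apply], classInner_sum_left] at h
        have h' : ∑ ξ : IrrCharacter G, ((μ ξ : ℂ) * (n ξ : ℂ)) = 1 := by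
          rw [← h]
          exact Finset.sum_congr rfl fun ξ _ => by rw [classInner_smul_left, ← hn ξ]; rfl
        exact_mod_cast h'
      obtain ⟨ξ, hξ⟩ : ∃ ξ, μ ξ * n ξ ≠ 0 := by
        by_contra h
        push Not at h
        simp [h] at hsum
      rw [← Finset.add_sum_erase _ _ (Finset.mem_univ ξ)] at hsum
      have h3 : μ ξ * n ξ = 1 := by
        have := Nat.pos_of_ne_zero hξ
        omega
      have h4 : ∑ x ∈ Finset.univ.erase ξ, μ x * n x = 0 := by omega
      refine ⟨ξ, Nat.eq_one_of_mul_eq_one_right h3, ?_, ?_⟩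
      · show classInner _ _ = 1
        rw [show (fun f : F => (ξ : G → ℂ) f) = (ξ : G → ℂ) ∘ F.subtype from rfl, hn,
          Nat.eq_one_of_mul_eq_one_left h3, Nat.cast_one]
      · rw [hb, Finset.sum_eq_single ξ]
        · rw [show (fun f : F => (ξ : G → ℂ) f) = (ξ : G → ℂ) ∘ F.subtype from rfl, hn,
            Nat.eq_one_of_mul_eq_one_left h3, Nat.cast_one, mul_one]
        · intro η _ hη
          have h5 := (Finset.sum_eq_zero_iff.1 h4) η (Finset.mem_erase.2 ⟨hη, Finset.mem_univ _⟩)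
          rw [show (fun f : F => (η : G → ℂ) f) = (η : G → ℂ) ∘ F.subtype from rfl, hn]
          rcases Nat.mul_eq_zero.1 h5 with e | e
          · simp [R, e]
          · simp [e]
        · exact fun h => absurd (Finset.mem_univ _) h
    set O : IrrCharacter G := ⟨fun _ => 1, isIrrCharacter_one⟩ with hO
    constructor
    · have h := hb (fun _ : F => 1)
      obtain ⟨ξ, hξμ, hξ1, hξb⟩ := hrF 1 fun f _ => rfl
      have hmO : μ O = 1 := by
        have h' := hμ O
        have h'' : classInner (fun _ : Ct => (1 : ℂ)) ((O : G → ℂ) ∘ Ct.subtype) = 1 := by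
          simp [classInner, hO, Function.comp_def]
        rw [h''] at h'
        exact_mod_cast h'.symm
      have hbl : b (fun _ => 1) = b (fun f => (((1 : F →* ℂˣ) f : ℂˣ) : ℂ)) := by simp
      rw [hbl, hξb]
      have hξO : ξ = O := by
        -- the trivial character is the only constituent fixed by the transitive group
        by_contra hne
        have hsum : ∑ η : IrrCharacter G, (μ η : ℂ) *
            classInner (fun f : F => (η : G → ℂ) f) (fun _ : F => 1) = 1 := by
          have h := hπlin 1 fun f _ => rfl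
          rw [show (fun f : F => π f) = ∑ η, (μ η : ℂ) • (fun f : F => (η : G → ℂ) f) by
            funext f; conv_lhs => rw [hexp]
            simp [Finset.sum_apply], classInner_sum_left] at h
          refine Eq.trans ?_ h
          exact Finset.sum_congr rfl fun η _ => by rw [classInner_smul_left]; simp
        choose n hn using fun η : IrrCharacter G => classInner_natCast
          (isCharacter_comp F.subtype (irr_isCharacter η.2)) (isCharacter_one (G := F))
        have hsum' : ∑ η : IrrCharacter G, μ η * n η = 1 := by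
          have : ∑ η : IrrCharacter G, ((μ η : ℂ) * (n η : ℂ)) = 1 := by
            refine Eq.trans ?_ hsum; exact Finset.sum_congr rfl fun η _ => by rw [← hn η]; rfl
          exact_mod_cast this
        have hnO : n O = 1 := by
          have h' := hn O
          have h'' : classInner ((O : G → ℂ) ∘ F.subtype) (fun _ : F => (1 : ℂ)) = 1 := by
            simp [classInner, hO, Function.comp_def]
          rw [h''] at h'
          exact_mod_cast h'.symm
        have hnξ : n ξ = 1 := by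
          have h' := hn ξ
          have h'' : classInner ((ξ : G → ℂ) ∘ F.subtype) (fun _ : F => (1 : ℂ)) = 1 := by
            refine Eq.trans ?_ hξ1; simp [Function.comp_def]
          rw [h''] at h'
          exact_mod_cast h'.symm
        have h2 := Finset.single_le_sum (s := Finset.univ) (fun η _ => Nat.zero_le (μ η * n η))
          (a := ξ) (Finset.mem_univ _)
        rw [← Finset.add_sum_erase _ _ (Finset.mem_univ ξ), hξμ, hnξ] at hsum'
        have h3 : μ O * n O ≤ ∑ η ∈ Finset.univ.erase ξ, μ η * n η :=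
          Finset.single_le_sum (f := fun η => μ η * n η) (fun η _ => Nat.zero_le _)
            (Finset.mem_erase.2 ⟨Ne.symm hne, Finset.mem_univ _⟩)
        rw [hmO, hnO] at h3
        omega
      rw [hξO]
      simp [R, hO] at hmO ⊢
      exact hmO
    · obtain ⟨ξ, hξμ, hξ1, hξb⟩ := hrF l fun f hf => hlQ f (hfixQ _ f.2 (hmemCt.1 hf))
      intro h
      rw [hξb] at h
      have hv : (ξ : G → ℂ) t = (ξ : G → ℂ) 1 := by
        simp only [R, hξμ, Nat.cast_one, one_mul] at h
        rw [div_eq_one_iff_eq (irr_one_ne_zero ξ.2)] at h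
        rw [← Complex.conj_conj ((ξ : G → ℂ) t), h, conj_char_one (irr_isCharacter ξ.2)]
      have htk := TwoDeg.mem_kerC_of_eq ξ hv
      have hAK := hK (TwoDeg.kerC ξ) inferInstance htk
      obtain ⟨a', ha'⟩ : ∃ a : A, l₀ a ≠ 1 := by
        by_contra hh
        push Not at hh
        exact hl₀ (MonoidHom.ext hh)
      set aF : F := ⟨a', hAF a'.2⟩
      have h2 : pA aF = a' := Subtype.ext
        (huniq _ (hqp _) 1 Q.one_mem _ (hap _) _ a'.2 (by rw [← hdec, one_mul])).2
      have hla : (l aF : ℂ) ≠ 1 := by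
        rw [hl, MonoidHom.comp_apply, h2]
        exact fun e => ha' (Units.ext (e.trans Units.val_one.symm))
      have h3 : classInner (fun f : F => (ξ : G → ℂ) f) (fun f : F => (l f : ℂ)) =
          conj (l aF : ℂ) * classInner (fun f : F => (ξ : G → ℂ) f) (fun f : F => (l f : ℂ)) := by
        simp only [classInner]
        rw [mul_left_comm]
        refine congrArg _ ?_
        rw [Finset.mul_sum]
        refine (Fintype.sum_equiv (Equiv.mulLeft aF) _ _ fun f => ?_).symm
        rw [Equiv.coe_mulLeft, map_mul, Units.val_mul, map_mul, Subgroup.coe_mul, hAK a'.2 (f : G)]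
        ring
      rw [hξ1, mul_one] at h3
      refine hla ?_
      rw [← Complex.conj_conj (l aF : ℂ), ← h3, map_one]
  -- exceptional pairs
  let η : IrrCharacter Q → IrrCharacter F := fun θ =>
    ⟨fun f => (θ : Q → ℂ) (pQ f), isIrr_comp_surjective pQ hpQs θ.2⟩
  let ηl : IrrCharacter Q → IrrCharacter F := fun θ =>
    ⟨fun f => (l f : ℂ) * (θ : Q → ℂ) (pQ f), isIrr_linear_mul (η θ).2 l⟩
  have hsame : ∀ θ : IrrCharacter Q, (θ : Q → ℂ) ≠ (fun _ => 1) →
      b (ηl θ : F → ℂ) = b (η θ : F → ℂ) := by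
    intro θ hθ
    set δ : F → ℂ := (ηl θ : F → ℂ) - (η θ : F → ℂ) with hδ
    have hδQ : ∀ f : F, (f : G) ∈ Q → δ f = 0 := fun f hf => by
      show (l f : ℂ) * (θ : Q → ℂ) (pQ f) - (θ : Q → ℂ) (pQ f) = 0
      rw [hlQ f hf, Units.val_one, one_mul, sub_self]
    have hδcl : IsClassFunction F δ := fun x y => by
      show (ηl θ : F → ℂ) _ - (η θ : F → ℂ) _ = (ηl θ : F → ℂ) x - (η θ : F → ℂ) x
      rw [isClassFunction_character (irr_isCharacter (ηl θ).2), isClassFunction_character (irr_isCharacter (η θ).2)]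
    let α : C → MulAut F := fun c =>
      { toFun := fun f => ⟨(c : G) * f * (c : G)⁻¹, hnF _ c.2 _ f.2⟩
        invFun := fun f => ⟨(c : G)⁻¹ * f * (c : G), by
          have := hnF _ (inv_mem c.2) _ f.2
          rwa [inv_inv] at this⟩
        left_inv := fun f => Subtype.ext (by group)
        right_inv := fun f => Subtype.ext (by group)
        map_mul' := fun f f' => Subtype.ext (by simp only [Subgroup.coe_mul]; group) }
    have hα1 : ∀ f : F, α 1 f = f := fun f => Subtype.ext (by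
      show ((1 : C) : G) * f * ((1 : C) : G)⁻¹ = f
      simp)
    have hlne : ∀ c : C, irrComp (α c) (η θ) ≠ ηl θ ∧ irrComp (α c) (ηl θ) ≠ η θ ∧
        (c ≠ 1 → irrComp (α c) (η θ) ≠ η θ ∧ irrComp (α c) (ηl θ) ≠ ηl θ) := by
      intro c
      let β : MulAut Q :=
        { toFun := fun x => ⟨(c : G) * x * (c : G)⁻¹, hnQ _ c.2 _ x.2⟩
          invFun := fun x => ⟨(c : G)⁻¹ * x * (c : G), by
            have := hnQ _ (inv_mem c.2) _ x.2
            rwa [inv_inv] at this⟩
          left_inv := fun f => Subtype.ext (by group)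
          right_inv := fun f => Subtype.ext (by group)
          map_mul' := fun f f' => Subtype.ext (by simp only [Subgroup.coe_mul]; group) }
      have hc1 : irrComp β θ = θ → c = 1 := fun h => by
        by_contra hc
        refine hθ (eq_one_of_fixed β (fun x hx => ?_) h)
        rcases hfree _ c.2 _ (hQF x.2) (congrArg Subtype.val hx) with e | e
        · exact absurd (Subtype.ext e) hc
        · exact Subtype.ext e
      -- restrictions to `Q`
      have hres : ∀ (u v : IrrCharacter F), ((u = η θ) ∨ u = ηl θ) → (v = η θ ∨ v = ηl θ) →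
          irrComp (α c) u = v → irrComp β θ = θ := by
        intro u v hu hv e
        have hx : ∀ (w : IrrCharacter F), (w = η θ ∨ w = ηl θ) → ∀ x : Q,
            (w : F → ℂ) ⟨x, hQF x.2⟩ = (θ : Q → ℂ) x := by
          intro w hw x
          have hp : pQ ⟨x, hQF x.2⟩ = x := Subtype.ext
            (huniq _ (hqp _) _ x.2 _ (hap _) 1 A.one_mem (by rw [← hdec, mul_one])).1
          rcases hw with rfl | rfl
          · show (θ : Q → ℂ) _ = _
            rw [hp]
          · show (l _ : ℂ) * (θ : Q → ℂ) _ = _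
            rw [hp, hlQ _ x.2, Units.val_one, one_mul]
        refine Subtype.ext (funext fun x => ?_)
        have h1 := congrFun (congrArg Subtype.val e) ⟨x, hQF x.2⟩
        rw [hx v hv] at h1
        rw [irrComp_apply, ← h1]
        exact (hx u hu (β x)).symm
      have hdiff : ηl θ ≠ η θ := fun e => by
        obtain ⟨a, ha⟩ : ∃ a : A, l₀ a ≠ 1 := by
          by_contra h
          push Not at h
          exact hl₀ (MonoidHom.ext h)
        have h1 := congrFun (congrArg Subtype.val e) ⟨a, hAF a.2⟩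
        have h2 : pA ⟨a, hAF a.2⟩ = a := Subtype.ext
          (huniq _ (hqp _) 1 Q.one_mem _ (hap _) _ a.2 (by rw [← hdec, one_mul])).2
        have h3 : pQ ⟨a, hAF a.2⟩ = 1 := Subtype.ext
          (huniq _ (hqp _) 1 Q.one_mem _ (hap _) _ a.2 (by rw [← hdec, one_mul])).1
        have h4 : (l ⟨a, hAF a.2⟩ : ℂ) * (θ : Q → ℂ) 1 = (θ : Q → ℂ) 1 := by
          have h1' : (l ⟨a, hAF a.2⟩ : ℂ) * (θ : Q → ℂ) (pQ ⟨a, hAF a.2⟩) = (θ : Q → ℂ) (pQ ⟨a, hAF a.2⟩) := h1
          rwa [h3] at h1'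
        refine ha (Units.ext ?_)
        rw [hl, MonoidHom.comp_apply, h2] at h4
        exact mul_right_cancel₀ (irr_one_ne_zero θ.2) (h4.trans (one_mul _).symm)
      refine ⟨fun e => ?_, fun e => ?_, fun hc => ⟨fun e => ?_, fun e => ?_⟩⟩
      · have := hc1 (hres _ _ (Or.inl rfl) (Or.inr rfl) e)
        subst this
        exact hdiff (e ▸ Subtype.ext (funext fun f => by
          rw [irrComp_apply, hα1]))
      · have := hc1 (hres _ _ (Or.inr rfl) (Or.inl rfl) e)
        subst this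
        exact hdiff (e ▸ (Subtype.ext (funext fun f => by
          rw [irrComp_apply, hα1])).symm)
      · exact hc (hc1 (hres _ _ (Or.inl rfl) (Or.inl rfl) e))
      · exact hc (hc1 (hres _ _ (Or.inr rfl) (Or.inr rfl) e))
    have hDn : classInner (indFun F δ) (indFun F δ) = 2 := by
      rw [frobenius F _ (isClassFunction_indFun F _)]
      have hpt : classInner δ (fun f : F => indFun F δ f) =
          ∑ c : C, classInner δ ((irrComp (α c) (ηl θ) : F → ℂ) - (irrComp (α c) (η θ) : F → ℂ)) := by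
        simp only [classInner]
        rw [← Finset.mul_sum, Finset.sum_comm]
        congr 1
        refine Finset.sum_congr rfl fun f _ => ?_
        rw [← Finset.mul_sum, ← map_sum]
        by_cases hf : (f : G) ∈ Q
        · rw [hδQ f hf, zero_mul, zero_mul]
        · rw [res_indFun hnF hFC δ hδcl fun g hg => hTI _ f.2 hf g hg]
          rfl
      rw [hpt, Finset.sum_eq_single (1 : C)]
      · have h1 : ∀ u : IrrCharacter F, irrComp (α 1) u = u := fun u => Subtype.ext (funext fun f => by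
          rw [irrComp_apply, hα1])
        have hne : η θ ≠ ηl θ := fun e => (hlne 1).1 (by rw [h1, e])
        rw [h1, h1, hδ, classInner_sub_left, classInner_sub_right, classInner_sub_right,
          irrC_orth, irrC_orth, irrC_orth, irrC_orth, if_pos rfl, if_pos rfl, if_neg hne, if_neg hne.symm]
        norm_num
      · intro c _ hc
        obtain ⟨h1, h2, h3⟩ := hlne c
        rw [hδ, classInner_sub_left, classInner_sub_right, classInner_sub_right,
          irrC_orth, irrC_orth, irrC_orth, irrC_orth, if_neg (h3 hc).2.symm, if_neg h1.symm,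
          if_neg h2.symm, if_neg (h3 hc).1.symm]
        norm_num
      · exact fun h => absurd (Finset.mem_univ _) h
    have hgen : IsGeneralizedCharacter G (indFun F δ) :=
      ⟨_, _, isCharacter_indFun F (irr_isCharacter (ηl θ).2), isCharacter_indFun F (irr_isCharacter (η θ).2),
        indFun_sub F _ _⟩
    have h0 : δ 1 = 0 := hδQ 1 (by rw [OneMemClass.coe_one]; exact Q.one_mem)
    have hD1 : indFun F δ 1 = 0 := by rw [indFun_one, h0, mul_zero]
    obtain ⟨a₁, b₁, -, hab⟩ := exists_pair_of_norm_two hgen hD1 hDn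
    have hDt : indFun F δ t = 0 := by
      rw [indFun, Finset.sum_eq_zero fun x _ => ?_, mul_zero]
      refine extendByZero_not_mem F δ fun h => ?_
      have h1 : orderOf (x⁻¹ * t * x) = 2 := by
        refine orderOf_eq_prime ?_ fun e => ht1 ?_
        · rw [pow_two, show x⁻¹ * t * x * (x⁻¹ * t * x) = x⁻¹ * (t * t) * x by group, ht, mul_one,
            inv_mul_cancel]
        · calc t = x * (x⁻¹ * t * x) * x⁻¹ := by group
            _ = 1 := by rw [e]; group
      have h2 := hodd.of_dvd_nat (Subgroup.orderOf_dvd_natCard F h)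
      rw [h1] at h2
      exact absurd h2 (by decide)
    have hDπ : classInner (indFun F δ) π = 0 := by
      rw [frobenius F _ (isClassFunction_character hπc), classInner, Finset.sum_eq_zero, mul_zero]
      intro f _
      by_cases hf : (f : G) ∈ Q
      · rw [hδQ f hf, zero_mul]
      · rw [hπ0 f hf, map_zero, mul_zero]
    have hμab : μ a₁ = μ b₁ := by
      rw [hab, classInner_sub_left, ← classInner_symm, ← classInner_symm π, hπμ, hπμ, map_natCast, map_natCast,
        sub_eq_zero] at hDπ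
      exact_mod_cast hDπ
    have hRab : R a₁ = R b₁ := by
      have e1 : (a₁ : G → ℂ) 1 = (b₁ : G → ℂ) 1 := by rw [hab, Pi.sub_apply, sub_eq_zero] at hD1; exact hD1
      have e2 : (a₁ : G → ℂ) t = (b₁ : G → ℂ) t := by rw [hab, Pi.sub_apply, sub_eq_zero] at hDt; exact hDt
      simp only [R, hμab, e1, e2]
    rw [← sub_eq_zero, show b (ηl θ : F → ℂ) - b (η θ : F → ℂ) = b δ from (classInner_sub_right _ _ _).symm, hb]
    have h3 : ∀ ξ : IrrCharacter G, classInner (fun f : F => (ξ : G → ℂ) f) δ =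
        (if ξ = a₁ then 1 else 0) - (if ξ = b₁ then 1 else 0) := fun ξ => by
      rw [← frobenius_right F δ (isClassFunction_character (irr_isCharacter ξ.2)), hab, classInner_sub_right,
        irrC_orth, irrC_orth]
    simp only [h3, mul_sub, mul_ite, mul_one, mul_zero, Finset.sum_sub_distrib, Finset.sum_ite_eq',
      Finset.mem_univ, if_true]
    rw [hRab, sub_self]
  -- compare on the factor
  have htot : ∑ θ : IrrCharacter Q, (θ : Q → ℂ) 1 * (b (ηl θ : F → ℂ) - b (η θ : F → ℂ)) = 0 := by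
    have h1 : ∀ θ : IrrCharacter Q, (θ : Q → ℂ) 1 * (b (ηl θ : F → ℂ) - b (η θ : F → ℂ)) =
        (Nat.card F : ℂ)⁻¹ * ∑ f : F, ψ f * conj ((l f : ℂ) - 1) *
          conj ((θ : Q → ℂ) 1 * (θ : Q → ℂ) (pQ f)) := by
      intro θ
      show (θ : Q → ℂ) 1 * (classInner (fun f : F => ψ f) (fun f : F => (l f : ℂ) * (θ : Q → ℂ) (pQ f)) -
        classInner (fun f : F => ψ f) (fun f : F => (θ : Q → ℂ) (pQ f))) = _
      simp only [classInner]
      rw [← mul_sub, ← Finset.sum_sub_distrib, Finset.mul_sum, Finset.mul_sum, Finset.mul_sum]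
      refine Finset.sum_congr rfl fun f _ => ?_
      simp only [map_mul, map_sub, map_one, conj_char_one (irr_isCharacter θ.2)]
      ring
    rw [Finset.sum_congr rfl fun θ _ => h1 θ, ← Finset.mul_sum, Finset.sum_comm]
    refine mul_eq_zero_of_right _ (Finset.sum_eq_zero fun f _ => ?_)
    rw [← Finset.mul_sum, ← map_sum, regular_sum]
    split_ifs with hq
    · by_cases hf1 : (f : G) = 1
      · rw [hlQ f (by rw [hf1]; exact Q.one_mem)]
        simp
      · have hfA : (f : G) ∈ A := by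
          rw [hval f, hq, OneMemClass.coe_one, one_mul]
          exact (pA f).2
        rw [hψa _ hfA hf1, zero_mul, zero_mul]
    · simp
  set o : IrrCharacter Q := ⟨fun _ => 1, isIrrCharacter_one⟩ with ho
  rw [Finset.sum_eq_single o] at htot
  · have hη1 : (η o : F → ℂ) = fun _ => 1 := rfl
    have hηl1 : (ηl o : F → ℂ) = fun f : F => (l f : ℂ) := funext fun f => mul_one _
    rw [hη1, hηl1, hb1.1] at htot
    simp only [ho, one_mul, sub_eq_zero] at htot
    exact hb1.2 htot
  · intro θ _ hθ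
    rw [hsame θ fun e => hθ (Subtype.ext e), sub_self, mul_zero]
  · exact fun h => absurd (Finset.mem_univ _) h

end Cfsg.Agent.SEB.Endgame
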