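import Cfsg.Agent.Lib.Solv.Coprime
import Cfsg.Agent.Lib.Lie.RankOne
import Cfsg.Agent.Lib.Fusion.StronglyEmbeddedPairs
import Cfsg.Agent.Lib.Fusion.Basic

/-!
# Bender transitivity: coprime generation by a dihedral-like group

If `Y = [Y,u]` acts coprimely on the odd group `K`, then `K` is generated by `C_K(Y)` and the
`C_K(v)` for the conjugates `v` of `u` under `Y`.
-/

set_option autoImplicit false
set_option linter.style.haveILetI false

open scoped Pointwise commutatorElement

namespace Cfsg.Agent.SEB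

open Cfsg.Agent.Fusion.SEPairs (conj_involution sq_one inv_self)

universe u

variable {G : Type u} [Group G] [Finite G]

/-- Conjugation is trivial modulo `R` on `x`. -/
def actTriv (R : Subgroup G) (x : G) : Subgroup G where
  carrier := {g | g ∈ Subgroup.normalizer (R : Set G) ∧ g * x * g⁻¹ * x⁻¹ ∈ R}
  one_mem' := ⟨one_mem _, by simp [R.one_mem]⟩
  mul_mem' := by
    rintro g h ⟨hg, hgx⟩ ⟨hh, hhx⟩
    refine ⟨mul_mem hg hh, ?_⟩
    rw [show g * h * x * (g * h)⁻¹ * x⁻¹ = g * (h * x * h⁻¹ * x⁻¹) * g⁻¹ * (g * x * g⁻¹ * x⁻¹) by group]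
    exact mul_mem ((Subgroup.mem_normalizer_iff.1 hg _).1 hhx) hgx
  inv_mem' := by
    rintro g ⟨hg, hgx⟩
    refine ⟨inv_mem hg, ?_⟩
    rw [show g⁻¹ * x * g⁻¹⁻¹ * x⁻¹ = g⁻¹ * (g * x * g⁻¹ * x⁻¹)⁻¹ * g⁻¹⁻¹ by group]
    exact (Subgroup.mem_normalizer_iff.1 (inv_mem hg) _).1 (inv_mem hgx)

/-- The generation lemma: `K` lies in any `Z ∋ u, Y` containing those fixed parts. -/
theorem le_of_fixed_parts {u : G} (hu : orderOf u = 2) {Y Z : Subgroup G}
    (huY : u ∈ Subgroup.normalizer (Y : Set G)) (hYu : ⁅Y, Subgroup.zpowers u⁆ = Y)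
    (huZ : u ∈ Z) (hYZ : Y ≤ Z) :
    ∀ K : Subgroup G, Group.IsSolvable K → Odd (Nat.card K) → u ∈ Subgroup.normalizer (K : Set G) →
      Y ≤ Subgroup.normalizer (K : Set G) → (Nat.card Y).Coprime (Nat.card K) →
      (∀ y ∈ Y, K ⊓ Subgroup.centralizer {y * u * y⁻¹} ≤ Z) →
      K ⊓ Subgroup.centralizer (Y : Set G) ≤ Z → K ≤ Z := by
  intro K
  induction hn : Nat.card K using Nat.strong_induction_on generalizing K with
  | _ n ih =>
    subst hn
    intro hs hodd huK hYK hco hv hC
    rcases eq_or_ne K ⊥ with rfl | hK0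
    · exact bot_le
    haveI := hs
    set K' := ⁅K, K⁆ with hK'
    have hK'le : K' ≤ K := Subgroup.commutator_le_self K
    have hK'lt : K' < K := by
      refine hK'le.lt_of_ne fun e => ?_
      have h1 : commutator ↥K = ⊤ := Subgroup.map_injective K.subtype_injective (by
        rw [Subgroup.map_subtype_commutator, ← MonoidHom.range_eq_map, Subgroup.range_subtype]
        exact e)
      haveI : Nontrivial ↥K := (Subgroup.nontrivial_iff_ne_bot K).2 hK0
      exact (Group.IsSolvable.commutator_lt_top_of_nontrivial (G := ↥K)).ne h1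
    have hnorm' : ∀ g, g ∈ Subgroup.normalizer (K : Set G) → g ∈ Subgroup.normalizer (K' : Set G) :=
      fun g hg => Fusion.mem_normalizer_iff_cj.2 (by rw [hK', Fusion.cj_commutator, Fusion.cj_eq_self hg])
    have hK'Z : K' ≤ Z := by
      refine ih (Nat.card K') (lt_of_le_of_ne (Subgroup.card_le_of_le hK'le) fun e =>
        hK'lt.ne (Subgroup.eq_of_le_of_card_ge hK'le e.ge)) K' rfl (Solv.isSolvable_of_le hK'le hs)
        (Odd.of_dvd_nat hodd (Subgroup.card_dvd_of_le hK'le)) (hnorm' u huK)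
        (fun y hy => hnorm' y (hYK hy)) (hco.coprime_dvd_right (Subgroup.card_dvd_of_le hK'le))
        (fun y hy => (inf_le_inf_right _ hK'le).trans (hv y hy)) ((inf_le_inf_right _ hK'le).trans hC)
    set R := K ⊓ Z with hR
    have hKR : K ≤ Subgroup.normalizer (R : Set G) := fun k hk => by
      refine Fusion.mem_normalizer_of_cj_le fun r hr => ?_
      obtain ⟨r, hr, rfl⟩ := hr
      show k * r * k⁻¹ ∈ R
      have h1 : k * r * k⁻¹ * r⁻¹ ∈ K' := by
        rw [← commutatorElement_def]; exact Subgroup.commutator_mem_commutator hk hr.1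
      have := mul_mem (⟨hK'le h1, hK'Z h1⟩ : k * r * k⁻¹ * r⁻¹ ∈ R) hr
      rwa [show k * r * k⁻¹ * r⁻¹ * r = k * r * k⁻¹ by group] at this
    have hZR : ∀ g ∈ Z, g ∈ Subgroup.normalizer (K : Set G) → g ∈ Subgroup.normalizer (R : Set G) :=
      fun g hgZ hgK => Fusion.mem_normalizer_iff_cj.2 (by
        rw [hR, Fusion.cj_inf, Fusion.cj_eq_self hgK, Fusion.cj_eq_self_of_mem hgZ])
    intro x hx
    have hxR := hKR hx
    have hinv : ∀ y ∈ Y, (y * u * y⁻¹) * x * (y * u * y⁻¹)⁻¹ * x ∈ R := by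
      intro y hy
      set v := y * u * y⁻¹ with hvdef
      have hv2 : orderOf v = 2 := conj_involution hu y
      have hvK : v ∈ Subgroup.normalizer (K : Set G) := mul_mem (mul_mem (hYK hy) huK) (inv_mem (hYK hy))
      have hvN : ∀ z ∈ K, v * z * v ∈ K := fun z hz => by
        have := Solv.conj_mem_of_mem_normalizer hvK hz
        rwa [inv_self hv2] at this
      obtain ⟨z, hz, hzi, hzw⟩ := Lie.exists_decomp (sq_one hv2) hvN hodd hx
      set w := x * z⁻¹ with hw
      have hwK : w ∈ K := mul_mem hx (inv_mem hz)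
      have hwR : w ∈ R := ⟨hwK, hv y hy ⟨hwK, Subgroup.mem_centralizer_singleton_iff.2 (by
        conv_lhs => rw [← hzw]
        rw [mul_assoc, sq_one hv2, mul_one])⟩⟩
      have e1 : v * x * v⁻¹ = w * z⁻¹ := by
        rw [inv_self hv2, show x = w * z by rw [hw]; group]
        calc v * (w * z) * v = (v * w * v) * (v * z * v) := by
              rw [show v * w * v * (v * z * v) = v * w * (v * v) * z * v by group, sq_one hv2]; group
          _ = w * z⁻¹ := by rw [hzw, hzi]
      rw [e1, show w * z⁻¹ * x = w * (z⁻¹ * w * z) by rw [hw]; group]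
      refine mul_mem hwR ?_
      have := Solv.conj_mem_of_mem_normalizer (inv_mem (hKR hz)) hwR
      rwa [inv_inv] at this
    have hY : Y ≤ actTriv R x := by
      rw [← hYu, Subgroup.commutator_le]
      intro y hy a ha
      have ha' : a = 1 ∨ a = u := by
        obtain ⟨k, rfl⟩ := Subgroup.mem_zpowers_iff.1 ha
        rw [← zpow_mod_orderOf, hu]
        rcases Int.emod_two_eq_zero_or_one k with e | e <;> push_cast <;> rw [e]
        · left; exact zpow_zero u
        · right; exact zpow_one u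
      rcases ha' with rfl | rfl
      · rw [commutatorElement_def, mul_one, mul_inv_cancel, one_mul, inv_one]; exact one_mem _
      · set v := y * a * y⁻¹ with hvdef
        have hvZ : v ∈ Z := mul_mem (mul_mem (hYZ hy) huZ) (inv_mem (hYZ hy))
        have hvK : v ∈ Subgroup.normalizer (K : Set G) :=
          mul_mem (mul_mem (hYK hy) huK) (inv_mem (hYK hy))
        have hvR := hZR v hvZ hvK
        have haR := hZR a huZ huK
        have h1 := hinv y hy
        have h2 : a * x * a⁻¹ * x ∈ R := by simpa using hinv 1 (one_mem _)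
        rw [commutatorElement_def, ← hvdef]
        refine ⟨mul_mem hvR (inv_mem haR), ?_⟩
        rw [show v * a⁻¹ * x * (v * a⁻¹)⁻¹ * x⁻¹ = v * a⁻¹ * x * a * v⁻¹ * x⁻¹ by group, inv_self hu,
          show v * a * x * a * v⁻¹ * x⁻¹ =
            (v * (a * x * a * x) * v⁻¹) * (x * (v * x * v⁻¹ * x) * x⁻¹)⁻¹ by group]
        exact mul_mem (Solv.conj_mem_of_mem_normalizer hvR (by rwa [inv_self hu] at h2))
          (inv_mem (Solv.conj_mem_of_mem_normalizer hxR h1))
    obtain ⟨c, hc, hcR⟩ := Solv.exists_fixed_in_coset' Y K R hYK hco (Or.inr hs) inf_le_left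
      (fun y hy => hZR y (hYZ hy) (hYK hy)) hx fun a ha => by
        have h := Solv.conj_mem_of_mem_normalizer (inv_mem hxR) (hY ha).2
        rwa [show x⁻¹ * (a * x * a⁻¹ * x⁻¹) * x⁻¹⁻¹ = x⁻¹ * (a * x * a⁻¹) by group] at h
    have := mul_mem (hC hc) (inv_mem hcR.2)
    rwa [show c * (x⁻¹ * c)⁻¹ = x by group] at this

end Cfsg.Agent.SEB
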