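import Mathlib
import Cfsg.Agent.Lib.Classical.Dickson.Tools

/-!
# A projective special linear group without a Hall subgroup of a given order
-/

set_option autoImplicit false
set_option linter.style.haveILetI false
set_option linter.unusedSectionVars false

namespace Cfsg.Agent.Bender.HallConverse

open Cfsg Cfsg.Agent
open Cfsg.Agent.Classical

/-- In `PSL₂(p)` there is no subgroup of order `m` when `m` is prime to `p`, divides neither neighbour of `p`
and is none of the orders of the polyhedral groups. -/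
theorem no_subgroup {p : ℕ} [Fact p.Prime] (hp2 : p ≠ 2) {m : ℕ} (hpm : ¬ p ∣ m) (h1 : ¬ m ∣ p - 1)
    (h2 : ¬ m ∣ p + 1) (h12 : m ≠ 12) (h24 : m ≠ 24) (h60 : m ≠ 60)
    (H : Subgroup (Matrix.ProjectiveSpecialLinearGroup (Fin 2) (ZMod p))) : Nat.card H ≠ m := by
  classical
  intro hH
  have hp := (Fact.out : p.Prime)
  have hge := hp.two_le
  have hg : Nat.gcd 2 (p - 1) = 2 := by
    rw [Nat.gcd_eq_left_iff_dvd]
    rcases hp.eq_two_or_odd with h | h
    · exact absurd h hp2
    · omega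
  have hhalf : ∀ x : ℕ, 2 ∣ x → ∀ k : ℕ, k ∣ x / 2 → k ∣ x ∧ 2 * k ∣ x := fun x hx k hk =>
    ⟨hk.trans (Nat.div_dvd_of_dvd hx), by
      obtain ⟨y, rfl⟩ := hx
      rw [Nat.mul_div_cancel_left y (by norm_num)] at hk
      exact mul_dvd_mul_left 2 hk⟩
  have h2p : 2 ∣ p - 1 := hg ▸ Nat.gcd_dvd_right 2 (p - 1)
  have h2p' : 2 ∣ p + 1 := by
    obtain ⟨y, hy⟩ := h2p
    exact ⟨y + 1, by omega⟩
  rcases Dickson.cases_on H with ⟨k, hk, h⟩ | ⟨g, hgle, -⟩ | ⟨-, ⟨e⟩⟩ | ⟨-, ⟨e⟩⟩ | ⟨-, ⟨e⟩⟩ | ⟨K, j, hj, hKj, h⟩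
  · rw [ZMod.card, hg] at hk
    rcases h with ⟨-, hc⟩ | ⟨-, ⟨e⟩⟩
    · rw [hH] at hc
      subst hc
      rcases hk with hk | hk
      · exact h1 (hhalf _ h2p m hk).1
      · exact h2 (hhalf _ h2p' m hk).1
    · rw [Nat.card_congr e.toEquiv, DihedralGroup.nat_card] at hH
      subst hH
      rcases hk with hk | hk
      · exact h1 (hhalf _ h2p k hk).2
      · exact h2 (hhalf _ h2p' k hk).2
  · have hd := Subgroup.card_dvd_of_le hgle
    rw [Subgroup.card_map_of_injective (f := (Small.PSL2.conjP g).toMonoidHom) (Small.PSL2.conjP g).injective,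
      hH] at hd
    have hb := Dickson.card_borelP (F := ZMod p)
    rw [ZMod.card, hg] at hb
    refine h1 ((Nat.Coprime.dvd_of_dvd_mul_right (n := p) (k := m) ((hp.coprime_iff_not_dvd.2 hpm).symm)) ?_)
    rw [← hb]
    exact hd.mul_right 2
  · rw [Nat.card_congr e.toEquiv, nat_card_alternatingGroup, Nat.card_fin] at hH
    exact h12 (hH ▸ rfl)
  · rw [Nat.card_congr e.toEquiv, Nat.card_perm, Nat.card_fin] at hH
    exact h24 (hH ▸ rfl)
  · rw [Nat.card_congr e.toEquiv, nat_card_alternatingGroup, Nat.card_fin] at hH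
    exact h60 (hH ▸ rfl)
  · rw [ZMod.card] at hKj
    have hK : Nat.card K = p := by
      have := hp.pow_eq_iff.1 hKj
      exact this.1
    rcases h with ⟨-, hc⟩ | ⟨-, -, hc⟩
    · rw [hH, hK] at hc
      exact hpm (hc ▸ dvd_mul_right _ _)
    · rw [hH, hK] at hc
      have h2m : p ∣ 2 * m := hc ▸ dvd_mul_right _ _
      rcases hp.dvd_mul.1 h2m with h | h
      · exact hp2 ((Nat.prime_dvd_prime_iff_eq hp Nat.prime_two).1 h)
      · exact hpm h

/-- Splitting a number that is neither a prime power nor twice an odd number. -/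
theorem split {m : ℕ} (hm : 2 ≤ m) (hpp : ¬ IsPrimePow m) (h4 : m % 4 ≠ 2) :
    ∃ a b : ℕ, m = a * b ∧ a.Coprime b ∧ 2 < a ∧ 2 < b ∧ Odd b ∧ (Odd a ∨ 4 ∣ a) := by
  have key : ∀ l : ℕ, l.Prime → l ∣ m → 1 < m / l ^ m.factorization l := by
    intro l hl hlm
    refine lt_of_le_of_ne (Nat.one_le_iff_ne_zero.2 (Nat.ordCompl_pos l (by omega)).ne') fun h => hpp ?_
    have := Nat.ordProj_mul_ordCompl_eq_self m l
    rw [← h, mul_one] at this
    exact ⟨l, m.factorization l, hl.prime, hl.factorization_pos_of_dvd (by omega) hlm, this⟩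
  by_cases hodd : Odd m
  · set l := m.minFac with hl
    have hlp : l.Prime := Nat.minFac_prime (by omega)
    refine ⟨l ^ m.factorization l, m / l ^ m.factorization l, (Nat.ordProj_mul_ordCompl_eq_self m l).symm,
      (Nat.coprime_ordCompl hlp (by omega)).pow_left _, ?_, ?_, ?_, ?_⟩
    · have hlo : Odd l := Odd.of_dvd_nat hodd (Nat.minFac_dvd m)
      have := Nat.le_self_pow (hlp.factorization_pos_of_dvd (by omega) (Nat.minFac_dvd m)).ne' l
      have := hlp.two_le
      rcases hlo with ⟨i, hi⟩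
      omega
    · have hb : Odd (m / l ^ m.factorization l) := Odd.of_dvd_nat hodd (Nat.ordCompl_dvd m l)
      have := key l hlp (Nat.minFac_dvd m)
      rcases hb with ⟨i, hi⟩
      omega
    · exact Odd.of_dvd_nat hodd (Nat.ordCompl_dvd m l)
    · exact Or.inl (Odd.of_dvd_nat hodd (Nat.ordProj_dvd m l))
  · have h2 : 2 ∣ m := even_iff_two_dvd.1 (Nat.not_odd_iff_even.1 hodd)
    have h4d : 2 ^ 2 ∣ m := by omega
    have hb : ¬ 2 ∣ m / 2 ^ m.factorization 2 := Nat.not_dvd_ordCompl Nat.prime_two (by omega)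
    have h2le : 2 ≤ m.factorization 2 :=
      (Nat.prime_two.pow_dvd_iff_le_factorization (by omega)).1 h4d
    have ha : 4 ∣ 2 ^ m.factorization 2 := (show 4 = 2 ^ 2 by norm_num) ▸ pow_dvd_pow 2 h2le
    refine ⟨2 ^ m.factorization 2, m / 2 ^ m.factorization 2, (Nat.ordProj_mul_ordCompl_eq_self m 2).symm,
      (Nat.coprime_ordCompl Nat.prime_two (by omega)).pow_left _, ?_, ?_, ?_, Or.inr ha⟩
    · exact lt_of_lt_of_le (by norm_num) (Nat.le_of_dvd (pow_pos (by norm_num) _) ha)
    · have := key 2 Nat.prime_two h2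
      omega
    · exact Nat.odd_iff.2 (by omega)

/-- Any number outside the list fails to be a Hall number. -/
theorem not_hall {m : ℕ} (hm : 2 ≤ m)
    (hall : ∀ (G : Type) [Group G] [Finite G], m ∣ Nat.card G → m.Coprime (Nat.card G / m) →
        ∃ H : Subgroup G, Nat.card H = m) :
    IsPrimePow m ∨ m % 4 = 2 ∨ m = 12 ∨ m = 24 ∨ m = 60 := by
  classical
  by_contra hcon
  push Not at hcon
  obtain ⟨hpp, h4, h12, h24, h60⟩ := hcon
  obtain ⟨a, b, hab, hco, ha, hb, hbodd, ha4⟩ := split hm hpp h4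
  have hcs : (a * a).Coprime (b * b) := (hco.mul_left hco).mul_right (hco.mul_left hco)
  obtain ⟨r, hra, hrb⟩ := Nat.chineseRemainder hcs (a - 1) (1 + b)
  have hrco : r.Coprime (a * a * (b * b)) := by
    have h1 : r.Coprime a := by
      rw [Nat.coprime_iff_gcd_eq_one, (hra.of_mul_right a).gcd_eq, ← Nat.coprime_iff_gcd_eq_one]
      exact (Nat.coprime_self_sub_left (by omega : 1 ≤ a)).2 (Nat.coprime_one_left a)
    have h2 : r.Coprime b := by
      rw [Nat.coprime_iff_gcd_eq_one, (hrb.of_mul_right b).gcd_eq, ← Nat.coprime_iff_gcd_eq_one,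
        Nat.coprime_add_self_left]
      exact Nat.coprime_one_left b
    exact (h1.mul_right h1).mul_right (h2.mul_right h2)
  obtain ⟨p, hpm, hp, hpr⟩ := Nat.forall_exists_prime_gt_and_modEq m (q := a * a * (b * b))
    (by positivity) hrco
  haveI : Fact p.Prime := ⟨hp⟩
  obtain ⟨k, hk⟩ : ∃ k, p = a * a * k + (a - 1) := by
    have h : p % (a * a) = a - 1 := by
      rw [((hpr.of_mul_right _).trans hra : p % (a * a) = _)]
      exact Nat.mod_eq_of_lt (by have := Nat.le_mul_self a; omega)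
    exact ⟨p / (a * a), by rw [← h]; exact (Nat.div_add_mod p _).symm⟩
  obtain ⟨l, hl⟩ : ∃ l, p = b * b * l + (1 + b) := by
    have h : p % (b * b) = 1 + b := by
      rw [((hpr.of_mul_left _).trans hrb : p % (b * b) = _)]
      refine Nat.mod_eq_of_lt ?_
      have : b * 3 ≤ b * b := Nat.mul_le_mul le_rfl hb
      omega
    exact ⟨p / (b * b), by rw [← h]; exact (Nat.div_add_mod p _).symm⟩
  set u := a * k + 1 with hu
  set v := b * l + 1 with hv
  have hau : p + 1 = a * u := by
    rw [hu, Nat.mul_add, mul_one, ← mul_assoc, hk]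
    omega
  have hbv : p - 1 = b * v := by
    rw [hv, Nat.mul_add, mul_one, ← mul_assoc, hl]
    omega
  have hpodd : p % 2 = 1 := (hp.eq_two_or_odd).resolve_left (by omega)
  have hv2 : 2 ∣ v := by
    have : 2 ∣ b * v := hbv ▸ (by omega)
    exact ((Nat.Prime.dvd_mul Nat.prime_two).1 this).resolve_left fun h => by
      rcases hbodd with ⟨i, rfl⟩; omega
  obtain ⟨w, hw⟩ := hv2
  have hbu : b.Coprime u := by
    refine Nat.Coprime.coprime_mul_left_right (k := a) ?_
    rw [← hau, show p + 1 = (p - 1) + 2 by omega, hbv, Nat.coprime_mul_left_add_right]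
    exact Nat.coprime_two_right.2 hbodd
  have haw : a.Coprime w := by
    refine Nat.coprime_of_dvd fun s hs hsa hsw => ?_
    have h1 : s ∣ p - 1 := hbv ▸ hw ▸ (hsw.mul_left 2).mul_left b
    have h2 : s ∣ p + 1 := hau ▸ hsa.mul_right u
    have hs2 : s = 2 := by
      have h3 : s ∣ 2 := by
        have h3 := Nat.dvd_sub h2 h1
        rwa [show p + 1 - (p - 1) = 2 by omega] at h3
      exact (Nat.prime_dvd_prime_iff_eq hs Nat.prime_two).1 h3
    subst hs2
    rcases ha4 with ⟨i, hi⟩ | h4a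
    · omega
    · have h5 : 4 ∣ p + 1 := hau ▸ h4a.mul_right u
      have h6 : 4 ∣ p - 1 := by
        rw [hbv, hw]
        obtain ⟨w', rfl⟩ := hsw
        exact ⟨b * w', by ring⟩
      omega
  have hcard : Nat.card (Matrix.ProjectiveSpecialLinearGroup (Fin 2) (ZMod p)) = m * (p * u * w) := by
    have h := Dickson.card_P2 (F := ZMod p)
    rw [ZMod.card, show p ^ 2 - 1 = (p + 1) * (p - 1) by rw [← Nat.sq_sub_sq, one_pow], hau, hbv, hw,
      show Nat.gcd 2 (b * (2 * w)) = 2 from Nat.gcd_eq_left ⟨b * w, by ring⟩] at h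
    refine Nat.eq_of_mul_eq_mul_right (by norm_num : 0 < 2) (h.trans ?_)
    rw [hab]; ring
  have hpndm : ¬ p ∣ m := fun h => by
    have := Nat.le_of_dvd (by omega) h
    omega
  have hcom : m.Coprime (p * u * w) := by
    refine ((((hp.coprime_iff_not_dvd.2 hpndm).symm).mul_right ?_).mul_right ?_)
    · rw [hab]
      exact Nat.Coprime.mul_left (by rw [hu, Nat.coprime_mul_left_add_right]; exact Nat.coprime_one_right a) hbu
    · rw [hab]
      refine Nat.Coprime.mul_left haw (Nat.Coprime.coprime_mul_left_right (k := 2) ?_)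
      rw [← hw, hv, Nat.coprime_mul_left_add_right]
      exact Nat.coprime_one_right b
  obtain ⟨H, hH⟩ := hall (Matrix.ProjectiveSpecialLinearGroup (Fin 2) (ZMod p)) (hcard ▸ dvd_mul_right _ _)
    (by rw [hcard, Nat.mul_div_cancel_left _ (by omega : 0 < m)]; exact hcom)
  refine no_subgroup (by omega) hpndm (fun h => ?_) (fun h => ?_) h12 h24 h60 H hH
  · have h1 : a ∣ p - 1 := (Dvd.intro b hab.symm).trans h
    have h2 : a ∣ p + 1 := Dvd.intro u hau.symm
    have h3 := Nat.dvd_sub h2 h1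
    rw [show p + 1 - (p - 1) = 2 by omega] at h3
    have := Nat.le_of_dvd (by norm_num) h3
    omega
  · have h1 : b ∣ p + 1 := (Dvd.intro_left a hab.symm).trans h
    have h2 : b ∣ p - 1 := Dvd.intro v hbv.symm
    have h3 := Nat.dvd_sub h1 h2
    rw [show p + 1 - (p - 1) = 2 by omega] at h3
    have := Nat.le_of_dvd (by norm_num) h3
    omega

end Cfsg.Agent.Bender.HallConverse
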