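import Cfsg.Agent.Lib.Bender.AbelianReduce
import Cfsg.Agent.Lib.Fusion.SmallSylow
import Cfsg.Agent.Lib.Solv.Hall
import Cfsg.Agent.Lib.Solv.Triple.Five
import Cfsg.Agent.Lib.Perm.Fpf.Structure
import Cfsg.Agent.S0804

/-!
# Hall subgroups of orders twelve, twenty-four and sixty
-/

set_option autoImplicit false
set_option linter.style.haveILetI false
set_option linter.unusedSectionVars false

open scoped Pointwise

namespace Cfsg.Agent.Bender.HallFour

open Cfsg Cfsg.Agent Cfsg.Agent.Fusion
open Cfsg.Agent.Bender.AbelianSolvable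

variable {G : Type} [Group G] [Finite G]

/-- A solvable subgroup of order divisible by a Hall number has a subgroup of that order. -/
theorem of_solvable {m : ℕ} (hm : m ∣ Nat.card G) (hco : m.Coprime (Nat.card G / m)) (K : Subgroup G)
    (hK : Group.IsSolvable K) (hmK : m ∣ Nat.card K) : ∃ H : Subgroup G, Nat.card H = m := by
  obtain ⟨k, hk⟩ := hmK
  have hkd : k ∣ Nat.card G / m := by
    have hm0 : 0 < m := Nat.pos_of_dvd_of_pos hm Nat.card_pos
    refine Nat.dvd_of_mul_dvd_mul_left hm0 ?_
    rw [Nat.mul_div_cancel' hm, ← hk]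
    exact K.card_subgroup_dvd_card
  obtain ⟨H, hH⟩ := Solv.hall_exists hK hk (hco.coprime_dvd_right hkd)
  exact ⟨H.map K.subtype, (Subgroup.card_map_of_injective K.subtype_injective).trans hH⟩

/-- A group with a normal two-complement is solvable. -/
theorem solvable_of_hnpc {K : Type} [Group K] [Finite K] (h : HasNormalPComplement 2 K) :
    Group.IsSolvable K := by
  haveI : Fact (Nat.Prime 2) := ⟨Nat.prime_two⟩
  obtain ⟨P⟩ : Nonempty (Sylow 2 K) := inferInstance
  obtain ⟨N, hN, hc⟩ := hnpc_exists_complement h P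
  haveI := hN
  haveI : Group.IsSolvable N := odd_solvable' (Nat.coprime_two_right.1 (coprime_card_of_isComplement' hc))
  haveI : Group.IsSolvable (K ⧸ N) := by
    obtain ⟨k, hk⟩ := IsPGroup.iff_card.1 P.isPGroup'
    haveI : Group.IsNilpotent (K ⧸ N) := (IsPGroup.of_card (p := 2) (n := k) (by
      rw [← Subgroup.index_eq_card, hc.symm.index_eq_card, hk])).isNilpotent
    infer_instance
  exact Group.isSolvable_of_ker_le_range N.subtype (QuotientGroup.mk' N) (by simp)

/-- An element of odd order acting non-trivially yields a prime acting non-trivially; `d` counts fixed elements. -/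
theorem exists_prime_action {Q : Subgroup G} {g : G} (hg : g ∈ Subgroup.normalizer (Q : Set G))
    (hgo : Odd (orderOf g)) (hgc : g ∉ Subgroup.centralizer (Q : Set G)) :
    ∃ r : ℕ, r.Prime ∧ r ≠ 2 ∧ r ∣ orderOf g ∧
      ∃ d, d ∣ Nat.card Q ∧ d < Nat.card Q ∧ r ∣ Nat.card Q - d ∧
        ((∃ z ∈ Q, z ≠ 1 ∧ g * z * g⁻¹ = z) → d ≠ 1) := by
  set σ := Q.normalizerMonoidHom ⟨g, hg⟩ with hσdef
  have hσ1 : σ ≠ 1 := fun h => hgc (by
    have hmem : (⟨g, hg⟩ : Subgroup.normalizer (Q : Set G)) ∈ Q.normalizerMonoidHom.ker := MonoidHom.mem_ker.2 h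
    rw [Subgroup.normalizerMonoidHom_ker] at hmem
    exact hmem)
  have hr : (orderOf σ).minFac.Prime := Nat.minFac_prime fun h => hσ1 (orderOf_eq_one_iff.1 h)
  haveI := Fact.mk hr
  have hrg : (orderOf σ).minFac ∣ orderOf g := by
    refine (Nat.minFac_dvd _).trans ((orderOf_map_dvd _ _).trans ?_)
    rw [← Subgroup.orderOf_coe]
  refine ⟨_, hr, fun h => ?_, hrg, ?_⟩
  · rw [h] at hrg
    exact Nat.not_even_iff_odd.2 hgo (even_iff_two_dvd.2 hrg)
  set τ := σ ^ (orderOf σ / (orderOf σ).minFac) with hτdef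
  have hτ : orderOf τ = (orderOf σ).minFac :=
    orderOf_pow_orderOf_div (orderOf_pos σ).ne' (Nat.minFac_dvd _)
  let F : Subgroup Q :=
    { carrier := {x | τ x = x}
      one_mem' := map_one τ
      mul_mem' := fun {a b} ha hb => by show τ (a * b) = a * b; rw [map_mul, ha, hb]
      inv_mem' := fun {a} ha => by show τ a⁻¹ = a⁻¹; rw [map_inv, ha] }
  have hP : IsPGroup (orderOf σ).minFac (Subgroup.zpowers τ) :=
    IsPGroup.of_card (n := 1) (by rw [Nat.card_zpowers, hτ, pow_one])
  have hfix : MulAction.fixedPoints (Subgroup.zpowers τ) Q = (F : Set Q) := by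
    ext x
    refine ⟨fun hx => hx ⟨τ, Subgroup.mem_zpowers τ⟩, fun hx y => ?_⟩
    exact (Subgroup.zpowers_le.2 (show τ ∈ MulAction.stabilizer (MulAut Q) x from hx)) y.2
  have hmod := hP.card_modEq_card_fixedPoints Q
  rw [hfix] at hmod
  have hne : F ≠ ⊤ := fun h => hr.ne_one (by
    rw [← hτ, orderOf_eq_one_iff]
    exact MulEquiv.ext fun x => (h ▸ Subgroup.mem_top x : x ∈ F))
  refine ⟨Nat.card F, F.card_subgroup_dvd_card,
    lt_of_le_of_ne (Subgroup.card_le_card_group F) fun h => hne (Subgroup.eq_top_of_card_eq F h),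
    (Nat.modEq_iff_dvd' (Subgroup.card_le_card_group F)).1 hmod.symm, ?_⟩
  rintro ⟨z, hz, hz1, hgz⟩ h1
  have hzF : (⟨z, hz⟩ : Q) ∈ F := by
    have hσz : σ ∈ MulAction.stabilizer (MulAut Q) (⟨z, hz⟩ : Q) := Subtype.ext hgz
    exact pow_mem hσz _
  rw [Subgroup.card_eq_one] at h1
  rw [h1, Subgroup.mem_bot] at hzF
  exact hz1 (congrArg Subtype.val hzF)

/-- The prime is three, or seven with only the identity fixed in a group of order eight. -/
theorem prime_small {r q d : ℕ} (hr : r.Prime) (hr2 : r ≠ 2) (hq : q ∣ 8) (hd : d ∣ q) (hdq : d < q)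
    (hrd : r ∣ q - d) : r = 3 ∨ (r = 7 ∧ q = 8 ∧ d = 1) := by
  have hq8 : q ≤ 8 := Nat.le_of_dvd (by norm_num) hq
  have hr2' := hr.two_le
  have hle : r ≤ q - d := Nat.le_of_dvd (by omega) hrd
  have hr7 : r ≤ 8 := by omega
  interval_cases q <;> interval_cases d <;> interval_cases r <;> first | omega | (revert hq hd hr hrd; norm_num)

theorem three_dvd_normalizer {Q : Subgroup G} {g : G} (hg : g ∈ Subgroup.normalizer (Q : Set G))
    (h : 3 ∣ orderOf g) : 3 ∣ Nat.card (Subgroup.normalizer (Q : Set G)) := by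
  refine h.trans ?_
  rw [← Subgroup.orderOf_mk g hg]
  exact orderOf_dvd_natCard _

theorem three_of_four {Q : Subgroup G} (hQ : Nat.card Q = 4) {g : G}
    (hg : g ∈ Subgroup.normalizer (Q : Set G)) (hgo : Odd (orderOf g))
    (hgc : g ∉ Subgroup.centralizer (Q : Set G)) : 3 ∣ orderOf g := by
  obtain ⟨r, hr, hr2, hrg, d, hd, hdlt, hrd, -⟩ := exists_prime_action hg hgo hgc
  rw [hQ] at hd hdlt hrd
  rcases prime_small hr hr2 (by norm_num) hd hdlt hrd with rfl | ⟨-, h, -⟩
  · exact hrg
  · omega

/-- A Sylow two-subgroup of order four: solvable, or three divides the order of its normalizer. -/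
theorem of_four (T : Sylow 2 G) (hT : Nat.card (T : Subgroup G) = 4) :
    Group.IsSolvable G ∨ 3 ∣ Nat.card (Subgroup.normalizer ((T : Subgroup G) : Set G)) := by
  haveI : Fact (Nat.Prime 2) := ⟨Nat.prime_two⟩
  refine Classical.or_iff_not_imp_right.2 fun h3 => solvable_of_hnpc (hnpc_of_normalizer_le_centralizer T fun g hg => ?_)
  have hab : IsMulCommutative (T : Subgroup G) := by
    haveI : Fact (Nat.Prime 2) := ⟨Nat.prime_two⟩
    exact IsPGroup.isMulCommutative_of_card_eq_prime_sq (p := 2) (by rw [hT]; norm_num)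
  obtain ⟨u, hu, w, hw, hwo, -, rfl⟩ := exists_odd_part T hg
  refine mul_mem (le_centralizer_self T hab hu) ?_
  by_contra hwc
  exact h3 (three_dvd_normalizer hw (three_of_four hT hw hwo hwc))

/-- The automizer of a four-group is solvable. -/
theorem solvable_normalizer_four {Q : Subgroup G} (hQ : Nat.card Q = 4)
    (hC : Group.IsSolvable ↥(Subgroup.centralizer (Q : Set G))) :
    Group.IsSolvable ↥(Subgroup.normalizer (Q : Set G)) := by
  classical
  haveI := Fintype.ofFinite Q
  haveI : Group.IsSolvable (Equiv.Perm Q) := Solv.Triple.solvable_perm_four (by rw [← Nat.card_eq_fintype_card, hQ])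
  haveI : Group.IsSolvable (MulAut Q) := Group.isSolvable_of_isSolvable_injective
    (f := MulAut.toPerm Q) (MulEquiv.toEquiv_injective)
  haveI : Group.IsSolvable ((Subgroup.centralizer (Q : Set G)).subgroupOf (Subgroup.normalizer (Q : Set G))) :=
    Solv.isSolvable_subgroupOf (Subgroup.centralizer_le_normalizer _) hC
  exact Group.isSolvable_of_ker_le_range
    ((Subgroup.centralizer (Q : Set G)).subgroupOf (Subgroup.normalizer (Q : Set G))).subtype
    Q.normalizerMonoidHom (by rw [Subgroup.normalizerMonoidHom_ker, Subgroup.range_subtype])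

/-- A group of order eight: three in the normalizer of `T`, abelian, or a solvable overgroup. -/
theorem of_eight (T : Sylow 2 G) (hT : Nat.card (T : Subgroup G) = 8) :
    Group.IsSolvable G ∨ 3 ∣ Nat.card (Subgroup.normalizer ((T : Subgroup G) : Set G)) ∨
      IsMulCommutative (T : Subgroup G) ∨
      ∃ K : Subgroup G, Group.IsSolvable K ∧ 8 ∣ Nat.card K ∧ 3 ∣ Nat.card K := by
  haveI : Fact (Nat.Prime 2) := ⟨Nat.prime_two⟩
  by_contra hcon
  push Not at hcon
  obtain ⟨hns, h3, hnab, hK⟩ := hcon
  refine hns (solvable_of_hnpc (hnpc_of_centralize (sylIn_top T) fun Q hQT g hg hgc => ?_))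
  by_contra hgcent
  have hgo : Odd (orderOf g) := Nat.coprime_two_right.1 hgc
  obtain ⟨r, hr, hr2, hrg, d, hd, hdlt, hrd, hfixd⟩ := exists_prime_action hg hgo hgcent
  have hQ8 : Nat.card Q ∣ 8 := hT ▸ Subgroup.card_dvd_of_le hQT
  rcases prime_small hr hr2 hQ8 hd hdlt hrd with rfl | ⟨rfl, hQ, rfl⟩
  · obtain ⟨e, he, hQe⟩ := (Nat.dvd_prime_pow Nat.prime_two (m := 3)).1 (by norm_num; exact hQ8)
    by_cases hQT' : Q = (T : Subgroup G)
    · subst hQT'; exact h3 (three_dvd_normalizer hg hrg)
    have hlt : Nat.card Q < 8 := by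
      refine lt_of_le_of_ne (Nat.le_of_dvd (by norm_num) hQ8) fun h => hQT' ?_
      exact Subgroup.eq_of_le_of_card_ge hQT (by rw [hT, h])
    have hQ4 : Nat.card Q = 4 := by
      rw [hQe] at hd hdlt hrd hlt ⊢
      have hd' : d ≤ 2 ^ e := hdlt.le
      have h3le := Nat.le_of_dvd (by omega) hrd
      interval_cases e <;> simp_all <;> omega
    have hTN : (T : Subgroup G) ≤ Subgroup.normalizer (Q : Set G) := by
      have hi : (Q.subgroupOf (T : Subgroup G)).index = 2 := by
        have h1 := (Q.subgroupOf (T : Subgroup G)).card_mul_index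
        rw [Nat.card_congr (Subgroup.subgroupOfEquivOfLe hQT).toEquiv, hQ4, hT] at h1
        omega
      haveI := Subgroup.normal_of_index_eq_two hi
      exact Subgroup.normal_subgroupOf_iff_le_normalizer hQT |>.1 inferInstance
    have hQab : IsMulCommutative Q := IsPGroup.isMulCommutative_of_card_eq_prime_sq (p := 2) (by rw [hQ4]; norm_num)
    have hCT : Subgroup.centralizer (Q : Set G) ⊓ (T : Subgroup G) ≤ Q := by
      intro c hc
      by_contra hcQ
      refine hnab ?_
      have hsup : Q ⊔ Subgroup.zpowers c = (T : Subgroup G) := by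
        have hle : Q ⊔ Subgroup.zpowers c ≤ (T : Subgroup G) := sup_le hQT (Subgroup.zpowers_le.2 hc.2)
        refine Subgroup.eq_of_le_of_card_ge hle ?_
        have h1 : Q < Q ⊔ Subgroup.zpowers c :=
          lt_of_le_of_ne le_sup_left fun e => hcQ (e.symm ▸ Subgroup.mem_sup_right (Subgroup.mem_zpowers c))
        have h2 := Subgroup.card_dvd_of_le h1.le
        have h3' : Nat.card Q < Nat.card (Q ⊔ Subgroup.zpowers c : Subgroup G) := by
          refine lt_of_le_of_ne (Nat.le_of_dvd Nat.card_pos h2) fun e => h1.ne ?_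
          exact Subgroup.eq_of_le_of_card_ge h1.le e.ge
        have h4 := Subgroup.card_dvd_of_le hle
        rw [hQ4] at h2 h3'
        rw [hT] at h4 ⊢
        obtain ⟨x, hx⟩ := h2
        omega
      rw [← hsup]
      refine Subgroup.le_centralizer_iff_isMulCommutative.1 (sup_le ?_ ?_) <;> rw [Subgroup.le_centralizer_iff]
      · exact sup_le (Subgroup.le_centralizer_iff_isMulCommutative.2 hQab)
          (Subgroup.zpowers_le.2 hc.1)
      · refine sup_le ?_ (Subgroup.le_centralizer_iff_isMulCommutative.2 inferInstance)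
        rw [Subgroup.le_centralizer_iff]
        exact Subgroup.zpowers_le.2 hc.1
    refine hK _ (solvable_normalizer_four hQ4 ?_) ?_ (three_dvd_normalizer hg hrg)
    · -- the centralizer has a central Sylow subgroup
      set N := Subgroup.normalizer (Q : Set G)
      have hsyl : SylIn 2 ((Subgroup.centralizer (Q : Set G)) ⊓ (T : Subgroup G)) (Subgroup.centralizer (Q : Set G)) := by
        have := ((sylIn_top T).mono hTN le_top).inf_normal (N := Subgroup.centralizer (Q : Set G))
          (Subgroup.centralizer_le_normalizer _) (fun g hg => by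
            refine Fusion.mem_normalizer_iff_cj.2 ?_
            rw [Fusion.cj_centralizer, Fusion.cj_eq_self hg])
        rwa [inf_comm]
      obtain ⟨P, hP⟩ := hsyl.exists_sylow_subgroupOf
      refine solvable_of_hnpc (hnpc_of_normalizer_le_centralizer P fun c _ => Subgroup.mem_centralizer_iff.2 fun v hv => ?_)
      have hv' : (v : G) ∈ Q := hCT (by
        have : v ∈ ((Subgroup.centralizer (Q : Set G)) ⊓ (T : Subgroup G)).subgroupOf _ := hP ▸ hv
        exact this)
      exact Subtype.ext (Subgroup.mem_centralizer_iff.1 c.2 v hv')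
    · exact hT ▸ Subgroup.card_dvd_of_le hTN
  · have hQT' : Q = (T : Subgroup G) := Subgroup.eq_of_le_of_card_ge hQT (by rw [hT, hQ])
    subst hQT'
    -- seven would fix no central involution
    set T₁ := (T : Subgroup G)
    haveI : Nontrivial T₁ := Finite.one_lt_card_iff_nontrivial.1 (by omega)
    haveI := T.isPGroup'.center_nontrivial
    obtain ⟨⟨z, hz⟩, hz1⟩ := exists_ne (1 : Subgroup.center T₁)
    -- the centre has order two
    have hc2 : Nat.card (Subgroup.center T₁) = 2 := by
      have h1 := (Subgroup.center T₁).card_mul_index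
      rw [hT] at h1
      have h2 : 1 < Nat.card (Subgroup.center T₁) := Finite.one_lt_card_iff_nontrivial.2 inferInstance
      obtain ⟨k, hk, hck⟩ := (Nat.dvd_prime_pow Nat.prime_two (m := 3)).1
        (show Nat.card (Subgroup.center T₁) ∣ 2 ^ 3 from ⟨_, h1.symm⟩)
      interval_cases k
      · omega
      · exact hck
      · exfalso
        refine hnab ⟨⟨fun a b => ?_⟩⟩
        haveI : IsCyclic (T₁ ⧸ Subgroup.center T₁) := isCyclic_of_prime_card (p := 2) (by
          rw [← Subgroup.index_eq_card]; rw [hck] at h1; norm_num at h1; omega)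
        exact commutative_of_cyclic_center_quotient (QuotientGroup.mk' (Subgroup.center T₁)) (by simp) a b
      · exfalso
        refine hnab ⟨⟨fun a b => ?_⟩⟩
        have htop : Subgroup.center T₁ = ⊤ := Subgroup.eq_top_of_card_eq _ (by rw [hck, hT]; norm_num)
        exact Subgroup.mem_center_iff.1 (htop ▸ Subgroup.mem_top b) a
    refine hfixd ⟨(z : G), z.2, fun e => hz1 (Subtype.ext (Subtype.ext e)), ?_⟩ rfl
    set σ := T₁.normalizerMonoidHom ⟨g, hg⟩
    have hσz : σ z ∈ Subgroup.center T₁ := Subgroup.mem_center_iff.2 fun y => by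
      obtain ⟨x, rfl⟩ := σ.surjective y
      rw [← map_mul, ← map_mul, Subgroup.mem_center_iff.1 hz x]
    by_contra hne
    haveI := Fintype.ofFinite (Subgroup.center T₁)
    have hσz1 : σ z ≠ 1 := fun h => hz1 (Subtype.ext (σ.injective (h.trans (map_one σ).symm)))
    have : 2 < Fintype.card (Subgroup.center T₁) := Fintype.two_lt_card_iff.2 ⟨1, ⟨z, hz⟩, ⟨_, hσz⟩,
      fun e => hz1 e.symm, fun e => hσz1 (congrArg Subtype.val e).symm,
      fun e => hne (congrArg (fun w : T₁ => (w : G)) (congrArg Subtype.val e)).symm⟩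
    rw [← Nat.card_eq_fintype_card, hc2] at this
    omega

/-- A subgroup of order twelve. -/
theorem twelve (hm : 12 ∣ Nat.card G) (hco : (12 : ℕ).Coprime (Nat.card G / 12)) :
    ∃ H : Subgroup G, Nat.card H = 12 := by
  haveI : Fact (Nat.Prime 2) := ⟨Nat.prime_two⟩
  obtain ⟨T⟩ : Nonempty (Sylow 2 G) := inferInstance
  obtain ⟨c, hc⟩ := hm
  rw [hc, Nat.mul_div_cancel_left c (by norm_num)] at hco
  have hc2 : ¬ 2 ∣ c := fun h => by
    have := Nat.eq_one_of_dvd_coprimes hco (show 2 ∣ 12 by norm_num) h; omega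
  have hT : Nat.card (T : Subgroup G) = 4 := by
    rw [Sylow.card_eq_multiplicity, hc, Nat.factorization_mul (a := 12) (b := c) (by norm_num) (fun h => hc2 (h ▸ dvd_zero 2))]
    rw [Finsupp.add_apply, Nat.factorization_eq_zero_of_not_dvd hc2, show (12 : ℕ) = 2 ^ 2 * 3 by norm_num,
      Nat.factorization_mul (by norm_num) (by norm_num), Finsupp.add_apply, Nat.prime_two.factorization_pow,
      Nat.prime_three.factorization]
    simp
  have hco' : (12 : ℕ).Coprime (Nat.card G / 12) := by rwa [hc, Nat.mul_div_cancel_left c (by norm_num)]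
  rcases of_four T hT with h | h
  · exact of_solvable ⟨c, hc⟩ hco' ⊤ (Group.isSolvable_of_isSolvable_injective (f := Subgroup.topEquiv.toMonoidHom)
      (MulEquiv.injective _)) (by rw [Subgroup.card_top, hc]; exact dvd_mul_right _ _)
  · haveI : Group.IsSolvable ↥(Subgroup.normalizer ((T : Subgroup G) : Set G)) :=
      normalizer_solvable T (IsPGroup.isMulCommutative_of_card_eq_prime_sq (p := 2) (by rw [hT]; norm_num))
    refine of_solvable ⟨c, hc⟩ hco' (Subgroup.normalizer ((T : Subgroup G) : Set G)) inferInstance ?_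
    have h4 : 4 ∣ Nat.card (Subgroup.normalizer ((T : Subgroup G) : Set G)) :=
      hT ▸ Subgroup.card_dvd_of_le Subgroup.le_normalizer
    exact (Nat.Coprime.mul_dvd_of_dvd_of_dvd (by norm_num : Nat.Coprime 4 3) h4 h)

end Cfsg.Agent.Bender.HallFour
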