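import Cfsg.Agent.Lib.Bender.HallFour
import Cfsg.Agent.Lib.Lie.SupSolvable
import Cfsg.Agent.S0810
import Cfsg.Agent.S0483
import Cfsg.Agent.S0804

/-!
# Hall subgroups of orders twenty-four and sixty, and of orders twice an odd number
-/

set_option autoImplicit false
set_option linter.style.haveILetI false
set_option linter.unusedSectionVars false

open scoped Pointwise

namespace Cfsg.Agent.Bender.HallFour

open Cfsg Cfsg.Agent Cfsg.Agent.Fusion
open Cfsg.Agent.Bender.AbelianSolvable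

variable {G : Type} [Group G] [Finite G]

/-- The normalizer of a Sylow two-subgroup is solvable. -/
theorem normalizer_solvable_two (T : Sylow 2 G) :
    Group.IsSolvable ↥(Subgroup.normalizer ((T : Subgroup G) : Set G)) := by
  haveI : Fact (Nat.Prime 2) := ⟨Nat.prime_two⟩
  set N := Subgroup.normalizer ((T : Subgroup G) : Set G)
  set T₁ : Subgroup N := (T : Subgroup G).subgroupOf N with hT₁
  haveI : T₁.Normal := Subgroup.normal_in_normalizer
  haveI : Group.IsNilpotent (T : Subgroup G) := T.isPGroup'.isNilpotent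
  haveI : Group.IsSolvable T₁ :=
    Solv.isSolvable_subgroupOf Subgroup.le_normalizer inferInstance
  haveI : Group.IsSolvable (N ⧸ T₁) := odd_solvable' (by
    rw [← Subgroup.index_eq_card]
    refine Nat.not_even_iff_odd.1 fun h => ?_
    refine (T.not_dvd_index) ((even_iff_two_dvd.1 h).trans ?_)
    have hm := Subgroup.relIndex_mul_index (Subgroup.le_normalizer : (T : Subgroup G) ≤ N)
    rw [← hm]
    exact dvd_mul_right _ _)
  exact Group.isSolvable_of_ker_le_range T₁.subtype (QuotientGroup.mk' T₁) (by simp)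

/-- The order of a Sylow two-subgroup. -/
theorem card_sylow {e k : ℕ} (hk : Odd k) (hG : Nat.card G = 2 ^ e * k) (T : Sylow 2 G) :
    Nat.card (T : Subgroup G) = 2 ^ e := by
  haveI : Fact (Nat.Prime 2) := ⟨Nat.prime_two⟩
  obtain ⟨j, hj⟩ := IsPGroup.iff_card.1 T.isPGroup'
  refine Nat.dvd_antisymm ?_ (T.pow_dvd_card_of_pow_dvd_card ⟨k, hG⟩)
  refine (Nat.Coprime.dvd_of_dvd_mul_right (n := k) ?_ (hG ▸ Subgroup.card_subgroup_dvd_card _))
  rw [hj]
  exact (Nat.coprime_two_left.2 hk).pow_left j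

/-- Orders twice an odd number. -/
theorem two_mod_four {m : ℕ} (hm2 : m % 4 = 2) (hm : m ∣ Nat.card G) (hco : m.Coprime (Nat.card G / m)) :
    ∃ H : Subgroup G, Nat.card H = m := by
  haveI : Fact (Nat.Prime 2) := ⟨Nat.prime_two⟩
  obtain ⟨c, hc⟩ := hm
  have hco' := hco
  rw [hc, Nat.mul_div_cancel_left c (by omega)] at hco'
  have hcodd : Odd c := Nat.coprime_two_left.1 (hco'.coprime_dvd_left ⟨m / 2, by omega⟩)
  obtain ⟨T⟩ : Nonempty (Sylow 2 G) := inferInstance
  obtain ⟨j, rfl⟩ : ∃ j, m = 2 * (2 * j + 1) := ⟨m / 4, by omega⟩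
  have hT : Nat.card (T : Subgroup G) = 2 := by
    refine (card_sylow (k := (2 * j + 1) * c) ((odd_two_mul_add_one j).mul hcodd) (e := 1) ?_ T).trans (pow_one 2)
    rw [hc]; ring
  have hsol : Group.IsSolvable G := solvable_of_hnpc (hnpc_of_centralize (sylIn_top T) fun Q hQT g hg hgc => by
    by_contra hgcent
    obtain ⟨r, hr, hr2, -, d, hd, hdlt, hrd, -⟩ := exists_prime_action hg (Nat.coprime_two_right.1 hgc) hgcent
    have hQ : Nat.card Q ∣ 2 := hT ▸ Subgroup.card_dvd_of_le hQT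
    have hQ2 := Nat.le_of_dvd (by norm_num) hQ
    have := Nat.le_of_dvd (by omega) hrd
    have := hr.two_le
    omega)
  exact of_solvable ⟨c, hc⟩ hco ⊤
    (Group.isSolvable_of_isSolvable_injective (f := Subgroup.topEquiv.toMonoidHom) (MulEquiv.injective _))
    (by rw [Subgroup.card_top, hc]; exact dvd_mul_right _ _)

/-- With abelian Sylow subgroup of order eight and no three in its normalizer the centralizers of involutions
are solvable. -/
theorem solvable_centralizers (T : Sylow 2 G) (hT : Nat.card (T : Subgroup G) = 8)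
    (hab : IsMulCommutative (T : Subgroup G))
    (h3 : ¬ 3 ∣ Nat.card (Subgroup.normalizer ((T : Subgroup G) : Set G))) {t : G} (ht : orderOf t = 2) :
    Group.IsSolvable ↥(Subgroup.centralizer ({t} : Set G)) := by
  haveI : Fact (Nat.Prime 2) := ⟨Nat.prime_two⟩
  obtain ⟨P, hP⟩ := (IsPGroup.of_card (p := 2) (n := 1) (G := Subgroup.zpowers t)
    (by rw [Nat.card_zpowers, ht, pow_one])).exists_le_sylow
  have htP : t ∈ (P : Subgroup G) := hP (Subgroup.mem_zpowers t)
  obtain ⟨g, rfl⟩ := MulAction.exists_smul_eq G T P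
  have hPe : ((g • T : Sylow 2 G) : Subgroup G) = Fusion.cj (T : Subgroup G) g := Sylow.coe_subgroup_smul ..
  have hP8 : Nat.card ((g • T : Sylow 2 G) : Subgroup G) = 8 := by rw [hPe, Fusion.card_cj, hT]
  have hPab : IsMulCommutative ((g • T : Sylow 2 G) : Subgroup G) := ⟨⟨fun a b => by
    have ha : g⁻¹ * (a : G) * g ∈ (T : Subgroup G) := Fusion.mem_cj.1 (hPe ▸ a.2)
    have hb : g⁻¹ * (b : G) * g ∈ (T : Subgroup G) := Fusion.mem_cj.1 (hPe ▸ b.2)
    have h := comm_of hab ha hb
    rw [show g⁻¹ * (a : G) * g * (g⁻¹ * b * g) = g⁻¹ * (a * b) * g by group,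
      show g⁻¹ * (b : G) * g * (g⁻¹ * a * g) = g⁻¹ * (b * a) * g by group, mul_left_inj, mul_right_inj] at h
    exact Subtype.ext h⟩⟩
  have hP3 : ¬ 3 ∣ Nat.card (Subgroup.normalizer (((g • T : Sylow 2 G) : Subgroup G) : Set G)) := by
    rwa [hPe, ← Fusion.cj_normalizer, Fusion.card_cj]
  generalize (g • T : Sylow 2 G) = P at htP hP8 hPab hP3
  set C := Subgroup.centralizer ({t} : Set G)
  have hPC : (P : Subgroup G) ≤ C := T_le_centralizer P hPab htP
  obtain ⟨P₁, hP₁⟩ := ((sylIn_top P).mono hPC le_top).exists_sylow_subgroupOf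
  refine solvable_of_hnpc (hnpc_of_normalizer_le_centralizer P₁ fun c hc => ?_)
  have hcN : (c : G) ∈ Subgroup.normalizer ((P : Subgroup G) : Set G) := by
    refine Fusion.mem_normalizer_of_cj_le ?_
    rintro _ ⟨x, hx, rfl⟩
    have := (Subgroup.mem_normalizer_iff.1 hc ⟨x, hPC hx⟩).1 (by rw [hP₁]; exact hx)
    rw [hP₁] at this
    exact this
  obtain ⟨u, hu, w, hw, hwo, hwz, hcuw⟩ := exists_odd_part P hcN
  have hwC : w ∈ Subgroup.centralizer ((P : Subgroup G) : Set G) := by
    by_contra hwc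
    obtain ⟨r, hr, hr2, hrg, d, hd, hdlt, hrd, hfixd⟩ := exists_prime_action hw hwo hwc
    rcases prime_small hr hr2 (by rw [hP8]) hd hdlt hrd with rfl | ⟨-, -, rfl⟩
    · exact hP3 (three_dvd_normalizer hw hrg)
    · obtain ⟨i, rfl⟩ := Subgroup.mem_zpowers_iff.1 hwz
      have hct : Commute (c : G) t := Subgroup.mem_centralizer_singleton_iff.1 c.2
      exact hfixd ⟨t, htP, fun e => by rw [e, orderOf_one] at ht; omega,
        by rw [(hct.zpow_left i).eq, mul_inv_cancel_right]⟩ rfl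
  refine Subgroup.mem_centralizer_iff.2 fun v hv => ?_
  have hv' : (v : G) ∈ (P : Subgroup G) := by
    have : v ∈ (P : Subgroup G).subgroupOf C := hP₁ ▸ hv
    exact this
  refine Subtype.ext ?_
  show (v : G) * c = c * v
  rw [hcuw]
  calc (v : G) * (u * w) = u * (v * w) := by rw [← mul_assoc, comm_of hPab hv' hu, mul_assoc]
    _ = u * w * v := by rw [Subgroup.mem_centralizer_iff.1 hwC v hv', mul_assoc]

/-- A subgroup of order twenty-four. -/
theorem twenty_four (hdich : Dichotomy.{0}) (hcore : CoreTheorem.{0}) (hm : 24 ∣ Nat.card G)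
    (hco : (24 : ℕ).Coprime (Nat.card G / 24)) : ∃ H : Subgroup G, Nat.card H = 24 := by
  haveI : Fact (Nat.Prime 2) := ⟨Nat.prime_two⟩
  obtain ⟨c, hc⟩ := hm
  have hco' := hco
  rw [hc, Nat.mul_div_cancel_left c (by norm_num)] at hco'
  have hcodd : Odd c := Nat.coprime_two_left.1 (hco'.coprime_dvd_left (by norm_num))
  have h3c : ¬ 3 ∣ c := fun h => by
    have := Nat.eq_one_of_dvd_coprimes hco' (show 3 ∣ 24 by norm_num) h; omega
  have h16 : ¬ 2 ^ 4 ∣ Nat.card G := fun h => by
    rw [hc] at h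
    rcases hcodd with ⟨j, rfl⟩
    omega
  obtain ⟨T⟩ : Nonempty (Sylow 2 G) := inferInstance
  have hT : Nat.card (T : Subgroup G) = 8 :=
    card_sylow (e := 3) (k := 3 * c) ((by decide : Odd 3).mul hcodd) (by rw [hc]; ring) T
  have h83 : ∀ n : ℕ, 8 ∣ n → 3 ∣ n → 24 ∣ n := fun n h8 h3 =>
    Nat.Coprime.mul_dvd_of_dvd_of_dvd (by norm_num : Nat.Coprime 8 3) h8 h3
  have hall : Group.IsSolvable G → ∃ H : Subgroup G, Nat.card H = 24 := fun h => by
    haveI := h
    exact of_solvable ⟨c, hc⟩ hco ⊤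
      (Group.isSolvable_of_isSolvable_injective (f := Subgroup.topEquiv.toMonoidHom) (MulEquiv.injective _))
      (by rw [Subgroup.card_top, hc]; exact dvd_mul_right _ _)
  by_cases h3 : 3 ∣ Nat.card (Subgroup.normalizer ((T : Subgroup G) : Set G))
  · exact of_solvable ⟨c, hc⟩ hco _ (normalizer_solvable_two T)
      (h83 _ (hT ▸ Subgroup.card_dvd_of_le Subgroup.le_normalizer) h3)
  rcases of_eight T hT with h | h | hab | ⟨K, hK, h8, hK3⟩
  · exact hall h
  · exact absurd h h3
  swap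
  · exact of_solvable ⟨c, hc⟩ hco K hK (h83 _ h8 hK3)
  rcases AbelianSolvable.main hdich hcore T hab (fun t ht => solvable_centralizers T hT hab h3 ht) with
    h | ⟨F, iF, iFF, hq, N, hN, ⟨e⟩, -⟩
  · exact hall h
  exfalso
  haveI := hN
  set K := Cfsg.oddCore G with hK
  set π := QuotientGroup.mk' K with hπ
  have hKcop : (Nat.card K).Coprime 2 := Fusion.card_pPrimeCore_coprime 2 G
  have hNG : Nat.card N ∣ Nat.card G :=
    (Subgroup.card_subgroup_dvd_card N).trans (Subgroup.card_quotient_dvd_card K)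
  have hPSL := Lead.GLBasic.card_PSL (F := F) 2
  rw [Small.SL2C.card_SL2, ← Nat.card_congr e.toEquiv] at hPSL
  have h8N : ¬ 8 ∣ Nat.card N := by
    intro h8
    rcases hq with ⟨hmod, -⟩ | ⟨n, hn, hFn⟩
    · rw [show Nat.gcd 2 (Fintype.card F - 1) = 2 from by rw [Nat.gcd_eq_left_iff_dvd]; omega,
        show Fintype.card F ^ 2 - 1 = (Fintype.card F + 1) * (Fintype.card F - 1) by rw [← Nat.sq_sub_sq, one_pow]] at hPSL
      obtain ⟨d, hd⟩ := h8
      obtain ⟨j, hj⟩ : ∃ j, Fintype.card F = 8 * j + 3 ∨ Fintype.card F = 8 * j + 5 :=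
        ⟨Fintype.card F / 8, by omega⟩
      rcases hj with hj | hj
      · rw [hd, hj, show 8 * j + 3 - 1 = 2 * (4 * j + 1) by omega, show 8 * j + 3 + 1 = 4 * (2 * j + 1) by omega] at hPSL
        have hodd : Odd ((8 * j + 3) * (2 * j + 1) * (4 * j + 1)) :=
          (Odd.mul (Odd.mul ⟨4 * j + 1, by ring⟩ ⟨j, rfl⟩) ⟨2 * j, by ring⟩)
        obtain ⟨i, hi⟩ := hodd
        have : 16 * d = 8 * ((8 * j + 3) * (2 * j + 1) * (4 * j + 1)) := by rw [← mul_assoc] at hPSL; linarith
        omega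
      · rw [hd, hj, show 8 * j + 5 - 1 = 4 * (2 * j + 1) by omega, show 8 * j + 5 + 1 = 2 * (4 * j + 3) by omega] at hPSL
        have hodd : Odd ((8 * j + 5) * (2 * j + 1) * (4 * j + 3)) :=
          (Odd.mul (Odd.mul ⟨4 * j + 2, by ring⟩ ⟨j, rfl⟩) ⟨2 * j + 1, by ring⟩)
        obtain ⟨i, hi⟩ := hodd
        have : 16 * d = 8 * ((8 * j + 5) * (2 * j + 1) * (4 * j + 3)) := by rw [← mul_assoc] at hPSL; linarith
        omega
    · rw [hFn, show Nat.gcd 2 (2 ^ n - 1) = 1 from Nat.coprime_two_left.2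
        (Nat.Even.sub_odd Nat.one_le_two_pow ⟨2 ^ (n - 1), by
          rw [← two_mul, ← pow_succ', Nat.sub_add_cancel (by omega : 1 ≤ n)]⟩ odd_one), one_mul] at hPSL
      have hn3 : n ≤ 3 := by
        by_contra hlt
        exact h16 ((pow_dvd_pow 2 (by omega : 4 ≤ n)).trans ((hPSL ▸ dvd_mul_right _ _ : 2 ^ n ∣ Nat.card N).trans hNG))
      interval_cases n
      · rw [hPSL] at h8; norm_num at h8
      · have h9 : 9 ∣ Nat.card G := (hPSL ▸ (by norm_num) : 9 ∣ Nat.card N).trans hNG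
        rw [hc] at h9
        omega
  -- the Sylow subgroup of the simple normal subgroup
  set S' := (T : Subgroup G).map π with hS'
  have hTs : SylIn 2 S' ⊤ := sylIn_map_mk (sylIn_top T)
  have hS'ab : S' ≤ Subgroup.centralizer (S' : Set (G ⧸ K)) := by
    rintro _ ⟨a, ha, rfl⟩
    rw [Subgroup.mem_centralizer_iff]
    rintro _ ⟨b, hb, rfl⟩
    rw [← map_mul, ← map_mul, comm_of hab hb ha]
  have hV : SylIn 2 (S' ⊓ N) N := hTs.inf_normal (N := N) le_top (by rw [Subgroup.normalizer_eq_top])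
  obtain ⟨P, hP⟩ := hV.exists_sylow_subgroupOf
  obtain ⟨h, hh, hhc⟩ : ∃ h ∈ Subgroup.normalizer ((P : Subgroup N) : Set N),
      h ∉ Subgroup.centralizer ((P : Subgroup N) : Set N) := by
    by_contra hcon
    push Not at hcon
    haveI := solvable_of_hnpc (hnpc_of_normalizer_le_centralizer P hcon)
    haveI : Group.IsSolvable (Matrix.ProjectiveSpecialLinearGroup (Fin 2) F) :=
      Group.isSolvable_of_surjective e.surjective (f := e.toMonoidHom)
    refine (Cfsg.Agent.S0810.psl_not_solvable (F := F) ?_) this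
    rcases hq with ⟨-, h5⟩ | ⟨n, hn, hFn⟩
    · omega
    · rw [hFn]
      exact le_trans (by norm_num) (Nat.pow_le_pow_right (by norm_num) hn)
  obtain ⟨v, hv, hmove⟩ : ∃ v ∈ (P : Subgroup N), v * h ≠ h * v := by
    by_contra hcon
    push Not at hcon
    exact hhc (Subgroup.mem_centralizer_iff.2 hcon)
  have hPmem : ∀ x : N, x ∈ (P : Subgroup N) ↔ (x : G ⧸ K) ∈ S' := fun x => by
    rw [hP, Subgroup.mem_subgroupOf, Subgroup.mem_inf]
    exact ⟨And.left, fun hx => ⟨hx, x.2⟩⟩
  have hvS := (hPmem v).1 hv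
  have hxvS : (h : G ⧸ K) * v * (h : G ⧸ K)⁻¹ ∈ S' :=
    (hPmem (h * v * h⁻¹)).1 ((Subgroup.mem_normalizer_iff.1 hh v).1 hv)
  obtain ⟨n, hn, hnv⟩ := fusion_of_abelian hTs hS'ab hvS hxvS
  obtain ⟨g, hg, hgn⟩ := exists_lift_normalizer hKcop T.isPGroup' (y := n) hn
  obtain ⟨v₀, hv₀, hv₀e⟩ := hvS
  obtain ⟨u, hu, w, hw, hwo, -, rfl⟩ := exists_odd_part T hg
  set V₀ : Subgroup G := (T : Subgroup G) ⊓ N.comap π with hV₀
  have hwV : w ∈ Subgroup.normalizer (V₀ : Set G) := by
    refine Fusion.mem_normalizer_of_cj_le ?_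
    rintro _ ⟨x, hx, rfl⟩
    refine ⟨(Subgroup.mem_normalizer_iff.1 hw x).1 hx.1, ?_⟩
    show π (w * x * w⁻¹) ∈ N
    rw [map_mul, map_mul, map_inv]
    exact hN.conj_mem _ hx.2 _
  have hV₀card : Nat.card V₀ = 4 := by
    have hmap : V₀.map π = S' ⊓ N := by
      refine le_antisymm ?_ ?_
      · rintro _ ⟨x, hx, rfl⟩
        exact ⟨⟨x, hx.1, rfl⟩, hx.2⟩
      · rintro _ ⟨⟨x, hx, rfl⟩, hxN⟩
        exact ⟨x, ⟨hx, hxN⟩, rfl⟩
    have hle8 : Nat.card V₀ ∣ 8 := hT ▸ Subgroup.card_dvd_of_le inf_le_left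
    have hinj : Nat.card (V₀.map π) = Nat.card V₀ := (Nat.card_congr
      (Equiv.ofBijective (fun x : V₀ => (⟨π x, x, x.2, rfl⟩ : V₀.map π))
        ⟨fun a b hab' => Subtype.ext (injOn_mk_of_coprime hKcop T.isPGroup' a.2.1 b.2.1 (congrArg Subtype.val hab')),
          fun y => by obtain ⟨x, hx, hxy⟩ := y.2; exact ⟨⟨x, hx⟩, Subtype.ext hxy⟩⟩)).symm
    have hlt : Nat.card V₀ ≠ 8 := fun h => h8N (by
      rw [← h, ← hinj, hmap]
      exact Subgroup.card_dvd_of_le inf_le_right)
    obtain ⟨k, hk, hck⟩ := (Nat.dvd_prime_pow Nat.prime_two (m := 3)).1 (by norm_num; exact hle8)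
    interval_cases k
    · exfalso
      have hb : V₀ = ⊥ := Subgroup.card_eq_one.1 (by simpa using hck)
      have hv1 : v₀ ∈ V₀ := ⟨hv₀, show π v₀ ∈ N by rw [hv₀e]; exact v.2⟩
      rw [hb, Subgroup.mem_bot] at hv1
      refine hmove ?_
      rw [show v = 1 from Subtype.ext (by rw [← hv₀e, hv1, map_one]; rfl), one_mul, mul_one]
    · exfalso
      have hv1 : v₀ ∈ V₀ := ⟨hv₀, show π v₀ ∈ N by rw [hv₀e]; exact v.2⟩
      have hxv : (h : G ⧸ K) * v * (h : G ⧸ K)⁻¹ ∈ S' ⊓ N :=
        ⟨hxvS, hN.conj_mem _ v.2 _⟩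
      rw [← hmap] at hxv
      obtain ⟨y, hy, hye⟩ := hxv
      haveI := Fintype.ofFinite V₀
      have hne : y ≠ v₀ := fun he => hmove (Subtype.ext (by
        show (v : G ⧸ K) * h = h * v
        rw [← (show π y = (v : G ⧸ K) by rw [he, hv₀e]), hye, inv_mul_cancel_right]
        rw [← hye, show π y = (v : G ⧸ K) by rw [he, hv₀e]]))
      have hv01 : v₀ ≠ 1 := fun he => hmove (by
        rw [show v = 1 from Subtype.ext (by rw [← hv₀e, he, map_one]; rfl), one_mul, mul_one])
      have hy1 : y ≠ 1 := fun he => hmove (by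
        rw [he, map_one] at hye
        rw [show v = 1 from Subtype.ext (conj_eq_one_iff.1 hye.symm), one_mul, mul_one])
      have : 2 < Fintype.card V₀ := Fintype.two_lt_card_iff.2 ⟨1, ⟨v₀, hv1⟩, ⟨y, hy⟩,
        fun e' => hv01 (congrArg Subtype.val e').symm, fun e' => hy1 (congrArg Subtype.val e').symm,
        fun e' => hne (congrArg Subtype.val e').symm⟩
      rw [← Nat.card_eq_fintype_card, hck] at this
      omega
    · exact hck
    · exact absurd hck hlt
  refine h3 (three_dvd_normalizer hw (three_of_four hV₀card hwV hwo fun hwc => ?_))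
  have h1 := Subgroup.mem_centralizer_iff.1 hwc v₀ ⟨hv₀, show π v₀ ∈ N by rw [hv₀e]; exact v.2⟩
  have h2 : π (u * w * v₀ * (u * w)⁻¹) = π v₀ := by
    congr 1
    calc u * w * v₀ * (u * w)⁻¹ = u * (w * v₀) * w⁻¹ * u⁻¹ := by group
      _ = u * v₀ * u⁻¹ := by rw [← h1]; group
      _ = v₀ := by rw [comm_of hab hu hv₀, mul_inv_cancel_right]
  rw [map_mul, map_mul, map_inv, hgn, hv₀e] at h2
  rw [hnv] at h2
  exact hmove (Subtype.ext (mul_inv_eq_iff_eq_mul.1 h2).symm)

/-- A subgroup of order sixty. -/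
theorem sixty (hm : 60 ∣ Nat.card G) (hco : (60 : ℕ).Coprime (Nat.card G / 60)) :
    ∃ H : Subgroup G, Nat.card H = 60 := by
  haveI : Fact (Nat.Prime 2) := ⟨Nat.prime_two⟩
  obtain ⟨c, hc⟩ := hm
  have hco' := hco
  rw [hc, Nat.mul_div_cancel_left c (by norm_num)] at hco'
  have hcodd : Odd c := Nat.coprime_two_left.1 (hco'.coprime_dvd_left (by norm_num))
  obtain ⟨T⟩ : Nonempty (Sylow 2 G) := inferInstance
  have hT : Nat.card (T : Subgroup G) = 4 :=
    card_sylow (e := 2) (k := 15 * c) ((by decide : Odd 15).mul hcodd) (by rw [hc]; ring) T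
  have hab : IsMulCommutative (T : Subgroup G) :=
    IsPGroup.isMulCommutative_of_card_eq_prime_sq (p := 2) (by rw [hT]; norm_num)
  have hallSolv : ∀ K : Subgroup G, Group.IsSolvable K → 4 ∣ Nat.card K → 3 ∣ Nat.card K → 5 ∣ Nat.card K →
      ∃ H : Subgroup G, Nat.card H = 60 := fun K hK h4 h3 h5 =>
    of_solvable ⟨c, hc⟩ hco K hK (Nat.Coprime.mul_dvd_of_dvd_of_dvd (by norm_num : Nat.Coprime 12 5)
      (Nat.Coprime.mul_dvd_of_dvd_of_dvd (by norm_num : Nat.Coprime 4 3) h4 h3) h5)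
  by_cases hsol : Group.IsSolvable G
  · haveI := hsol
    exact of_solvable ⟨c, hc⟩ hco ⊤
      (Group.isSolvable_of_isSolvable_injective (f := Subgroup.topEquiv.toMonoidHom) (MulEquiv.injective _))
      (by rw [Subgroup.card_top, hc]; exact dvd_mul_right _ _)
  set NT := Subgroup.normalizer ((T : Subgroup G) : Set G) with hNT
  have h3 : 3 ∣ Nat.card NT := (of_four T hT).resolve_left hsol
  have h4 : 4 ∣ Nat.card NT := hT ▸ Subgroup.card_dvd_of_le Subgroup.le_normalizer
  haveI := normalizer_solvable_two T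
  by_cases h5 : 5 ∣ Nat.card NT
  · exact hallSolv NT inferInstance h4 h3 h5
  obtain ⟨R, hR, hRperf, hRne, -⟩ := Perm.Fpf.exists_perfect_residual (G := G)
  haveI := hR
  haveI := hRperf
  have hRne' := hRne hsol
  haveI : Nontrivial R := (Subgroup.nontrivial_iff_ne_bot R).2 hRne'
  have hRns : ¬ Group.IsSolvable R := fun h => by
    haveI := h
    exact (Group.IsSolvable.commutator_lt_top_of_nontrivial R).ne Group.IsPerfect.commutator_eq_top
  -- the Sylow subgroup lies in the residual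
  have hTR : (T : Subgroup G) ≤ R := by
    by_contra hle
    have hlt : Nat.card ((T : Subgroup G) ⊓ R : Subgroup G) ∣ 2 := by
      have hd := Subgroup.card_dvd_of_le (inf_le_left : (T : Subgroup G) ⊓ R ≤ (T : Subgroup G))
      rw [hT] at hd
      obtain ⟨k, hk, hck⟩ := (Nat.dvd_prime_pow Nat.prime_two (m := 2)).1 (by norm_num; exact hd)
      rw [hck]
      interval_cases k
      · norm_num
      · norm_num
      · exact absurd (inf_eq_left.1 (Subgroup.eq_of_le_of_card_ge inf_le_left (by rw [hT, hck]; norm_num))) hle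
    obtain ⟨P, hP⟩ := ((sylIn_top T).inf_normal (N := R) le_top
      (by rw [Subgroup.normalizer_eq_top])).exists_sylow_subgroupOf
    refine hRns (solvable_of_hnpc (hnpc_of_centralize (sylIn_top P) fun Q hQP g hg hgc => ?_))
    by_contra hgcent
    obtain ⟨r, hr, hr2, -, d, hd, hdlt, hrd, -⟩ := exists_prime_action hg (Nat.coprime_two_right.1 hgc) hgcent
    have hQ2 : Nat.card Q ≤ 2 := by
      refine Nat.le_of_dvd (by norm_num) ((Subgroup.card_dvd_of_le hQP).trans ?_)
      rw [hP, Nat.card_congr (Subgroup.subgroupOfEquivOfLe inf_le_right).toEquiv]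
      exact hlt
    have := Nat.le_of_dvd (by omega) hrd
    have := hr.two_le
    omega
  obtain ⟨P, hP⟩ := ((sylIn_top T).mono hTR le_top).exists_sylow_subgroupOf
  have hP4 : Nat.card (P : Subgroup R) = 4 := by
    rw [hP, Nat.card_congr (Subgroup.subgroupOfEquivOfLe hTR).toEquiv, hT]
  have hPsq : ∀ u : (P : Subgroup R), u * u = 1 := by
    by_contra hcon
    push Not at hcon
    obtain ⟨u, hu⟩ := hcon
    have hord : orderOf u = 4 := by
      obtain ⟨k, hk, hck⟩ := (Nat.dvd_prime_pow Nat.prime_two (m := 2)).1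
        (show orderOf u ∣ 2 ^ 2 by norm_num; exact hP4 ▸ orderOf_dvd_natCard u)
      interval_cases k
      · have hu1 : u = 1 := orderOf_eq_one_iff.1 (by simpa using hck)
        exact absurd (by rw [hu1, one_mul]) hu
      · exact absurd ((pow_two u).symm.trans (orderOf_dvd_iff_pow_eq_one.1 (dvd_of_eq (by simpa using hck)))) hu
      · simpa using hck
    haveI : IsCyclic (P : Subgroup R) := isCyclic_of_orderOf_eq_card u (by rw [hord, hP4])
    refine hRns (solvable_of_hnpc (hnpc_of_normalizer_le_centralizer P fun g hg => ?_))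
    obtain ⟨u', hu', w, hw, hwo, -, rfl⟩ := exists_odd_part P hg
    refine mul_mem (le_centralizer_self P (IsPGroup.isMulCommutative_of_card_eq_prime_sq (p := 2) (by rw [hP4]; norm_num)) hu') ?_
    refine Subgroup.mem_centralizer_iff.2 fun x hx => ?_
    set σ := (P : Subgroup R).normalizerMonoidHom ⟨w, hw⟩
    have hσ : σ = 1 := by
      refine orderOf_eq_one_iff.1 (Nat.eq_one_of_dvd_coprimes (a := orderOf w) (b := Nat.card (MulAut (P : Subgroup R))) ?_ ?_
        (orderOf_dvd_natCard σ))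
      · rw [IsCyclic.card_mulAut, hP4, show Nat.totient 4 = 2 from by decide]
        exact Nat.coprime_two_right.2 hwo
      · refine (orderOf_map_dvd _ _).trans ?_
        rw [← Subgroup.orderOf_coe]
    have hx' : w * x * w⁻¹ = x :=
      congrArg (fun y : (P : Subgroup R) => (y : R)) (DFunLike.congr_fun hσ (⟨x, hx⟩ : (P : Subgroup R)))
    exact (mul_inv_eq_iff_eq_mul.1 hx').symm
  haveI : Nontrivial (P : Subgroup R) := Finite.one_lt_card_iff_nontrivial.1 (by omega)
  haveI : IsKleinFour (P : Subgroup R) := ⟨hP4, by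
    refine Nat.dvd_antisymm (Monoid.exponent_dvd_of_forall_pow_eq_one fun u => by rw [pow_two]; exact hPsq u) ?_
    obtain ⟨v, hv⟩ := exists_prime_orderOf_dvd_card' (G := (P : Subgroup R)) 2 (by rw [hP4]; norm_num)
    exact (dvd_of_eq hv.symm).trans (Monoid.order_dvd_exponent v)⟩
  obtain ⟨e₂⟩ : Nonempty ((P : Subgroup R) ≃* DihedralGroup 2) := IsKleinFour.nonempty_mulEquiv
  -- five divides the order of the residual
  have h5R : 5 ∣ Nat.card R := by
    have hsup : NT ⊔ R = ⊤ := by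
      refine eq_top_iff.2 fun g _ => ?_
      obtain ⟨n, hn, hng⟩ := frattini_conj (H := ⊤) ((sylIn_top T).mono hTR le_top)
        (by rw [Subgroup.normalizer_eq_top]) (Subgroup.mem_top g)
      rw [← inv_mul_cancel_left n g]
      exact mul_mem (Subgroup.mem_sup_right (inv_mem hn)) (Subgroup.mem_sup_left hng)
    have hdvd : Nat.card G ∣ Nat.card NT * Nat.card R := by
      have h := Fusion.card_sup_dvd R NT
      rw [hsup, Subgroup.card_top] at h
      exact h
    exact ((Nat.Prime.dvd_mul (by norm_num)).1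
      ((show 5 ∣ Nat.card G from ⟨12 * c, by rw [hc]; ring⟩).trans hdvd)).resolve_left h5
  set O : Subgroup G := (Cfsg.oddCore R).map R.subtype with hOdef
  haveI hOn : O.Normal := by
    haveI : (Cfsg.oddCore R).Characteristic := inferInstanceAs (Cfsg.pPrimeCore 2 R).Characteristic
    infer_instance
  haveI : Group.IsSolvable O := Solv.isSolvable_map _ (odd_solvable'
    (Nat.coprime_two_right.1 (Fusion.card_pPrimeCore_coprime 2 R)))
  by_cases h5O : 5 ∣ Nat.card O
  · refine hallSolv (O ⊔ NT) ?_ (h4.trans (Subgroup.card_dvd_of_le le_sup_right))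
      (h3.trans (Subgroup.card_dvd_of_le le_sup_right)) (h5O.trans (Subgroup.card_dvd_of_le le_sup_left))
    exact Lie.isSolvable_sup_of_le_normalizer inferInstance inferInstance (by rw [Subgroup.normalizer_eq_top]; exact le_top)
  have hcardR : Nat.card R = Nat.card (R ⧸ Cfsg.oddCore R) * Nat.card (Cfsg.oddCore R) :=
    Subgroup.card_eq_card_quotient_mul_card_subgroup _
  have hOc : Nat.card O = Nat.card (Cfsg.oddCore R) := Subgroup.card_map_of_injective R.subtype_injective
  rcases S0483.result P 2 le_rfl ⟨e₂⟩ with ⟨F, iF, iFF, hodd, hF3, ⟨e⟩⟩ | ⟨⟨e⟩⟩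
  swap
  · exfalso
    have h8 : 8 ∣ Nat.card G := by
      refine dvd_trans ?_ (Subgroup.card_subgroup_dvd_card R)
      rw [hcardR, Nat.card_congr e.toEquiv, nat_card_alternatingGroup, Nat.card_fin]
      exact Dvd.dvd.mul_right (by decide +kernel) _
    rw [hc] at h8
    rcases hcodd with ⟨j, rfl⟩
    omega
  letI := iF
  letI := iFF
  have hPSL := Lead.GLBasic.card_PSL (F := F) 2
  rw [Small.SL2C.card_SL2, ← Nat.card_congr e.toEquiv] at hPSL
  have h5q : 5 ∣ Fintype.card F * (Fintype.card F ^ 2 - 1) := by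
    rw [← hPSL]
    refine Dvd.dvd.mul_left ?_ _
    rw [hcardR, ← hOc] at h5R
    exact ((Nat.Prime.dvd_mul (by norm_num)).1 h5R).resolve_right h5O
  obtain ⟨B, ⟨eB⟩⟩ := (S0804.result (F := F) rfl).2 h5q
  set f := QuotientGroup.mk' (Cfsg.oddCore R) with hf
  set B' := (B.comap e.toMonoidHom).comap f with hB'
  have hB'i : B'.index = B.index := by
    rw [hB', Subgroup.index_comap_of_surjective _ (QuotientGroup.mk'_surjective _),
      Subgroup.index_comap_of_surjective _ e.surjective]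
  have hB'c : Nat.card B' = 60 * Nat.card (Cfsg.oddCore R) := by
    have h1 := B'.card_mul_index
    have h2 := B.card_mul_index
    have hB60 : Nat.card B = 60 := by
      rw [Nat.card_congr eB.toEquiv, nat_card_alternatingGroup, Nat.card_fin]; rfl
    rw [hB60, ← Nat.card_congr e.toEquiv] at h2
    rw [hB'i, hcardR, ← h2] at h1
    refine Nat.eq_of_mul_eq_mul_right (Nat.pos_of_ne_zero B.index_ne_zero_of_finite) ?_
    rw [h1]; ring
  set O₁ := (Cfsg.oddCore R).subgroupOf B' with hO₁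
  have hle : Cfsg.oddCore R ≤ B' := fun x hx => by
    show e (f x) ∈ B
    rw [show f x = 1 from (QuotientGroup.eq_one_iff x).2 hx, map_one]
    exact one_mem B
  have hO₁c : Nat.card O₁ = Nat.card (Cfsg.oddCore R) := Nat.card_congr (Subgroup.subgroupOfEquivOfLe hle).toEquiv
  have h60 : O₁.index = 60 := by
    have := O₁.card_mul_index
    rw [hO₁c, hB'c, mul_comm 60] at this
    exact Nat.eq_of_mul_eq_mul_left Nat.card_pos this
  have hcop : (Nat.card O₁).Coprime O₁.index := by
    rw [h60, hO₁c, ← hOc]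
    have hG3 : 60 * Nat.card O ∣ Nat.card G := by
      rw [hOc, ← hB'c]
      exact (B'.card_subgroup_dvd_card).trans (Subgroup.card_subgroup_dvd_card R)
    rw [hc] at hG3
    exact (hco'.coprime_dvd_right (Nat.dvd_of_mul_dvd_mul_left (by norm_num) hG3)).symm
  obtain ⟨Y, hY⟩ := Subgroup.exists_right_complement'_of_coprime hcop
  refine ⟨(Y.map B'.subtype).map R.subtype, ?_⟩
  rw [Subgroup.card_map_of_injective R.subtype_injective, Subgroup.card_map_of_injective B'.subtype_injective,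
    ← hY.symm.index_eq_card, h60]

end Cfsg.Agent.Bender.HallFour
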