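import Cfsg.Agent.Lib.Classical.Dickson.Tools
import Cfsg.Agent.Lib.Classical.SL2FourSylow
import Cfsg.Agent.Lib.Small.Ree.PSLFacts
import Cfsg.Agent.S0276
import Cfsg.Agent.S0810

/-!
# Odd subgroups of `PSL₂(q)`, `q ≡ 3, 5 (mod 8)`, inverted by an involution and normalised by its centralizer
-/

set_option autoImplicit false
set_option linter.style.haveILetI false
set_option linter.unusedSectionVars false

namespace Cfsg.Agent.Bender.PSLInverted

open Cfsg Cfsg.Agent Cfsg.Agent.Classical Cfsg.Agent.Small Cfsg.Agent.Small.SL2C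

variable {F : Type*} [Field F] [Fintype F]

local notation "P2" => Matrix.ProjectiveSpecialLinearGroup (Fin 2) F

/-- The order of the centralizer of an involution. -/
theorem invol_centralizer (h2 : (2 : F) ≠ 0) {y : P2} (hy : y * y = 1) (hy1 : y ≠ 1) :
    Nat.card (Subgroup.centralizer ({y} : Set P2)) = Fintype.card F - 1 ∨
      Nat.card (Subgroup.centralizer ({y} : Set P2)) = Fintype.card F + 1 := by
  obtain ⟨g, rfl⟩ := PSL2.pr_surjective y
  have hg : ¬ IsSc g.1 := fun h => hy1 (pr_eq_one_iff.2 h)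
  have ht : g.1.trace = 0 := ((Classical.SL2Four.pr_self_mul_eq_one_iff h2).1 hy).resolve_left hg
  have h := card_centralizer_pr g hg
  rw [center_card_odd h2, if_pos ⟨h2, ht⟩, ht] at h
  have h4 : (0 : F) * 0 ≠ 4 := fun e => mul_ne_zero h2 h2 (by linear_combination -e)
  rcases sol_eq h4 with ⟨-, hs⟩ | ⟨-, hs⟩ <;> rw [hs] at h
  · exact Or.inl (by omega)
  · exact Or.inr (by omega)

/-- In `A₄` and `A₅` involutions commute with no element of order three or five. -/
theorem alt_four_commute : ∀ a b : alternatingGroup (Fin 4),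
    a * a = 1 → a * b = b * a → (b * b * b = 1 ∨ b * b * b * b * b = 1) → a = 1 ∨ b = 1 := by
  decide +kernel

theorem alt_five_commute : ∀ a b : alternatingGroup (Fin 5),
    a * a = 1 → a * b = b * a → (b * b * b = 1 ∨ b * b * b * b * b = 1) → a = 1 ∨ b = 1 := by
  decide +kernel

/-- The statement. -/
theorem eq_bot (h35 : Fintype.card F % 8 = 3 ∨ Fintype.card F % 8 = 5) {u : P2} (hu : u * u = 1) (hu1 : u ≠ 1)
    {R : Subgroup P2} (hR : Odd (Nat.card R)) (hinv : ∀ r ∈ R, u * r * u⁻¹ = r⁻¹)
    (hnorm : Subgroup.centralizer ({u} : Set P2) ≤ Subgroup.normalizer (R : Set P2)) : R = ⊥ := by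
  classical
  haveI : Fact (Nat.Prime 2) := ⟨Nat.prime_two⟩
  haveI : Finite P2 := Finite.of_surjective _ PSL2.pr_surjective
  have hodd : Odd (Fintype.card F) := Nat.odd_iff.2 (by omega)
  have h2 : (2 : F) ≠ 0 := Classical.SL2Four.two_ne_zero_of_odd rfl hodd
  set D := Subgroup.centralizer ({u} : Set P2) with hD
  -- elements fixed and inverted are trivial
  have hfix : ∀ r ∈ R, u * r = r * u → r = 1 := fun r hr hc => by
    have h1 := hinv r hr
    rw [hc, mul_inv_cancel_right] at h1
    have h3 : orderOf r ∣ 2 := orderOf_dvd_of_pow_eq_one (by rw [pow_two]; exact mul_eq_one_iff_eq_inv.2 h1)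
    have h4 : orderOf r ∣ Nat.card R :=
      Subgroup.orderOf_mk r hr ▸ orderOf_dvd_natCard (⟨r, hr⟩ : R)
    exact orderOf_eq_one_iff.1
      (Nat.eq_one_of_dvd_coprimes (Nat.coprime_two_left.2 hR) h3 h4)
  -- the Sylow subgroups have order four
  obtain ⟨P₀, hP₀⟩ := (IsPGroup.of_card (p := 2) (n := 1) (G := Subgroup.zpowers u)
    (by rw [Nat.card_zpowers, pow_one]; exact orderOf_eq_prime (by rw [pow_two]; exact hu) hu1)).exists_le_sylow
  haveI hK4 := Cfsg.Agent.S0276.result rfl h35 P₀
  have huP : u ∈ (P₀ : Subgroup P2) := hP₀ (Subgroup.mem_zpowers u)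
  have hPD : (P₀ : Subgroup P2) ≤ D := fun x hx => Subgroup.mem_centralizer_singleton_iff.2 <| by
    have h := IsKleinFour.isMulCommutative (G := (P₀ : Subgroup P2))
    exact congrArg Subtype.val (h.is_comm.comm (⟨x, hx⟩ : (P₀ : Subgroup P2)) ⟨u, huP⟩)
  have h8 : ¬ 8 ∣ Nat.card P2 := fun h => by
    have := P₀.pow_dvd_card_of_pow_dvd_card (n := 3) (by rwa [show (2 : ℕ) ^ 3 = 8 from rfl])
    rw [show Nat.card (P₀ : Subgroup P2) = 4 from IsKleinFour.card_four] at this
    norm_num at this
  have h4D : 4 ∣ Nat.card D := (IsKleinFour.card_four (G := (P₀ : Subgroup P2))) ▸ Subgroup.card_dvd_of_le hPD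
  by_cases hD4 : Nat.card D = 4
  · -- all three involutions of the four group invert `R`
    by_contra hne
    obtain ⟨r, hr, hr1⟩ := (Subgroup.bot_or_exists_ne_one R).resolve_left hne
    have hinvw : ∀ w ∈ (P₀ : Subgroup P2), w ≠ 1 → ∀ x ∈ R, w * x * w⁻¹ = x⁻¹ := by
      intro w hw hw1 x hx
      have hww : w * w = 1 := congrArg Subtype.val (IsKleinFour.mul_self (⟨w, hw⟩ : (P₀ : Subgroup P2)))
      let φ : R →* R := (Subgroup.normalizerMonoidHom R ⟨w, hnorm (hPD hw)⟩).toMonoidHom
      have hcard : Nat.card (Subgroup.centralizer ({w} : Set P2)) = 4 := by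
        obtain ⟨g, hg⟩ := isConj_iff.1 (Classical.SL2Four.involutions_conj h2
          (orderOf_eq_prime (by rw [pow_two]; exact hu) hu1) (orderOf_eq_prime (by rw [pow_two]; exact hww) hw1))
        refine (((Nat.card_congr (D.equivMapOfInjective (MulAut.conj g).toMonoidHom
          (MulAut.conj g).injective).toEquiv).trans ?_).symm).trans hD4
        congr 2
        ext z
        rw [Fusion.mem_cj, Subgroup.mem_centralizer_singleton_iff, Subgroup.mem_centralizer_singleton_iff, ← hg]
        constructor <;> intro h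
        · calc z * (g * u * g⁻¹) = g * (g⁻¹ * z * g * u) * g⁻¹ := by group
            _ = g * (u * (g⁻¹ * z * g)) * g⁻¹ := by rw [h]
            _ = g * u * g⁻¹ * z := by group
        · calc g⁻¹ * z * g * u = g⁻¹ * (z * (g * u * g⁻¹)) * g := by group
            _ = g⁻¹ * (g * u * g⁻¹ * z) * g := by rw [h]
            _ = u * (g⁻¹ * z * g) := by group
      have hfpf : MonoidHom.FixedPointFree φ := fun a ha => by
        have hc : (a : P2) ∈ Subgroup.centralizer ({w} : Set P2) :=
          Subgroup.mem_centralizer_singleton_iff.2 (mul_inv_eq_iff_eq_mul.1 (congrArg Subtype.val ha :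
            w * (a : P2) * w⁻¹ = a)).symm
        have h1 : orderOf (a : P2) ∣ 4 := hcard ▸ Subgroup.orderOf_mk (a : P2) hc ▸ orderOf_dvd_natCard _
        have h2' : orderOf (a : P2) ∣ Nat.card R := (Subgroup.orderOf_coe a).symm ▸ orderOf_dvd_natCard a
        exact Subtype.ext (orderOf_eq_one_iff.1 (Nat.eq_one_of_dvd_coprimes
          ((Nat.coprime_two_left.2 hR).pow_left 2) h1 h2'))
      have hinvol : Function.Involutive φ := fun a => Subtype.ext (by
        show w * (w * (a : P2) * w⁻¹) * w⁻¹ = a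
        rw [← mul_assoc, ← mul_assoc, hww, one_mul, mul_assoc, ← mul_inv_rev, hww, inv_one, mul_one])
      exact congrArg Subtype.val (congrFun (hfpf.coe_eq_inv_of_involutive hinvol) ⟨x, hx⟩)
    obtain ⟨w, hw, hw1, hwu⟩ : ∃ w ∈ (P₀ : Subgroup P2), w ≠ 1 ∧ w ≠ u := by
      by_contra hcon
      push Not at hcon
      haveI := Fintype.ofFinite (P₀ : Subgroup P2)
      have hle : Fintype.card (P₀ : Subgroup P2) ≤ 2 := by
        refine (Finset.card_le_card (s := Finset.univ) (t := {1, (⟨u, huP⟩ : (P₀ : Subgroup P2))})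
          fun z _ => ?_).trans Finset.card_le_two
        by_cases hz : (z : P2) = 1
        · exact Finset.mem_insert.2 (Or.inl (Subtype.ext hz))
        · exact Finset.mem_insert.2 (Or.inr (Finset.mem_singleton.2 (Subtype.ext (hcon z z.2 hz))))
      rw [← Nat.card_eq_fintype_card, IsKleinFour.card_four] at hle
      omega
    have hwu1 : w * u ≠ 1 := fun e => hwu (by rw [mul_eq_one_iff_eq_inv.1 e, inv_eq_of_mul_eq_one_right hu])
    have ha := hinvw (w * u) (mul_mem hw huP) hwu1 r hr
    have hb : w * u * r * (w * u)⁻¹ = r := by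
      calc w * u * r * (w * u)⁻¹ = w * (u * r * u⁻¹) * w⁻¹ := by group
        _ = r := by rw [hinv r hr, hinvw w hw hw1 r⁻¹ (inv_mem hr), inv_inv]
    rw [hb] at ha
    refine hr1 (hfix r hr ?_)
    have := hinv r hr
    rw [← ha] at this
    exact mul_inv_eq_iff_eq_mul.1 this
  -- an element of odd prime order centralising `u`
  obtain ⟨d, hd⟩ := h4D
  have hdodd : ¬ 2 ∣ d := fun ⟨e, he⟩ => h8 ((Dvd.intro e (by rw [hd, he]; ring)).trans
    (Subgroup.card_subgroup_dvd_card D))
  obtain ⟨r₀, hr₀, hr₀d⟩ := Nat.exists_prime_and_dvd (n := d) (fun e => hD4 (by rw [hd, e]))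
  have hr₀2 : r₀ ≠ 2 := fun e => hdodd (e ▸ hr₀d)
  haveI := Fact.mk hr₀
  obtain ⟨⟨c, hcD⟩, hc⟩ := exists_prime_orderOf_dvd_card' (G := D) r₀ (hd ▸ hr₀d.mul_left 4)
  rw [Subgroup.orderOf_mk] at hc
  have hcu : c * u = u * c := Subgroup.mem_centralizer_singleton_iff.1 hcD
  set K := R ⊔ D with hK
  have hDK : D ≤ K := le_sup_right
  have huD : u ∈ D := Subgroup.mem_centralizer_singleton_iff.2 rfl
  have huK : u ∈ K := hDK huD
  have hcK : c ∈ K := hDK hcD
  have h4K : 4 ∣ Nat.card K := (Dvd.intro d hd.symm).trans (Subgroup.card_dvd_of_le hDK)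
  have hK8 : ¬ 8 ∣ Nat.card K := fun h => h8 (h.trans (Subgroup.card_subgroup_dvd_card K))
  have hsmall : ∀ {n : ℕ} (e : K ≃* alternatingGroup (Fin n)), n = 4 ∨ n = 5 → False := by
    intro n e hn
    have hr : r₀ ∣ Nat.card (alternatingGroup (Fin n)) := by
      rw [← Nat.card_congr e.toEquiv, ← hc, ← Subgroup.orderOf_mk c hcK]
      exact orderOf_dvd_natCard _
    set a := e ⟨u, huK⟩
    set b := e ⟨c, hcK⟩
    have ha : a * a = 1 := by rw [← map_mul, ← map_one e]; exact congrArg e (Subtype.ext hu)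
    have hab : a * b = b * a := by rw [← map_mul, ← map_mul]; exact congrArg e (Subtype.ext hcu.symm)
    have ha1 : a ≠ 1 := fun h => hu1 (congrArg Subtype.val (e.injective (h.trans (map_one e).symm)))
    have hb1 : b ≠ 1 := fun h => by
      have : c = 1 := congrArg Subtype.val (e.injective (h.trans (map_one e).symm))
      rw [this, orderOf_one] at hc
      exact hr₀.ne_one hc.symm
    have hbo : b ^ r₀ = 1 := by
      rw [← map_pow, ← map_one e]
      exact congrArg e (Subtype.ext (hc ▸ pow_orderOf_eq_one c))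
    have hr60 : r₀ ∣ 60 := by
      rcases hn with rfl | rfl
      · rw [nat_card_alternatingGroup, Nat.card_fin] at hr
        exact hr.trans (by decide)
      · rw [nat_card_alternatingGroup, Nat.card_fin] at hr
        exact hr.trans (by decide)
    have hr5 : r₀ = 3 ∨ r₀ = 5 := by
      have h60 := Nat.le_of_dvd (by norm_num) hr60
      interval_cases r₀ <;> simp_all (config := { decide := true })
    have hor : b * b * b = 1 ∨ b * b * b * b * b = 1 := by
      rcases hr5 with h | h <;> rw [h] at hbo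
      · exact Or.inl (by simpa [pow_succ] using hbo)
      · exact Or.inr (by simpa [pow_succ] using hbo)
    rcases hn with rfl | rfl
    · exact (alt_four_commute a b ha hab hor).elim ha1 hb1
    · exact (alt_five_commute a b ha hab hor).elim ha1 hb1
  rcases Dickson.cases_on K with ⟨k, -, h⟩ | ⟨g, hg, -⟩ | ⟨-, ⟨e⟩⟩ | ⟨-, ⟨e⟩⟩ | ⟨-, ⟨e⟩⟩ | ⟨K', j, hj, hKj, h⟩
  · rcases h with ⟨hcy, -⟩ | ⟨-, ⟨e⟩⟩
    · haveI := hcy
      refine eq_bot_iff.2 fun r hr => hfix r hr ?_
      haveI : IsMulCommutative K := IsCyclic.commutative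
      exact congrArg Subtype.val (mul_comm' (⟨u, huK⟩ : K) ⟨r, Subgroup.mem_sup_left hr⟩)
    · have horder : ∀ x : P2, ∀ hx : x ∈ K, Odd (orderOf x) → ∃ i, e ⟨x, hx⟩ = DihedralGroup.r i := by
        intro x hx ho
        rcases hex : e ⟨x, hx⟩ with i | i
        · exact ⟨i, rfl⟩
        · exfalso
          have : orderOf x = 2 := by
            rw [← Subgroup.orderOf_mk x hx, ← MulEquiv.orderOf_eq e, hex, DihedralGroup.orderOf_sr]
          rw [this] at ho
          exact absurd ho (by decide)
      obtain ⟨i, hi⟩ := horder c hcK (hc ▸ hr₀.odd_of_ne_two hr₀2)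
      rcases hue : e ⟨u, huK⟩ with j' | j'
      · refine eq_bot_iff.2 fun r hr => hfix r hr ?_
        obtain ⟨l, hl⟩ := horder r (Subgroup.mem_sup_left hr) (Odd.of_dvd_nat hR
          (Subgroup.orderOf_mk r hr ▸ orderOf_dvd_natCard (⟨r, hr⟩ : R)))
        have : (⟨u, huK⟩ : K) * ⟨r, Subgroup.mem_sup_left hr⟩ = ⟨r, Subgroup.mem_sup_left hr⟩ * ⟨u, huK⟩ :=
          e.injective (by rw [map_mul, map_mul, hl, hue, DihedralGroup.r_mul_r, DihedralGroup.r_mul_r, add_comm])
        exact congrArg Subtype.val this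
      · exfalso
        have h' : e ⟨c, hcK⟩ * e ⟨u, huK⟩ = e ⟨u, huK⟩ * e ⟨c, hcK⟩ := by
          rw [← map_mul, ← map_mul]; exact congrArg e (Subtype.ext hcu)
        rw [hi, hue, DihedralGroup.r_mul_sr, DihedralGroup.sr_mul_r, DihedralGroup.sr.injEq] at h'
        have h2i : i + i = 0 := by linear_combination -h'
        have hsq : e ⟨c, hcK⟩ * e ⟨c, hcK⟩ = 1 := by
          rw [hi, DihedralGroup.r_mul_r, h2i]; rfl
        rw [← map_mul, ← map_one e] at hsq
        have hc2 : c * c = 1 := congrArg Subtype.val (e.injective hsq)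
        have := hc ▸ orderOf_dvd_of_pow_eq_one (x := c) (n := 2) (by rw [pow_two]; exact hc2)
        exact hr₀2 ((Nat.prime_dvd_prime_iff_eq hr₀ Nat.prime_two).1 this)
  · exfalso
    have hb := Subgroup.card_dvd_of_le hg
    rw [Subgroup.card_map_of_injective (f := (PSL2.conjP g).toMonoidHom) (PSL2.conjP g).injective] at hb
    have hbo := Dickson.card_borelP (F := F)
    obtain ⟨k', hk'⟩ := hodd
    rw [show Nat.gcd 2 (Fintype.card F - 1) = 2 from Nat.gcd_eq_left ⟨k', by omega⟩,
      show Fintype.card F - 1 = 2 * k' by omega, mul_assoc, mul_comm 2 (k' * _)] at hbo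
    have h4 : 4 ∣ k' * Fintype.card F := Nat.eq_of_mul_eq_mul_right (by norm_num) hbo ▸ h4K.trans hb
    have h4k : 4 ∣ k' := (Nat.Coprime.dvd_of_dvd_mul_right (by
      rw [show (4 : ℕ) = 2 ^ 2 by norm_num]
      exact (Nat.coprime_two_left.2 ⟨k', hk'⟩).pow_left 2) h4)
    omega
  · exact (hsmall e (Or.inl rfl)).elim
  · refine absurd ?_ hK8
    rw [Nat.card_congr e.toEquiv, Nat.card_perm, Nat.card_fin]
    decide
  · exact (hsmall e (Or.inr rfl)).elim
  · haveI : Fintype K' := Fintype.ofFinite K'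
    have hodd' : Odd (Nat.card K') := (Nat.odd_pow_iff (by omega)).1 (hKj ▸ hodd)
    obtain ⟨k', hk'⟩ := hodd'
    have h8' : 8 ∣ Nat.card K' ^ 2 - 1 := by
      obtain ⟨l, hl⟩ := (Nat.even_mul_succ_self k').two_dvd
      refine ⟨l, ?_⟩
      rw [hk', show (2 * k' + 1) ^ 2 = 4 * (k' * (k' + 1)) + 1 by ring, hl]
      omega
    rcases h with ⟨-, hcard⟩ | ⟨-, ⟨f⟩, hcard⟩
    · exact absurd (hcard ▸ h8'.mul_left _) hK8
    · have hgt : 4 < Nat.card D := lt_of_le_of_ne (Nat.le_of_dvd Nat.card_pos (Dvd.intro d hd.symm)) (Ne.symm hD4)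
      have hDq : Fintype.card F - 1 ≤ Nat.card D ∧ Nat.card D ≤ Fintype.card F + 1 := by
        rcases invol_centralizer h2 hu hu1 with h' | h' <;> rw [hD, h'] <;> omega
      by_cases hj1 : j = 1
      · rw [hj1, pow_one] at hKj
        have htop : K = ⊤ := by
          refine Subgroup.eq_top_of_card_eq _ ?_
          have hP := Dickson.card_P2 (F := F)
          obtain ⟨k'', hk''⟩ := hodd
          rw [show Nat.gcd 2 (Fintype.card F - 1) = 2 from Nat.gcd_eq_left ⟨k'', by omega⟩, ← hKj, ← hcard] at hP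
          omega
        haveI : R.Normal := Subgroup.normalizer_eq_top_iff.1 (eq_top_iff.2 (htop ▸ sup_le Subgroup.le_normalizer hnorm))
        haveI := Cfsg.Agent.S0810.psl_simple_big (F := F) (by omega)
        rcases (inferInstance : R.Normal).eq_bot_or_eq_top with h' | h'
        · exact h'
        · rw [h', Subgroup.card_top] at hR
          exact absurd (even_iff_two_dvd.2 (((show 2 ∣ 4 by norm_num).trans (Dvd.intro d hd.symm)).trans
            (Subgroup.card_subgroup_dvd_card D))) (Nat.not_even_iff_odd.2 hR)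
      · exfalso
        have hsq : Nat.card K' ^ 2 ≤ Fintype.card F := hKj ▸ Nat.pow_le_pow_right (by omega) (by omega)
        let ψ : D →* Matrix.ProjectiveSpecialLinearGroup (Fin 2) K' :=
          f.toMonoidHom.comp (Subgroup.inclusion hDK)
        have hψ : Function.Injective ψ := f.injective.comp (Subgroup.inclusion_injective _)
        have hfu2 : f ⟨u, huK⟩ * f ⟨u, huK⟩ = 1 := by
          rw [← map_mul, ← map_one f]; exact congrArg f (Subtype.ext hu)
        have hfu1 : f ⟨u, huK⟩ ≠ 1 := fun h' =>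
          hu1 (congrArg Subtype.val (f.injective (h'.trans (map_one f).symm)))
        have h2K : (2 : K') ≠ 0 := fun h' => h2 (congrArg Subtype.val h')
        have hle : Nat.card D ≤
            Nat.card (Subgroup.centralizer ({f ⟨u, huK⟩} : Set (Matrix.ProjectiveSpecialLinearGroup (Fin 2) K'))) :=
          Nat.card_le_card_of_injective
            (fun x => ⟨ψ x, Subgroup.mem_centralizer_singleton_iff.2 (by
              show f _ * f _ = f _ * f _
              rw [← map_mul, ← map_mul]
              exact congrArg f (Subtype.ext (Subgroup.mem_centralizer_singleton_iff.1 x.2)))⟩)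
            fun a b hab => hψ (congrArg Subtype.val hab)
        rw [Nat.card_eq_fintype_card] at hsq hk'
        have h3 : 3 ≤ Fintype.card K' := by
          have := Fintype.one_lt_card (α := K')
          omega
        have hmul : Fintype.card K' * 3 ≤ Fintype.card K' ^ 2 := by
          rw [pow_two]; exact Nat.mul_le_mul le_rfl h3
        rcases invol_centralizer h2K hfu2 hfu1 with h' | h' <;> rw [h'] at hle <;> omega

end Cfsg.Agent.Bender.PSLInverted
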