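import Cfsg.Agent.Lib.Bender.Successor

/-!
# Bender transitivity: no inside triangles at primes dividing `mbar`
-/

set_option autoImplicit false
set_option linter.style.haveILetI false
set_option linter.unusedSectionVars false

open scoped Pointwise commutatorElement

namespace Cfsg.Agent.SEB

open Cfsg
open Cfsg.Agent.Fusion (SylIn cj)
open Cfsg.Agent.Fusion.SEPairs

universe u

variable {G : Type u} [Group G] [Finite G] {H : Subgroup G} {p : ℕ} [hp : Fact p.Prime]

theorem normalCore_odd (hse : Cfsg.IsStronglyEmbedded H) : Odd (Nat.card H.normalCore) :=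
  odd_of_no_invol fun t ht ht2 => by
    obtain ⟨y, hy⟩ := exists_ne hse (QuotientGroup.mk 1 : G ⧸ H)
    refine hy (fixed_unique hse ht2 ?_ (smul_mk_eq_iff.2 (by simpa using H.normalCore_le ht)))
    obtain ⟨g, rfl⟩ := QuotientGroup.mk_surjective y
    refine smul_mk_eq_iff.2 ?_
    have := ht g⁻¹
    rwa [inv_inv] at this

/-- Induction statement: no inside triangle at `p`. -/
def NoTri (p : ℕ) (G : Type u) [Group G] : Prop :=
  ∀ {H : Subgroup G}, Cfsg.IsStronglyEmbedded H → ∀ t : Tri H p, ¬ p ∣ mbar ↥(St t.c)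

/-- Passing to the quotient by the core. -/
theorem false_of_core (hse : Cfsg.IsStronglyEmbedded H) (t : Tri H p) (hpm : p ∣ mbar ↥(St t.c))
    (hIH : NoTri p (G ⧸ H.normalCore)) : False := by
  set N := H.normalCore
  set π := QuotientGroup.mk' N with hπ
  set H' := H.map π with hH'
  have hNodd : Odd (Nat.card N) := normalCore_odd hse
  have hker : π.ker = N := QuotientGroup.ker_mk' N
  have hcomap : H'.comap π = H := by
    rw [hH', Subgroup.comap_map_eq, hker, sup_eq_left.2 H.normalCore_le]
  have hse' : Cfsg.IsStronglyEmbedded H' := by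
    refine ⟨fun h => hse.1 ?_, ?_, fun g hg => odd_of_no_invol fun x hx hx2 => ?_⟩
    · rw [← hcomap, h, Subgroup.comap_top]
    · refine (Nat.even_or_odd _).resolve_right fun ho => ?_
      have h1 := Subgroup.card_mul_index (π.ker.subgroupOf H)
      have h2 : (π.ker.subgroupOf H).index = Nat.card H' := by
        rw [hH', ← Subgroup.relIndex, Subgroup.relIndex_ker]
      rw [h2] at h1
      refine Nat.not_odd_iff_even.2 hse.2.1 ?_
      rw [← h1]
      refine Nat.odd_mul.2 ⟨Odd.of_dvd_nat (n := Nat.card π.ker) ?_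
        (Subgroup.card_comap_dvd_of_injective _ _ H.subtype_injective), ho⟩
      rw [hker]; exact hNodd
    · obtain ⟨g, rfl⟩ := QuotientGroup.mk'_surjective N g
      obtain ⟨x, rfl⟩ := QuotientGroup.mk'_surjective N x
      obtain ⟨hx1, y, hy, hyx⟩ := hx
      obtain ⟨y, rfl⟩ := QuotientGroup.mk'_surjective N y
      obtain ⟨k, hk⟩ := hNodd
      set x' := x ^ (2 * k + 1) with hx'
      have hxx : π x * π x = 1 := sq_one hx2
      have hπx' : π x' = π x := by rw [hx', map_pow, pow_succ, pow_mul, pow_two, hxx, one_pow, one_mul]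
      have hx'2 : orderOf x' = 2 := by
        refine orderOf_eq_prime ?_ fun e => ?_
        · have h1 : x * x ∈ N := by rw [← hker, MonoidHom.mem_ker, map_mul, hxx]
          rw [hx', ← pow_mul, mul_comm, pow_mul, pow_two, ← hk]
          exact orderOf_dvd_iff_pow_eq_one.1 (Subgroup.orderOf_dvd_natCard N h1)
        · rw [e, map_one] at hπx'
          exact ne_one_of_invol hx2 hπx'.symm
      refine even_of_invol_mem hx'2 (K := H ⊓ H.map (MulAut.conj g).toMonoidHom) ⟨?_, g⁻¹ * x' * g, ?_, show g * (g⁻¹ * x' * g) * g⁻¹ = x' by group⟩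
        (hse.2.2 g fun h => hg ⟨g, h, rfl⟩)
      · show x' ∈ H
        rw [← hcomap, Subgroup.mem_comap, hπx']; exact hx1
      · show g⁻¹ * x' * g ∈ H
        rw [← hcomap, Subgroup.mem_comap, map_mul, map_mul, map_inv, hπx', ← hyx]
        have : (π g)⁻¹ * (π g * π y * (π g)⁻¹) * π g = π y := by group
        show (π g)⁻¹ * (π g * π y * (π g)⁻¹) * π g ∈ H'
        rw [this]; exact hy
  let f : G ⧸ H → (G ⧸ N) ⧸ H' := Quotient.lift (fun g => (QuotientGroup.mk (π g) : (G ⧸ N) ⧸ H'))
    fun a b h => QuotientGroup.eq.2 (by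
      rw [← map_inv, ← map_mul]; exact ⟨_, QuotientGroup.leftRel_apply.1 h, rfl⟩)
  have hf : ∀ g x, f (g • x) = π g • f x := fun g x => by
    induction x using QuotientGroup.induction_on with
    | _ x => rfl
  have hfi : Function.Injective f := fun x y => by
    induction x using QuotientGroup.induction_on with
    | _ x =>
      induction y using QuotientGroup.induction_on with
      | _ y =>
        intro h
        have h' : (π x)⁻¹ * π y ∈ H' := QuotientGroup.eq.1 h
        rw [← map_inv, ← map_mul, ← Subgroup.mem_comap, hcomap] at h'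
        exact QuotientGroup.eq.2 h'
  have hSt : ∀ x, St (f x) = (St x).map π := fun x => by
    ext q
    constructor
    · intro hq
      obtain ⟨g, rfl⟩ := QuotientGroup.mk'_surjective N q
      exact ⟨g, hfi ((hf g x).trans hq), rfl⟩
    · rintro ⟨g, hg, rfl⟩
      show π g • f x = f x
      rw [← hf, show g • x = x from hg]
  have hNle : ∀ x : G ⧸ H, π.ker ≤ St x := fun x => by
    rw [hker]
    induction x using QuotientGroup.induction_on with
    | _ g =>
      intro n hn
      refine smul_mk_eq_iff.2 ?_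
      have := hn g⁻¹
      rwa [inv_inv] at this
  have hSt2 : ∀ x y, St2 (f x) (f y) = (St2 x y).map π := fun x y => by
    refine Subgroup.comap_injective (QuotientGroup.mk'_surjective N) ?_
    show (St (f x) ⊓ St (f y)).comap π = ((St2 x y).map π).comap π
    rw [Subgroup.comap_inf, hSt, hSt, Subgroup.comap_map_eq, Subgroup.comap_map_eq, Subgroup.comap_map_eq,
      sup_eq_left.2 (hNle x), sup_eq_left.2 (hNle y), sup_eq_left.2 (le_inf (hNle x) (hNle y))]
  have hu' : orderOf (π t.u) = 2 := by
    refine orderOf_eq_prime (by rw [← map_pow, ← t.hu, pow_orderOf_eq_one, map_one]) fun e => ?_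
    refine even_of_invol_mem t.hu (?_ : t.u ∈ N) hNodd
    rw [← hker]; exact e
  refine hIH hse' { u := π t.u, c := f t.c, a := f t.a, P := t.P.map π, hu := hu'
                    huc := by rw [← hf, t.huc]
                    hca := fun e => t.hca (hfi e)
                    hP := ?_
                    huP := Subgroup.le_normalizer_map π ⟨t.u, t.huP, rfl⟩
                    hPc := by rw [hSt]; exact Subgroup.map_mono t.hPc } ?_
  · rw [← hf, hSt2]
    refine ⟨Subgroup.map_mono t.hP.le, t.hP.isPGroup.map π, fun h => t.hP.not_dvd (h.trans ?_)⟩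
    rw [Subgroup.relIndex_map_map, sup_eq_left.2 (le_inf (hNle t.a) (hNle (t.u • t.a)) : π.ker ≤ St2 _ _)]
    exact Subgroup.relIndex_dvd_of_le_left _ le_sup_left
  · show p ∣ mbar ↥(St (f t.c))
    rw [← mbar_congr (MulEquiv.subgroupCongr (hSt t.c).symm)]
    rwa [← mbar_of_surjective (π.subgroupMap (St t.c)) (π.subgroupMap_surjective _)]
    refine Odd.of_dvd_nat hNodd ?_
    rw [← Subgroup.card_map_of_injective (K := (π.subgroupMap (St t.c)).ker) (St t.c).subtype_injective]
    refine Subgroup.card_dvd_of_le ?_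
    rintro _ ⟨x, hx, rfl⟩
    rw [← hker]
    exact congrArg Subtype.val hx

/-- The faithful step: descend to the normaliser of the common core. -/
theorem false_of_faithful (hse : Cfsg.IsStronglyEmbedded H) (hN : H.normalCore = ⊥) (t₁ : Tri H p)
    (hpm : p ∣ mbar ↥(St t₁.c)) (hIH : ∀ M : Subgroup G, M ≠ ⊤ → NoTri p ↥M) : False := by
  have hpn : p ∣ numInv (St t₁.c) := hpm.trans (mbar_St_dvd hse t₁.c)
  obtain ⟨t, ht⟩ := exists_equal hse t₁ hpn
  obtain ⟨g₁, hg₁⟩ := exists_smul_eq' t₁.c t.c
  have hpm' : p ∣ mbar ↥(St t.c) := by rw [← hg₁, mbar_St_smul hse]; exact hpm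
  have hpn' : p ∣ numInv (St t.c) := numInv_St hse t₁.c t.c ▸ hpn
  have hp2 : p ≠ 2 := fun e => by
    subst e
    exact Nat.not_even_iff_odd.2 (numInv_odd hse t.c) (even_iff_two_dvd.2 hpn')
  obtain ⟨Z, hZ0, hZa, hDZ, hsZ, huZ, w, hw, hwc, hwZ⟩ :
      ∃ Z : Subgroup G, Z ≠ ⊥ ∧ Z ≤ St t.a ∧ St2 t.a (t.u • t.a) ≤ Subgroup.normalizer (Z : Set G) ∧
        St2 t.c t.a ≤ Subgroup.normalizer (Z : Set G) ∧ t.u ∈ Subgroup.normalizer (Z : Set G) ∧
          ∃ w : G, orderOf w = 2 ∧ w • t.c = t.a ∧ w ∈ Subgroup.normalizer (Z : Set G) := by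
    by_cases hK : t.K = ⊥
    · obtain ⟨h1, h2, h3⟩ := OddLocal.Fact2.zjOf_facts t.hP.isPGroup
      obtain ⟨w, hw, hwc, hwP⟩ := exists_swapper_normalizing hse t.hca.symm (t.sylIn_side hse)
      refine ⟨OddLocal.Fact2.zjOf p t.P, h2 fun e => t.Y_ne_bot hse hpn' (eq_bot_iff.2 (e ▸ t.Y_le)),
        h1.trans t.P_le_a, le_normalizer_zj (odd_solvable (t.odd_D hse)) (t.odd_D hse) hp2 t.hP hK,
        le_normalizer_zj (odd_solvable (t.odd_side hse)) (t.odd_side hse) hp2 (t.sylIn_side hse)
          (show t.Ks = ⊥ by rw [← ht, hK]), h3 t.huP, w, hw, hwc, h3 hwP⟩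
    · obtain ⟨w, hw, hwc⟩ := exists_swapper hse t.hca.symm
      refine ⟨t.K, hK, (pcoreIn_le _).trans inf_le_left, le_normalizer_pcoreIn _,
        ht ▸ le_normalizer_pcoreIn _, normalizer_le_pcoreIn _ (normalizes_pair rfl (smul_smul_self t.hu _)),
        w, hw, hwc, ?_⟩
      rw [ht]
      exact normalizer_le_pcoreIn _ (normalizes_pair hwc (by rw [← hwc, smul_smul_self hw]))
  set M := Subgroup.normalizer (Z : Set G) with hMdef
  have hM : M ≠ ⊤ := by
    intro h
    refine hZ0 ?_
    haveI : Z.Normal := Subgroup.normalizer_eq_top_iff.1 h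
    rw [eq_bot_iff, ← hN]
    refine Subgroup.normal_le_normalCore.2 fun z hz => ?_
    obtain ⟨g, hg⟩ := QuotientGroup.mk_surjective t.a
    have h1 := hZa ((inferInstance : Z.Normal).conj_mem z hz g)
    rw [MulAction.mem_stabilizer_iff, ← hg, smul_mk_eq_iff] at h1
    rwa [show g⁻¹ * (g * z * g⁻¹) * g = z by group] at h1
  have hmove : ∃ g ∈ M, g • t.c ≠ t.c := ⟨w, hwZ, by rw [hwc]; exact t.hca⟩
  have hseM := se_sub hse t.hu t.huc huZ hmove
  set HM := (St t.c).subgroupOf M with hHM
  let f : ↥M ⧸ HM → G ⧸ H := Quotient.lift (fun m : ↥M => (m : G) • t.c) fun a b h => by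
    have h' : ((a : G)⁻¹ * b) • t.c = t.c := QuotientGroup.leftRel_apply.1 h
    rw [mul_smul, inv_smul_eq_iff] at h'
    exact h'.symm
  have hf : ∀ (m : ↥M) x, f (m • x) = (m : G) • f x := fun m x => by
    induction x using QuotientGroup.induction_on with
    | _ x => exact mul_smul (m : G) x t.c
  have hfi : Function.Injective f := fun x y => by
    induction x using QuotientGroup.induction_on with
    | _ x =>
      induction y using QuotientGroup.induction_on with
      | _ y =>
        intro h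
        refine QuotientGroup.eq.2 ?_
        show ((x : G)⁻¹ * y) • t.c = t.c
        rw [mul_smul, inv_smul_eq_iff]
        exact h.symm
  have hSt : ∀ x, St x = (St (f x)).subgroupOf M := fun x => by
    ext m
    exact ⟨fun hm => (hf m x).symm.trans (congrArg f hm), fun hm => hfi ((hf m x).trans hm)⟩
  set c' : ↥M ⧸ HM := QuotientGroup.mk 1 with hc'
  set a' : ↥M ⧸ HM := QuotientGroup.mk ⟨w, hwZ⟩ with ha'
  have hfc : f c' = t.c := one_smul G t.c
  have hfa : f a' = t.a := hwc
  have hfb : f ((⟨t.u, huZ⟩ : ↥M) • a') = t.u • t.a := by rw [hf, hfa]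
  refine hIH M hM hseM { u := ⟨t.u, huZ⟩, c := c', a := a', P := t.P.subgroupOf M
                         hu := by rw [← Subgroup.orderOf_coe]; exact t.hu
                         huc := hfi (by rw [hf, hfc, t.huc])
                         hca := fun e => t.hca (by rw [← hfa, ← hfc, e])
                         hP := ?_
                         huP := ?_
                         hPc := fun m hm => by rw [hSt, hfc]; exact t.hPc hm } ?_
  · have e : St2 a' ((⟨t.u, huZ⟩ : ↥M) • a') = (St2 t.a (t.u • t.a)).subgroupOf M := by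
      show St a' ⊓ St _ = _
      rw [hSt a', hSt (_ • a'), hfa, hfb]
      rfl
    rw [e]
    exact ⟨Subgroup.comap_mono t.hP.le, t.hP.isPGroup.comap_subtype,
      by rw [Subgroup.relIndex_subgroupOf hDZ]; exact t.hP.not_dvd⟩
  · rw [Subgroup.mem_normalizer_iff]
    intro y
    exact Subgroup.mem_normalizer_iff.1 t.huP y
  · show p ∣ mbar ↥(St c')
    have hall : ∀ s : ↥(St t.c), orderOf s = 2 → s ∈ M.subgroupOf (St t.c) := fun s hs => by
      obtain ⟨d, hd1, hd2, hd⟩ := pair_transitive hse t.hca t.hu t.huc (by rwa [Subgroup.orderOf_coe]) s.2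
      rw [Subgroup.mem_subgroupOf, ← hd]
      exact mul_mem (mul_mem (hsZ ⟨hd1, hd2⟩) huZ) (inv_mem (hsZ ⟨hd1, hd2⟩))
    let e : ↥(M.subgroupOf (St t.c)) ≃* ↥(St c') :=
      { toFun := fun m => ⟨⟨(m : ↥(St t.c)), m.2⟩, by rw [hSt, hfc]; exact (m : ↥(St t.c)).2⟩
        invFun := fun m => ⟨⟨(m : ↥M), by
          have h := (hf m.1 c').symm.trans (congrArg f m.2)
          rwa [hfc] at h⟩, (m : ↥M).2⟩
        left_inv := fun _ => rfl
        right_inv := fun _ => rfl
        map_mul' := fun _ _ => rfl }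
    rw [← mbar_congr e, mbar_subgroup _ hall]
    exact hpm'

/-- No inside triangle at a prime dividing `mbar`. -/
theorem no_tri : ∀ (G : Type u) [Group G] [Finite G], NoTri p G := by
  intro G
  induction hn : Nat.card G using Nat.strong_induction_on generalizing G with
  | _ n ih =>
    subst hn
    intro _ _ H hse t hpm
    by_cases hN : H.normalCore = ⊥
    · exact false_of_faithful hse hN t hpm fun M hM => ih (Nat.card M) (lt_of_le_of_ne
        (Nat.le_of_dvd Nat.card_pos M.card_subgroup_dvd_card)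
        fun e => hM (Subgroup.eq_top_of_card_eq M e)) ↥M rfl
    · refine false_of_core hse t hpm (ih (Nat.card (G ⧸ H.normalCore)) ?_ (G ⧸ H.normalCore) rfl)
      rw [Subgroup.card_eq_card_quotient_mul_card_subgroup H.normalCore]
      exact lt_mul_of_one_lt_right Nat.card_pos ((Subgroup.one_lt_card_iff_ne_bot _).2 hN)

/-- A Sylow subgroup of a pair stabiliser normalised by a swapper does not fix its centre. -/
theorem no_inside (hse : Cfsg.IsStronglyEmbedded H) {u : G} (hu : orderOf u = 2) {c a : G ⧸ H}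
    (huc : u • c = c) (hca : a ≠ c) (hpm : p ∣ mbar ↥(St c)) {P : Subgroup G}
    (hP : SylIn p P (St2 a (u • a))) (huP : u ∈ Subgroup.normalizer (P : Set G)) : ¬ P ≤ St c :=
  fun hPc => no_tri G hse ⟨u, c, a, P, hu, huc, hca, hP, huP, hPc⟩ hpm

end Cfsg.Agent.SEB
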