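import Cfsg.Agent.Lib.Fusion.StronglyEmbeddedPairs
import Cfsg.Agent.Lib.Fusion.IsolatedInvolution
import Cfsg.Agent.Lib.Char.ZStar
import Cfsg.Agent.Lib.Solv.UniqueSub

/-!
# A strongly embedded subgroup whose involutions are congruent modulo its odd core

Then commuting involutions are equal, the Sylow `2`-subgroups are cyclic or quaternion and
`G = O(G)H`.
-/

set_option autoImplicit false
set_option linter.style.haveILetI false

namespace Cfsg.Agent.Bender

open Cfsg Cfsg.Agent
open Cfsg.Agent.Fusion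

variable {G : Type*} [Group G] [Finite G] {H : Subgroup G}

/-- All involutions of `H` are congruent modulo `O(H)`. -/
def OneClass (H : Subgroup G) : Prop :=
  ∀ s t : H, orderOf s = 2 → orderOf t = 2 → s * t ∈ oddCore H

variable (hse : Cfsg.IsStronglyEmbedded H) (hone : OneClass H)
include hse hone

/-- Commuting involutions are equal. -/
theorem commute_eq {s t : G} (hs : orderOf s = 2) (ht : orderOf t = 2) (hst : Commute s t) : s = t := by
  obtain ⟨x, hx⟩ := SEPairs.exists_fixed hse hs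
  have htx : t • x = x := SEPairs.fixed_unique hse hs
    (by rw [smul_smul, hst.eq, ← smul_smul, hx]) hx
  obtain ⟨g, rfl⟩ := QuotientGroup.mk_surjective x
  rw [SEPairs.smul_mk_eq_iff] at hx htx
  have hord : ∀ u : G, ∀ hu : g⁻¹ * u * g ∈ H, orderOf u = 2 → orderOf (⟨g⁻¹ * u * g, hu⟩ : H) = 2 := by
    intro u hu huo
    rw [Subgroup.orderOf_mk]
    simpa using SEPairs.conj_involution huo g⁻¹
  have hmem := hone ⟨_, hx⟩ ⟨_, htx⟩ (hord s hx hs) (hord t htx ht)
  have hdvd := Subgroup.orderOf_dvd_natCard (oddCore H) hmem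
  rw [← Subgroup.orderOf_coe] at hdvd
  have e : orderOf (g⁻¹ * s * g * (g⁻¹ * t * g)) = orderOf (s * t) := by
    rw [show g⁻¹ * s * g * (g⁻¹ * t * g) = (MulAut.conj g⁻¹).toMonoidHom (s * t) by simp; group,
      orderOf_injective _ (MulAut.conj g⁻¹).injective]
  have hodd : Odd (orderOf (s * t)) := by
    refine Odd.of_dvd_nat (Cfsg.Agent.Char.card_oddCore_odd H) ?_
    rw [← e]
    exact hdvd
  have h2 : orderOf (s * t) ∣ 2 := orderOf_dvd_of_pow_eq_one (by
    rw [hst.mul_pow, pow_two, pow_two, SEPairs.sq_one hs, SEPairs.sq_one ht, one_mul])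
  rcases (Nat.dvd_prime Nat.prime_two).1 h2 with h | h
  · rw [orderOf_eq_one_iff] at h
    exact (eq_inv_of_mul_eq_one_left h).trans (SEPairs.inv_self ht)
  · rw [h] at hodd
    exact absurd hodd (by decide)

/-- Every Sylow `2`-subgroup is cyclic or generalized quaternion. -/
theorem sylow_cyclic_or_quaternion (S : Sylow 2 G) :
    IsCyclic S ∨ ∃ m : ℕ, 1 ≤ m ∧ Nonempty ((S : Subgroup G) ≃* QuaternionGroup (2 ^ m)) := by
  haveI : Fact (Nat.Prime 2) := ⟨Nat.prime_two⟩
  have hu : Solv.UniqueOrderP 2 (S : Subgroup G) := by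
    intro x y hx hy hy1
    by_cases hx1 : x = 1
    · rw [hx1]; exact Subgroup.one_mem _
    suffices hxy : (x : G) = y by rw [Subtype.ext hxy]; exact Subgroup.mem_zpowers _
    have hxo : orderOf (x : G) = 2 := by
      rw [Subgroup.orderOf_coe]; exact orderOf_eq_prime hx hx1
    have hyo : orderOf (y : G) = 2 := by
      rw [Subgroup.orderOf_coe]; exact orderOf_eq_prime hy hy1
    rcases SEPairs.odd_or_common hxo hyo with hodd | ⟨w, hw, hwx, hwy⟩
    · obtain ⟨k, hk⟩ := IsPGroup.iff_orderOf.1 S.isPGroup' (x * y)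
      rw [show (x : G) * (y : G) = ((x * y : (S : Subgroup G)) : G) from rfl, Subgroup.orderOf_coe, hk] at hodd
      have hk0 : k = 0 := by
        by_contra h
        exact Nat.not_even_iff_odd.2 hodd ((Nat.even_pow' h).2 even_two)
      rw [hk0, pow_zero, orderOf_eq_one_iff] at hk
      have h1 : (x : G) * (y : G) = 1 := congrArg Subtype.val hk
      exact (eq_inv_of_mul_eq_one_left h1).trans (SEPairs.inv_self hyo)
    · exact (commute_eq hse hone hw hxo hwx).symm.trans (commute_eq hse hone hw hyo hwy)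
  rcases Solv.cyclic_or_quaternion S.isPGroup' hu with hc | ⟨-, n, ⟨e⟩⟩
  · exact Or.inl hc
  · rcases Nat.eq_zero_or_pos n with rfl | hn
    · haveI : IsCyclic (QuaternionGroup (2 ^ 0)) := QuaternionGroup.quaternionGroup_one_isCyclic
      exact Or.inl (e.isCyclic.2 inferInstance)
    · exact Or.inr ⟨n, hn, ⟨e⟩⟩

/-- `G = O(G)H`. -/
theorem core_sup_eq_top : oddCore G ⊔ H = ⊤ := by
  obtain ⟨t, x, ht, htx⟩ := SEPairs.exists_fixed_involution hse
  obtain ⟨k, hk⟩ := MulAction.exists_smul_eq G x (QuotientGroup.mk 1 : G ⧸ H)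
  set z := k * t * k⁻¹
  have hz : orderOf z = 2 := SEPairs.conj_involution ht k
  have hiso : Cfsg.IsIsolatedInvolution z :=
    ⟨hz, fun g hg => (commute_eq hse hone hz (SEPairs.conj_involution hz g) hg).symm⟩
  have hzx : z • (QuotientGroup.mk 1 : G ⧸ H) = QuotientGroup.mk 1 := by
    rw [← hk]
    simp only [z, mul_smul, inv_smul_smul, htx]
  refine top_le_iff.1 fun g _ => ?_
  obtain ⟨s, hs, hconj⟩ := isolated_exists_zpowers hiso g
  have hsO : s ∈ oddCore G := by
    refine (Subgroup.zpowers_le.2 ?_) hs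
    rw [show z * (g * z * g⁻¹) = z * g * z⁻¹ * g⁻¹ by rw [SEPairs.inv_self hz]; group]
    exact Char.zStar_isolated hiso g
  have hc : s * g ∈ H := by
    have hcomm : Commute z (s * g) := by
      show z * (s * g) = s * g * z
      nth_rewrite 1 [← hconj]
      group
    have h1 : (s * g) • (QuotientGroup.mk 1 : G ⧸ H) = QuotientGroup.mk 1 :=
      SEPairs.fixed_unique hse hz (by rw [smul_smul, hcomm.eq, ← smul_smul, hzx]) hzx
    simpa using SEPairs.smul_mk_eq_iff.1 h1
  rw [show g = s⁻¹ * (s * g) by group]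
  exact mul_mem (Subgroup.mem_sup_left (inv_mem hsO)) (Subgroup.mem_sup_right hc)

end Cfsg.Agent.Bender
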