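import Cfsg.Agent.Lib.Bender.PairCore
import Cfsg.Agent.Lib.Lead.PGV.TwoConf

/-!
# A strongly embedded subgroup is transitive on the other cosets

Given a prime `p` dividing the number of involutions of `H` such that no swapper of a pair has its
centre fixed by an invariant Sylow `p`-subgroup of the pair stabiliser, `H` is transitive on the
cosets different from its own.  The main step is that there is no `p`-group `Z` with at least three
fixed cosets which is normalised by an involution with centre outside and `m_p` inverted elements.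
-/

set_option autoImplicit false
set_option linter.style.haveILetI false

open scoped Pointwise

namespace Cfsg.Agent.Bender

open Cfsg Cfsg.Agent
open Cfsg.Agent.Fusion
open Cfsg.Agent.Solv (IsSylIn)

universe u

variable {G : Type u} [Group G] [Finite G] {H : Subgroup G}

/-- A `p`-group with three fixed cosets normalised by an involution with centre outside. -/
structure OutFix (H : Subgroup G) (p : ℕ) (Z : Subgroup G) (w : G) : Prop where
  pgroup : IsPGroup p Z
  invol : orderOf w = 2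
  norm : w ∈ Subgroup.normalizer (Z : Set G)
  centre : ∀ c : G ⧸ H, w • c = c → c ∉ fixSet H Z
  three : 3 ≤ (fixSet H Z).ncard

/-- A `p`-group with three fixed cosets and an involution with centre outside inverting `m_p` elements. -/
structure InFam (H : Subgroup G) (p : ℕ) (Z : Subgroup G) (w : G) : Prop extends OutFix H p Z w where
  inverted : (invSet w Z).ncard = p ^ (numInv H).factorization p

variable (hse : Cfsg.IsStronglyEmbedded H) {p : ℕ} [Fact p.Prime] (hpm : p ∣ numInv H)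
include hse hpm

theorem p_ne_two : p ≠ 2 := by
  rintro rfl
  obtain ⟨t, x, ht, htx⟩ := SEPairs.exists_fixed_involution hse
  obtain ⟨y, hy⟩ := SEPairs.exists_ne hse x
  obtain ⟨w, hw, hwy⟩ := exists_swapper hse hy
  have h := Subgroup.relIndex_dvd_card (pairStab y x ⊓ Subgroup.centralizer {w}) (pairStab y x)
  rw [relIndex_centralizer hse hy hw hwy] at h
  exact Nat.not_even_iff_odd.2 (pairStab_odd hse hy) (even_iff_two_dvd.2 (hpm.trans h))

namespace InFam

variable {Z : Subgroup G} {w : G} (hF : OutFix H p Z w)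
include hF

theorem odd : Odd (Nat.card Z) := by
  obtain ⟨k, hk⟩ := IsPGroup.iff_card.1 hF.pgroup
  rw [hk]
  exact ((Fact.out : p.Prime).odd_of_ne_two (p_ne_two hse hpm)).pow

/-- The normaliser has no four group containing `w`. -/
theorem eq_of_commute {v : G} (hv : v ∈ Subgroup.normalizer (Z : Set G)) (hv2 : orderOf v = 2)
    (hvw : Commute v w) : v = w := by
  by_contra hne
  obtain ⟨c, hwc⟩ := SEPairs.exists_fixed hse hF.invol
  have hvc : v • c = c :=
    SEPairs.fixed_unique hse hF.invol (by rw [smul_smul, ← hvw.eq, ← smul_smul, hwc]) hwc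
  have hwv : orderOf (w * v) = 2 := by
    refine orderOf_eq_prime ?_ fun e => hne ?_
    · rw [hvw.symm.mul_pow, pow_two, pow_two, SEPairs.sq_one hF.invol, SEPairs.sq_one hv2, one_mul]
    · exact (eq_inv_of_mul_eq_one_right e).trans (SEPairs.inv_self hF.invol)
  have hwvc : (w * v) • c = c := by rw [mul_smul, hvc, hwc]
  let ψ := Subgroup.normalizerMonoidHom Z
  let β : MulAut Z := ψ ⟨w, hF.norm⟩
  let δ : MulAut Z := ψ ⟨v, hv⟩
  have hβ : β * β = 1 := by
    rw [show β * β = ψ (⟨w, hF.norm⟩ * ⟨w, hF.norm⟩) from (map_mul ψ _ _).symm,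
      show (⟨w, hF.norm⟩ : Subgroup.normalizer (Z : Set G)) * ⟨w, hF.norm⟩ = 1 from
        Subtype.ext (SEPairs.sq_one hF.invol), map_one]
  have hδ : δ * δ = 1 := by
    rw [show δ * δ = ψ (⟨v, hv⟩ * ⟨v, hv⟩) from (map_mul ψ _ _).symm,
      show (⟨v, hv⟩ : Subgroup.normalizer (Z : Set G)) * ⟨v, hv⟩ = 1 from
        Subtype.ext (SEPairs.sq_one hv2), map_one]
  have hβδ : Commute β δ :=
    (show Commute (⟨w, hF.norm⟩ : Subgroup.normalizer (Z : Set G)) ⟨v, hv⟩ from
      Subtype.ext hvw.symm.eq).map ψ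
  have hfix : ∀ (e : G) (x : Z), orderOf e = 2 → e • c = c → e * (x : G) * e⁻¹ = (x : G) →
      x ∈ (MulAction.stabilizer G c).subgroupOf Z := by
    intro e x he hec hex
    refine Subgroup.mem_subgroupOf.2 (MulAction.mem_stabilizer_iff.2 ?_)
    exact SEPairs.fixed_unique hse he
      (by rw [smul_smul, mul_inv_eq_iff_eq_mul.1 hex, ← smul_smul, hec]) hec
  refine hF.centre c hwc fun z hz => ?_
  have := PGV.four_generation (odd hse hpm hF) β δ hβ hδ hβδ ((MulAction.stabilizer G c).subgroupOf Z)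
    (fun x h => hfix w x hF.invol hwc (congrArg Subtype.val h))
    (fun x h => hfix v x hv2 hvc (congrArg Subtype.val h))
    (fun x h => hfix (w * v) x hwv hwvc (by
      calc w * v * (x : G) * (w * v)⁻¹ = w * (v * x * v⁻¹) * w⁻¹ := by group
        _ = x := congrArg Subtype.val h)) ⟨z, hz⟩
  exact Subgroup.mem_subgroupOf.1 this

/-- Every involution of the normaliser is conjugate to `w` there. -/
theorem exists_conj {v : G} (hv : v ∈ Subgroup.normalizer (Z : Set G)) (hv2 : orderOf v = 2) :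
    ∃ g ∈ Subgroup.normalizer (Z : Set G), g * v * g⁻¹ = w := by
  have h1 : orderOf (⟨v, hv⟩ : Subgroup.normalizer (Z : Set G)) = 2 := by rw [Subgroup.orderOf_mk, hv2]
  have h2 : orderOf (⟨w, hF.norm⟩ : Subgroup.normalizer (Z : Set G)) = 2 := by
    rw [Subgroup.orderOf_mk, hF.invol]
  rcases SEPairs.odd_or_common h1 h2 with hodd | ⟨x, hx, hxv, hxw⟩
  · obtain ⟨i, -, hi, -⟩ := SEPairs.exists_middle h1 h2 hodd
    exact ⟨i, i.2, congrArg Subtype.val hi⟩
  · rw [← Subgroup.orderOf_coe] at hx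
    have hxw' : (x : G) = w := eq_of_commute hse hpm hF x.2 hx (congrArg Subtype.val hxw.eq)
    have hvw : v = w := eq_of_commute hse hpm hF hv hv2 (by
      rw [← hxw']
      exact (congrArg Subtype.val hxv.eq).symm)
    exact ⟨1, one_mem _, by rw [one_mul, inv_one, mul_one, hvw]⟩

theorem isolated : Cfsg.IsIsolatedInvolution (⟨w, hF.norm⟩ : Subgroup.normalizer (Z : Set G)) := by
  refine ⟨by rw [Subgroup.orderOf_mk, hF.invol], fun g hg => Subtype.ext ?_⟩
  exact eq_of_commute hse hpm hF (g * _ * g⁻¹).2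
    (by
      show orderOf ((g : G) * w * (g : G)⁻¹) = 2
      exact SEPairs.conj_involution hF.invol _)
    (congrArg Subtype.val hg.eq).symm

/-- An involution of the normaliser fixes none of the fixed cosets. -/
theorem centre_out {v : G} (hv : v ∈ Subgroup.normalizer (Z : Set G)) (hv2 : orderOf v = 2)
    {x : G ⧸ H} (hx : x ∈ fixSet H Z) : v • x ≠ x := fun h => by
  obtain ⟨g, hg, hgv⟩ := exists_conj hse hpm hF hv hv2
  refine hF.centre (g • x) ?_ (smul_mem_fixSet hg hx)
  rw [← hgv, mul_smul, mul_smul, inv_smul_smul, h]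

theorem orbit_moved {a : G ⧸ H} (ha : a ∈ fixSet H Z) {s : Subgroup.normalizer (Z : Set G)}
    (hs : s ∈ oddCore (Subgroup.normalizer (Z : Set G))) : (s : G) • w • a ≠ a := by
  intro hfix
  set z : Subgroup.normalizer (Z : Set G) := ⟨w, hF.norm⟩ with hz
  set g := s * z with hg
  have hzz : z * z = 1 := Subtype.ext (SEPairs.sq_one hF.invol)
  have hsq : g ^ 2 ∈ oddCore (Subgroup.normalizer (Z : Set G)) := by
    rw [show g ^ 2 = s * (z * s * z⁻¹) * (z * z) by rw [hg, pow_two]; group, hzz, mul_one]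
    exact mul_mem hs ((inferInstance : (oddCore (Subgroup.normalizer (Z : Set G))).Normal).conj_mem s hs z)
  rcases Nat.even_or_odd (orderOf g) with ⟨k, hk⟩ | ⟨k, hk⟩
  · have hpos := orderOf_pos g
    have hne : g ^ k ≠ 1 := fun e => by
      have := Nat.le_of_dvd (by omega) (orderOf_dvd_of_pow_eq_one e)
      omega
    have hord : orderOf (g ^ k) = 2 :=
      orderOf_eq_prime (by rw [pow_two, ← pow_add, ← hk, pow_orderOf_eq_one]) hne
    rw [← Subgroup.orderOf_coe] at hord
    refine centre_out hse hpm hF (g ^ k).2 hord ha ?_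
    have hga : (g : G) ∈ MulAction.stabilizer G a := by
      show ((s : G) * w) • a = a
      rw [mul_smul, hfix]
    exact MulAction.mem_stabilizer_iff.1 (by push_cast; exact pow_mem hga k)
  · have hgO : g ∈ oddCore (Subgroup.normalizer (Z : Set G)) := by
      have : g = (g ^ 2) ^ (k + 1) := by
        rw [← pow_mul, show 2 * (k + 1) = (2 * k + 1) + 1 by omega, pow_succ, ← hk, pow_orderOf_eq_one,
          one_mul]
      rw [this]
      exact pow_mem hsq _
    have hzO : z ∈ oddCore (Subgroup.normalizer (Z : Set G)) := by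
      have := mul_mem (inv_mem hs) hgO
      rwa [hg, inv_mul_cancel_left] at this
    have := Subgroup.orderOf_dvd_natCard _ hzO
    rw [hz, Subgroup.orderOf_mk, hF.invol] at this
    exact Nat.not_even_iff_odd.2 (Char.card_oddCore_odd _) (even_iff_two_dvd.2 this)

/-- A coset swapped with `a` lies in the orbit opposite to that of `a`. -/
theorem opposite {v : G} (hv : v ∈ Subgroup.normalizer (Z : Set G)) (hv2 : orderOf v = 2) {a b : G ⧸ H}
    (hab : v • a = b) :
    ∃ s ∈ oddCore (Subgroup.normalizer (Z : Set G)), b = (s : G) • w • a := by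
  set z : Subgroup.normalizer (Z : Set G) := ⟨w, hF.norm⟩ with hz
  obtain ⟨g, hg, hgv⟩ := exists_conj hse hpm hF hv hv2
  set g' : Subgroup.normalizer (Z : Set G) := ⟨g, hg⟩⁻¹
  have hiso := isolated hse hpm hF
  obtain ⟨s, hs, hsc⟩ := isolated_exists_zpowers hiso g'
  have hsO : s ∈ oddCore (Subgroup.normalizer (Z : Set G)) := by
    refine (Subgroup.zpowers_le.2 ?_) hs
    rw [show z * (g' * z * g'⁻¹) = z * g' * z⁻¹ * g'⁻¹ by
      rw [show z⁻¹ = z from inv_eq_of_mul_eq_one_right (Subtype.ext (SEPairs.sq_one hF.invol))]; group]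
    exact Char.zStar_isolated hiso g'
  refine ⟨s⁻¹ * (z * s * z⁻¹), mul_mem (inv_mem hsO)
    ((inferInstance : (oddCore (Subgroup.normalizer (Z : Set G))).Normal).conj_mem s hsO z), ?_⟩
  have h1 : (s : G) * v * (s : G)⁻¹ = w := by
    have := congrArg Subtype.val hsc
    simp only [g', Subgroup.coe_mul, Subgroup.coe_inv, inv_inv] at this
    rw [← hgv] at this ⊢
    calc (s : G) * v * (s : G)⁻¹ = (s : G) * (g⁻¹ * (g * v * g⁻¹) * g) * (s : G)⁻¹ := by group
      _ = _ := this
  rw [← hab, smul_smul]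
  congr 1
  push_cast
  calc v = (s : G)⁻¹ * ((s : G) * v * (s : G)⁻¹) * s := by group
    _ = _ := by rw [h1, hz]; group

/-- Not every pair of fixed cosets is swapped by the normaliser. -/
theorem false_of_swapped
    (h : ∀ a ∈ fixSet H Z, ∀ b ∈ fixSet H Z, a ≠ b →
      ∃ v ∈ Subgroup.normalizer (Z : Set G), orderOf v = 2 ∧ v • a = b) : False := by
  have h3 : 2 < (fixSet H Z).ncard := hF.three
  obtain ⟨a, b, c, ha, hb, hc, hab, hac, hbc⟩ := (Set.two_lt_ncard_iff (Set.toFinite _)).1 h3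
  have key : ∀ x ∈ fixSet H Z, ∀ y ∈ fixSet H Z, x ≠ y →
      ∃ s ∈ oddCore (Subgroup.normalizer (Z : Set G)), y = (s : G) • w • x := fun x hx y hy hxy => by
    obtain ⟨v, hv, hv2, hvx⟩ := h x hx y hy hxy
    exact opposite hse hpm hF hv hv2 hvx
  obtain ⟨s1, hs1, rfl⟩ := key a ha b hb hab
  obtain ⟨s2, hs2, e2⟩ := key a ha c hc hac
  obtain ⟨s3, hs3, e3⟩ := key _ hb c hc hbc
  set z : Subgroup.normalizer (Z : Set G) := ⟨w, hF.norm⟩ with hz
  refine orbit_moved hse hpm hF ha
    (s := (s3 * (z * s1 * z⁻¹))⁻¹ * s2)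
    (mul_mem (inv_mem (mul_mem hs3
      ((inferInstance : (oddCore (Subgroup.normalizer (Z : Set G))).Normal).conj_mem s1 hs1 z))) hs2) ?_
  push_cast
  rw [mul_smul, ← e2, inv_smul_eq_iff, e3]
  simp only [hz, smul_smul, SEPairs.inv_self hF.invol, mul_assoc]

end InFam

omit [Fact p.Prime] hpm hse in
theorem card_stabilizer (x : G ⧸ H) : Nat.card (MulAction.stabilizer G x) = Nat.card H := by
  have h1 := (MulAction.stabilizer G x).card_mul_index
  rw [MulAction.index_stabilizer_of_transitive G x] at h1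
  have h2 := H.card_mul_index
  rw [Subgroup.index_eq_card] at h2
  exact Nat.eq_of_mul_eq_mul_right Nat.card_pos (h1.trans h2.symm)

omit hpm hse in
/-- A Sylow subgroup of a point stabiliser is one of every pair stabiliser containing it. -/
theorem syl_pair {x a b : G ⧸ H} {Q : Subgroup G} (hQ : IsSylIn p Q (MulAction.stabilizer G x))
    (hle : Q ≤ pairStab a b) : IsSylIn p Q (pairStab a b) := by
  refine ⟨hle, le_antisymm ?_ ?_⟩
  · obtain ⟨k, hk⟩ := IsPGroup.iff_card.1 hQ.isPGroup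
    rw [hk]
    exact Nat.pow_le_pow_right (Fact.out : p.Prime).pos
      (((Fact.out : p.Prime).pow_dvd_iff_le_factorization Nat.card_pos.ne').1
        (hk ▸ Subgroup.card_dvd_of_le hle))
  · rw [hQ.2, card_stabilizer, ← card_stabilizer a]
    exact Nat.pow_le_pow_right (Fact.out : p.Prime).pos
      ((Nat.factorization_le_iff_dvd Nat.card_pos.ne' Nat.card_pos.ne').2
        (Subgroup.card_dvd_of_le inf_le_left) p)

variable (hT : NoInside H p)
include hT

omit hpm in
/-- An invariant Sylow subgroup of a pair stabiliser with three fixed cosets is in the family. -/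
theorem inFam_of_sylow {a b : G ⧸ H} (hab : a ≠ b) {v : G} (hv : orderOf v = 2) (hva : v • a = b)
    {P : Subgroup G} (hP : IsSylIn p P (pairStab a b)) (hvP : v ∈ Subgroup.normalizer (P : Set G))
    (h3 : 3 ≤ (fixSet H P).ncard) : InFam H p P v :=
  ⟨⟨hP.isPGroup, hv, hvP, fun c hc => hT a b c v P hab hv hva hc hP hvP, h3⟩,
    card_invSet hse hab hv hva hP hvP⟩

theorem sylow_fix_le_two {x : G ⧸ H} {Q : Subgroup G} (hQ : IsSylIn p Q (MulAction.stabilizer G x)) :
    (fixSet H Q).ncard ≤ 2 := by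
  by_contra h3
  push Not at h3
  have hswap : ∀ a ∈ fixSet H Q, ∀ b ∈ fixSet H Q, a ≠ b →
      ∃ v ∈ Subgroup.normalizer (Q : Set G), orderOf v = 2 ∧ v • a = b := fun a ha b hb hab => by
    obtain ⟨v, hv, hva, hvQ⟩ := swapper_normalises hse hab (syl_pair hQ (le_pairStab ha hb))
    exact ⟨v, hvQ, hv, hva⟩
  obtain ⟨a, b, -, ha, hb, -, hab, -, -⟩ := (Set.two_lt_ncard_iff (Set.toFinite _)).1 h3
  obtain ⟨v, hvQ, hv, hva⟩ := hswap a ha b hb hab
  exact InFam.false_of_swapped hse hpm
    (inFam_of_sylow hse hT hab hv hva (syl_pair hQ (le_pairStab ha hb)) hvQ h3).toOutFix hswap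

theorem not_dvd_index : ¬ p ∣ Nat.card (G ⧸ H) := by
  intro hdvd
  obtain ⟨Q, hQ⟩ := Solv.exists_isSylIn p (MulAction.stabilizer G (QuotientGroup.mk 1 : G ⧸ H))
  have h2 := sylow_fix_le_two hse hpm hT hQ
  have hmod := hQ.isPGroup.card_modEq_card_fixedPoints (G ⧸ H)
  have hfix : MulAction.fixedPoints Q (G ⧸ H) = fixSet H Q := by
    ext y
    exact ⟨fun h z hz => h ⟨z, hz⟩, fun h z => h z.2⟩
  rw [hfix, Nat.card_coe_set_eq] at hmod
  have hpk : p ∣ (fixSet H Q).ncard :=
    Nat.modEq_zero_iff_dvd.1 (hmod.symm.trans (Nat.modEq_zero_iff_dvd.2 hdvd))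
  have hpos : 0 < (fixSet H Q).ncard := Set.ncard_pos (Set.toFinite _) |>.2 ⟨_, hQ.1⟩
  have := Nat.le_of_dvd hpos hpk
  have := (Fact.out : p.Prime).two_le
  have := p_ne_two hse hpm
  omega

theorem pgroup_fixes {V : Subgroup G} (hV : IsPGroup p V) : ∃ x : G ⧸ H, x ∈ fixSet H V := by
  obtain ⟨x, hx⟩ := hV.nonempty_fixed_point_of_prime_not_dvd_card (G ⧸ H) (not_dvd_index hse hpm hT)
  exact ⟨x, fun z hz => hx ⟨z, hz⟩⟩

/-- The family is empty. -/
theorem inFam_false {Z₀ : Subgroup G} {w₀ : G} (hF₀ : InFam H p Z₀ w₀) : False := by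
  obtain ⟨Z, -, hmax⟩ := Finite.exists_le_maximal (p := fun Z => ∃ w, InFam H p Z w) (a := Z₀) ⟨w₀, hF₀⟩
  obtain ⟨w, hF⟩ := hmax.1
  set M := Subgroup.normalizer (Z : Set G) with hM
  have hZM : Z ≤ M := Subgroup.le_normalizer
  haveI : (Z.subgroupOf M).Normal := Subgroup.normal_in_normalizer
  obtain ⟨W', hZW', hwW'⟩ := exists_isolated_invariant_sylow (InFam.isolated hse hpm hF.toOutFix) (p_ne_two hse hpm)
    (Q := Z.subgroupOf M) hF.pgroup.comap_subtype
    ((Subgroup.normalizer_eq_top_iff.2 inferInstance).ge (Subgroup.mem_top _))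
  set W := (W' : Subgroup M).map M.subtype with hW
  have hWp : IsPGroup p W := W'.isPGroup'.map _
  have hZW : Z ≤ W := by
    exact (Subgroup.map_subgroupOf_eq_of_le hZM).ge.trans (Subgroup.map_mono hZW')
  have hwW : w ∈ Subgroup.normalizer (W : Set G) :=
    Subgroup.le_normalizer_map M.subtype ⟨_, hwW', rfl⟩
  obtain ⟨e, he⟩ := pgroup_fixes hse hpm hT hWp
  have hwe : w • e ≠ e := fun h => hF.centre e h (fixSet_anti hZW he)
  have hinv : invSet w W = invSet w Z := by
    refine (Set.eq_of_subset_of_ncard_le (invSet_mono hZW) ?_ (Set.toFinite _)).symm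
    rw [hF.inverted]
    exact ncard_invSet_le hse (Ne.symm hwe) hF.invol rfl hWp
      (le_pairStab he (smul_mem_fixSet hwW he)) hwW
  have hkey : ∀ x ∈ W, w * x * w⁻¹ * x⁻¹ ∈ Z := by
    intro x hx
    have : w * x * w⁻¹ * x⁻¹ ∈ invSet w W := by
      refine ⟨mul_mem (Solv.conj_mem_of_mem_normalizer hwW hx) (inv_mem hx), ?_⟩
      simp only [mul_inv_rev, inv_inv, SEPairs.inv_self hF.invol, mul_assoc]
      rw [← mul_assoc w w, SEPairs.sq_one hF.invol, one_mul]
    rw [hinv] at this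
    exact this.1
  refine InFam.false_of_swapped hse hpm hF.toOutFix fun a ha b hb hab => ?_
  obtain ⟨S', hS'⟩ := IsPGroup.exists_le_sylow (hF.pgroup.comap_subtype (K := pairStab a b))
  set S := (S' : Subgroup (pairStab a b)).map (pairStab a b).subtype with hS
  have hSsyl : IsSylIn p S (pairStab a b) := IsSylIn.of_sylow S'
  have hZS : Z ≤ S := by
    rw [hS, ← Subgroup.map_subgroupOf_eq_of_le (le_pairStab ha hb)]
    exact Subgroup.map_mono hS'
  by_cases hSZ : Z = S
  · obtain ⟨v, hv, hva, hvS⟩ := swapper_normalises hse hab hSsyl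
    rw [← hSZ] at hvS
    exact ⟨v, hvS, hv, hva⟩
  obtain ⟨x₀, hx₀, hx₀Z⟩ := SetLike.exists_of_lt
    (SylIn.normalizer_growth (T := Z) hZS hSZ hSsyl.isPGroup)
  set V := S ⊓ M with hV
  obtain ⟨T, hVT⟩ := IsPGroup.exists_le_sylow
    ((hSsyl.isPGroup.to_le (inf_le_left : V ≤ S)).comap_subtype (K := M))
  obtain ⟨g, hg⟩ := MulAction.exists_smul_eq M T W'
  have hVW : ∀ x ∈ V, (g : G) * x * (g : G)⁻¹ ∈ W := fun x hx =>
    ⟨g * ⟨x, hx.2⟩ * g⁻¹, hg ▸ Subgroup.smul_mem_pointwise_smul _ (MulAut.conj g) _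
      (hVT (show (⟨x, hx.2⟩ : M) ∈ V.subgroupOf M from hx)), rfl⟩
  set V2 := V.map (MulAut.conj (g : G)).toMonoidHom with hV2
  have hV2W : V2 ≤ W := by
    rintro _ ⟨x, hx, rfl⟩
    exact hVW x hx
  have hZV2 : Z ≤ V2 := fun z hz =>
    ⟨(g : G)⁻¹ * z * g, ⟨hZS (by simpa using Solv.conj_mem_of_mem_normalizer (M.inv_mem g.2) hz),
        M.mul_mem (M.mul_mem (M.inv_mem g.2) (hZM hz)) g.2⟩, by
      show (g : G) * ((g : G)⁻¹ * z * g) * (g : G)⁻¹ = z
      group⟩
  have hwV2 : w ∈ Subgroup.normalizer (V2 : Set G) := mem_normalizer_of_cj_le (by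
    rintro _ ⟨y, hy, rfl⟩
    show w * y * w⁻¹ ∈ V2
    rw [show w * y * w⁻¹ = (w * y * w⁻¹ * y⁻¹) * y by group]
    exact mul_mem (hZV2 (hkey y (hV2W hy))) hy)
  have hga : ∀ y, V ≤ MulAction.stabilizer G y → (g : G) • y ∈ fixSet H V2 := by
    rintro y hy _ ⟨x, hx, rfl⟩
    show ((g : G) * x * (g : G)⁻¹) • ((g : G) • y) = (g : G) • y
    rw [mul_smul, mul_smul, inv_smul_smul, hy hx]
  have hVD : V ≤ pairStab a b := inf_le_left.trans hSsyl.1
  have hna := hga a (hVD.trans inf_le_left)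
  have hnb := hga b (hVD.trans inf_le_right)
  have hcentre : ∀ c : G ⧸ H, w • c = c → c ∉ fixSet H V2 := fun c hc h =>
    hF.centre c hc (fixSet_anti hZV2 h)
  have h2 : (fixSet H V2).ncard ≤ 2 := by
    by_contra h3
    push Not at h3
    have hin : InFam H p V2 w := by
      refine ⟨⟨hWp.to_le hV2W, hF.invol, hwV2, hcentre, h3⟩, le_antisymm ?_ ?_⟩
      · rw [← hF.inverted, ← hinv]
        exact Set.ncard_le_ncard (invSet_mono hV2W) (Set.toFinite _)
      · rw [← hF.inverted]
        exact Set.ncard_le_ncard (invSet_mono hZV2) (Set.toFinite _)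
    have hle := hmax.2 ⟨w, hin⟩ hZV2
    have hx1 : (g : G) * x₀ * (g : G)⁻¹ ∈ Z := hle ⟨x₀, hx₀, rfl⟩
    exact hx₀Z ((Subgroup.mem_normalizer_iff.1 g.2 x₀).2 hx1)
  have heq : fixSet H V2 = {(g : G) • a, (g : G) • b} := by
    refine (Set.eq_of_subset_of_ncard_le ?_ ?_ (Set.toFinite _)).symm
    · exact Set.insert_subset_iff.2 ⟨hna, Set.singleton_subset_iff.2 hnb⟩
    · rwa [Set.ncard_pair (fun h => hab (smul_left_cancel _ h))]
  have hwa : w • (g : G) • a = (g : G) • b := by
    have hmem := smul_mem_fixSet hwV2 hna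
    rw [heq] at hmem
    rcases hmem with h | h
    · exact absurd hna (hcentre _ h)
    · exact h
  refine ⟨(g : G)⁻¹ * w * g, M.mul_mem (M.mul_mem (M.inv_mem g.2) hF.norm) g.2, ?_, ?_⟩
  · simpa using SEPairs.conj_involution hF.invol (g : G)⁻¹
  · rw [mul_smul, mul_smul, hwa, inv_smul_smul]

/-- Every pair is the fixed set of a Sylow subgroup of its first point's stabiliser. -/
theorem exists_pair_sylow {a b : G ⧸ H} (hab : a ≠ b) :
    ∃ P : Subgroup G, IsSylIn p P (MulAction.stabilizer G a) ∧ fixSet H P = {a, b} := by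
  obtain ⟨w, hw, hwa⟩ := exists_swapper hse hab
  obtain ⟨P, hP, hwP⟩ := exists_sylow (p := p) hse hab hw hwa
  have heq : fixSet H P = {a, b} := by
    refine (Set.eq_of_subset_of_ncard_le ?_ ?_ (Set.toFinite _)).symm
    · exact Set.insert_subset_iff.2
        ⟨hP.1.trans inf_le_left, Set.singleton_subset_iff.2 (hP.1.trans inf_le_right)⟩
    · rw [Set.ncard_pair hab]
      by_contra h3
      push Not at h3
      exact inFam_false hse hpm hT (inFam_of_sylow hse hT hab hw hwa hP hwP h3)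
  refine ⟨P, ?_, heq⟩
  obtain ⟨S', hS'⟩ := IsPGroup.exists_le_sylow (hP.isPGroup.comap_subtype (K := MulAction.stabilizer G a))
  set S := (S' : Subgroup (MulAction.stabilizer G a)).map (MulAction.stabilizer G a).subtype with hS
  have hSsyl : IsSylIn p S (MulAction.stabilizer G a) := IsSylIn.of_sylow S'
  have hPS : P ≤ S := by
    rw [hS, ← Subgroup.map_subgroupOf_eq_of_le (hP.1.trans inf_le_left)]
    exact Subgroup.map_mono hS'
  by_cases h : P = S
  · exact h ▸ hSsyl
  exfalso
  obtain ⟨x, hx, hxP⟩ := SetLike.exists_of_lt (SylIn.normalizer_growth (T := P) hPS h hSsyl.isPGroup)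
  have hxb : x • b ∈ fixSet H P := smul_mem_fixSet hx.2 (heq ▸ Or.inr rfl)
  have hxa : x • a = a := hSsyl.1 hx.1
  rw [heq] at hxb
  have hxb' : x • b = b := by
    rcases hxb with h1 | h1
    · exact absurd (smul_left_cancel x (h1.trans hxa.symm)) (Ne.symm hab)
    · exact h1
  have hle : P ⊔ Subgroup.zpowers x ≤ pairStab a b :=
    sup_le hP.1 (Subgroup.zpowers_le.2 ⟨hxa, hxb'⟩)
  have := hP.eq_of_le (hSsyl.isPGroup.to_le (sup_le hPS (Subgroup.zpowers_le.2 hx.1))) hle le_sup_left
  exact hxP (this ▸ Subgroup.mem_sup_right (Subgroup.mem_zpowers x))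

/-- `H` is transitive on the other cosets. -/
theorem transitive_of_noInside (g₁ g₂ : G) (h₁ : g₁ ∉ H) (h₂ : g₂ ∉ H) :
    ∃ h ∈ H, g₂⁻¹ * (h * g₁) ∈ H := by
  set x := (QuotientGroup.mk 1 : G ⧸ H)
  have hne : ∀ g, g ∉ H → x ≠ QuotientGroup.mk g := fun g hg e => hg (by
    rw [QuotientGroup.eq] at e
    simpa using e)
  obtain ⟨P, hP, hPfix⟩ := exists_pair_sylow hse hpm hT (hne g₁ h₁)
  obtain ⟨R, hR, hRfix⟩ := exists_pair_sylow hse hpm hT (hne g₂ h₂)
  obtain ⟨k, hk, hkPR⟩ := hP.exists_conj hR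
  have hkx : k • x = x := hk
  refine ⟨k, by simpa using SEPairs.smul_mk_eq_iff.1 hkx, ?_⟩
  have hmem : k • (QuotientGroup.mk g₁ : G ⧸ H) ∈ fixSet H R := by
    intro r hr
    rw [← hkPR, Solv.mem_conj_smul] at hr
    have h' : (k⁻¹ * r * k) • (QuotientGroup.mk g₁ : G ⧸ H) = QuotientGroup.mk g₁ := by
      have hg : (QuotientGroup.mk g₁ : G ⧸ H) ∈ fixSet H P := hPfix ▸ Or.inr rfl
      exact hg hr
    show r • k • (QuotientGroup.mk g₁ : G ⧸ H) = k • QuotientGroup.mk g₁
    calc r • k • (QuotientGroup.mk g₁ : G ⧸ H) = k • (k⁻¹ * r * k) • QuotientGroup.mk g₁ := by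
          simp only [smul_smul]; congr 1; group
      _ = _ := by rw [h']
  rw [hRfix] at hmem
  rcases hmem with h | h
  · exact absurd (smul_left_cancel k (h.trans hkx.symm)) (Ne.symm (hne g₁ h₁))
  · rw [MulAction.Quotient.smul_mk, smul_eq_mul] at h
    exact QuotientGroup.eq.1 h.symm

end Cfsg.Agent.Bender
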