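import Cfsg.Agent.Lib.Lead.JankoRee.Frob
import Cfsg.Agent.Lib.Bender.PSLTwoInverted
import Cfsg.Agent.Lib.Bender.AbelianSolvable
import Cfsg.Agent.Lib.Bender.Solvable.Defs
import Cfsg.Agent.Lib.Char.Burnside
import Cfsg.Agent.S1220

/-!
# The centralizer `⟨t⟩ × E`, `PSL₂(q) ⊴ E`, is a maximal subgroup

Granted that strongly embedded subgroups with several classes of involutions are solvable.
-/

set_option autoImplicit false
set_option linter.style.haveILetI false
set_option linter.unusedSectionVars false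

namespace Cfsg.Agent.Bender.MaxCent

open Cfsg Cfsg.Agent Subgroup
open Cfsg.Agent.Lead.JankoRee

universe u v

variable {G : Type u} [Group G] [Finite G] [IsSimpleGroup G] {F : Type v} [Field F] [Fintype F]
variable (D : RCtx G F)

/-- An involution without fixed points on a subgroup of odd order inverts it. -/
theorem inverts_of_fpf {K : Subgroup G} {s : G} (hs : s * s = 1) (hsK : s ∈ normalizer (K : Set G))
    (hfix : ∀ y ∈ K, s * y = y * s → y = 1) : ∀ y ∈ K, s * y * s⁻¹ = y⁻¹ := by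
  intro y hy
  set φ := K.normalizerMonoidHom ⟨s, hsK⟩
  have hφ : MonoidHom.FixedPointFree φ.toMonoidHom := fun z hz =>
    Subtype.ext (hfix z z.2 (mul_inv_eq_iff_eq_mul.1 (congrArg Subtype.val hz)))
  have h2 : Function.Involutive φ.toMonoidHom := fun z => Subtype.ext (by
    show s * (s * (z : G) * s⁻¹) * s⁻¹ = z
    rw [show s * (s * (z : G) * s⁻¹) * s⁻¹ = (s * s) * z * (s * s)⁻¹ by group, hs]
    group)
  exact congrArg Subtype.val (congrFun (hφ.coe_eq_inv_of_involutive h2) ⟨y, hy⟩)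

theorem conj_mem_of_normalizer {K : Subgroup G} {g x : G} (hg : g ∈ normalizer (K : Set G)) (hx : x ∈ K) :
    g * x * g⁻¹ ∈ K :=
  (mem_normalizer_iff.1 hg x).1 hx

/-- A member of `C` of odd order lies in `E`. -/
theorem mem_E_of_odd {x : G} (hx : x ∈ D.C) (ho : Odd (orderOf x)) : x ∈ D.E := by
  obtain ⟨k, hk⟩ := ho
  have h2 : x ^ 2 ∈ D.E := by
    rcases D.split hx with h | h
    · exact pow_mem h 2
    · have h' := mul_mem h h
      rwa [show D.t * x * (D.t * x) = D.t * (x * D.t) * x by group, D.mem_C.1 hx,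
        show D.t * (D.t * x) * x = D.t * D.t * x ^ 2 by simp [pow_two, mul_assoc], D.sq_t, one_mul] at h'
  have hxx : x = (x ^ 2) ^ (k + 1) := by
    rw [← pow_mul, show 2 * (k + 1) = orderOf x + 1 by omega, pow_add, pow_orderOf_eq_one, one_mul, pow_one]
  rw [hxx]
  exact pow_mem h2 _

/-- Every element of the Sylow subgroup apart from the identity is a conjugate of `t`. -/
theorem exists_conj {s : G} (hs : s ∈ D.SS) (hs1 : s ≠ 1) :
    ∃ h ∈ D.H, ((h ⟨D.t, D.t_mem⟩ : D.SS) : G) = s := by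
  obtain ⟨h, hh⟩ := D.orbit_all (x := ⟨s, hs⟩) fun e => hs1 (congrArg Subtype.val e)
  exact ⟨_, h.2, congrArg Subtype.val hh⟩

theorem exists_NS {s : G} (hs : s ∈ D.SS) (hs1 : s ≠ 1) :
    ∃ n ∈ D.NS, n * D.t * n⁻¹ = s := by
  obtain ⟨h, hh, e⟩ := exists_conj D hs hs1
  obtain ⟨n, hn, hn'⟩ := D.exists_of_mem hh
  exact ⟨n, hn, (hn' _).symm.trans e⟩

theorem N_simple (hq : 4 ≤ Fintype.card F) : IsSimpleGroup D.N :=
  haveI := Cfsg.Agent.S0810.psl_simple_big (F := F) hq
  D.iso.isSimpleGroup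

theorem N_not_solvable (hq : 4 ≤ Fintype.card F) : ¬ Group.IsSolvable D.N := by
  intro h
  haveI := N_simple D hq
  have hc := IsSimpleGroup.comm_iff_isSolvable.2 h
  -- a commutative simple group has prime order
  letI : CommGroup D.N := { (inferInstance : Group D.N) with mul_comm := hc }
  have hp : (Nat.card D.N).Prime := IsSimpleGroup.prime_card
  have h4 : Nat.card D.V ∣ Nat.card D.N := card_dvd_of_le D.card_V.2
  rw [D.card_V.1] at h4
  rcases hp.eq_one_or_self_of_dvd _ h4 with h' | h'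
  · omega
  · rw [← h'] at hp
    norm_num at hp

/-! ### The case `q = 3` -/

theorem E_solvable (hq : Fintype.card F = 3) : Group.IsSolvable D.E := by
  haveI : Finite (Matrix.ProjectiveSpecialLinearGroup (Fin 2) F) := Finite.of_equiv _ D.iso.toEquiv
  have h12 : Nat.card D.N = 12 := by
    rw [Nat.card_congr D.iso.toEquiv]
    have h := Cfsg.Agent.Classical.Dickson.card_psl F
    rw [hq] at h
    norm_num at h
    omega
  haveI hN : Group.IsSolvable D.N :=
    Cfsg.Agent.Char.isSolvable_of_two_primes Nat.prime_two Nat.prime_three 12 h12 (fun r hr hd => by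
      have h := Nat.le_of_dvd (by norm_num) hd
      interval_cases r <;> first | exact Or.inl rfl | exact Or.inr rfl | (revert hr hd; norm_num))
  haveI : (D.N.subgroupOf D.E).Normal :=
    ⟨fun n hn e => mem_subgroupOf.2 (D.N_conj e e.2 n (mem_subgroupOf.1 hn))⟩
  haveI : Group.IsSolvable (D.N.subgroupOf D.E) :=
    solvable_of_solvable_injective (f := (subgroupOfEquivOfLe D.N_le).toMonoidHom)
      (subgroupOfEquivOfLe D.N_le).injective
  haveI : Group.IsSolvable (D.E ⧸ D.N.subgroupOf D.E) := by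
    refine AbelianSolvable.odd_solvable' ?_
    rw [← Subgroup.index_eq_card, ← Nat.not_even_iff_odd, even_iff_two_dvd]
    exact fun h => D.V_index (h.trans (relIndex_dvd_of_le_left _ D.card_V.2))
  exact solvable_of_ker_le_range (D.N.subgroupOf D.E).subtype (QuotientGroup.mk' (D.N.subgroupOf D.E))
    (by rw [QuotientGroup.ker_mk', Subgroup.range_subtype])

theorem C_solvable (hq : Fintype.card F = 3) : Group.IsSolvable D.C := by
  haveI : Group.IsSolvable D.E := E_solvable D hq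
  haveI : (D.E.subgroupOf D.C).Normal := by
    refine ⟨fun e he c => mem_subgroupOf.2 ?_⟩
    have he' : (e : G) ∈ D.E := mem_subgroupOf.1 he
    show (c : G) * e * (c : G)⁻¹ ∈ D.E
    rcases D.split c.2 with hc | hc
    · exact mul_mem (mul_mem hc he') (inv_mem hc)
    · have h := mul_mem (mul_mem hc he') (inv_mem hc)
      rwa [show D.t * (c : G) * e * (D.t * (c : G))⁻¹ = D.t * ((c : G) * e * (c : G)⁻¹) * D.t⁻¹ by group,
        ← D.mem_C.1 (mul_mem (mul_mem c.2 (D.E_le_C he')) (inv_mem c.2)), mul_inv_cancel_right] at h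
  haveI : Group.IsSolvable (D.E.subgroupOf D.C) :=
    solvable_of_solvable_injective (f := (subgroupOfEquivOfLe D.E_le_C).toMonoidHom)
      (subgroupOfEquivOfLe D.E_le_C).injective
  haveI : Group.IsSolvable (D.C ⧸ D.E.subgroupOf D.C) := by
    have h2 : Nat.card (D.C ⧸ D.E.subgroupOf D.C) = 2 := by
      have h := (D.E.subgroupOf D.C).card_mul_index
      rw [Nat.card_congr (subgroupOfEquivOfLe D.E_le_C).toEquiv, D.card_C_eq, mul_comm 2] at h
      rw [← Subgroup.index_eq_card]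
      exact Nat.eq_of_mul_eq_mul_left Nat.card_pos h
    haveI : Fact (Nat.Prime 2) := ⟨Nat.prime_two⟩
    haveI : IsCyclic (D.C ⧸ D.E.subgroupOf D.C) := isCyclic_of_prime_card h2
    letI : CommGroup (D.C ⧸ D.E.subgroupOf D.C) := IsCyclic.commGroup
    infer_instance
  exact solvable_of_ker_le_range (D.E.subgroupOf D.C).subtype (QuotientGroup.mk' (D.E.subgroupOf D.C))
    (by rw [QuotientGroup.ker_mk', Subgroup.range_subtype])

theorem centralizer_solvable (D : RCtx G F) (hq : Fintype.card F = 3) (s : G) (hs : orderOf s = 2) :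
    Group.IsSolvable (centralizer ({s} : Set G)) := by
  haveI : Fact (Nat.Prime 2) := ⟨Nat.prime_two⟩
  have hp : IsPGroup 2 (zpowers s) := IsPGroup.of_card (n := 1) (by rw [Nat.card_zpowers, hs, pow_one])
  obtain ⟨T, hT⟩ := hp.exists_le_sylow
  obtain ⟨g, hg⟩ := MulAction.exists_smul_eq G T D.S
  have hgs : g * s * g⁻¹ ∈ D.SS := by
    show g * s * g⁻¹ ∈ (D.S : Subgroup G)
    rw [← hg, Sylow.coe_subgroup_smul]
    exact ⟨s, hT (mem_zpowers s), rfl⟩
  have hgs1 : g * s * g⁻¹ ≠ 1 := fun e => by rw [conj_eq_one_iff.1 e] at hs; simp at hs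
  obtain ⟨n, -, hn⟩ := exists_NS D hgs hgs1
  haveI := C_solvable D hq
  let f : centralizer ({s} : Set G) →* D.C :=
    ((MulAut.conj (n⁻¹ * g)).toMonoidHom.comp (centralizer ({s} : Set G)).subtype).codRestrict D.C fun x => by
      have hx : (x : G) * s = s * x := mem_centralizer_singleton_iff.1 x.2
      have ht : D.t = (n⁻¹ * g) * s * (n⁻¹ * g)⁻¹ := by
        rw [show (n⁻¹ * g) * s * (n⁻¹ * g)⁻¹ = n⁻¹ * (g * s * g⁻¹) * n by group, ← hn]
        group
      refine D.mem_C.2 ?_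
      show (n⁻¹ * g) * x * (n⁻¹ * g)⁻¹ * D.t = D.t * ((n⁻¹ * g) * x * (n⁻¹ * g)⁻¹)
      rw [ht, conj_mul, conj_mul, hx]
  exact solvable_of_solvable_injective (f := f) fun a b e =>
    Subtype.ext ((MulAut.conj (n⁻¹ * g)).injective (congrArg Subtype.val e))

theorem false_of_three (D : RCtx G F) (hq : Fintype.card F = 3) : False := by
  haveI : Fact (Nat.Prime 2) := ⟨Nat.prime_two⟩
  have hna : ∃ a b : G, a * b ≠ b * a := by
    by_contra h
    push Not at h
    exact D.hG ⟨⟨h⟩⟩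
  obtain ⟨F', iF, iFF, hcase, ⟨e⟩⟩ := AbelianSolvable.simple_case D.S (D.hab D.S)
    (fun G _ _ H h => Cfsg.Agent.S1220.result H h)
    (fun G _ _ H h hs => Cfsg.Agent.SEB.oddCore_le_of_solvable h hs) hna (centralizer_solvable D hq)
  haveI : Finite (Matrix.ProjectiveSpecialLinearGroup (Fin 2) F') := Finite.of_equiv _ e.toEquiv
  have hS8 : Nat.card D.SS = 8 := D.card_S
  rcases hcase with ⟨h35, -⟩ | ⟨m, hm2, hm⟩
  · set P := D.S.mapSurjective (f := e.toMonoidHom) e.surjective with hP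
    haveI := Cfsg.Agent.S0276.result rfl h35 P
    have h4 : Nat.card (P : Subgroup (Matrix.ProjectiveSpecialLinearGroup (Fin 2) F')) = 4 :=
      IsKleinFour.card_four
    change Nat.card ↥((D.SS).map e.toMonoidHom) = 4 at h4
    rw [card_map_of_injective e.injective, hS8] at h4
    omega
  · have hG := Cfsg.Agent.Classical.Dickson.card_psl F'
    rw [← Nat.card_congr e.toEquiv, hm] at hG
    have hev : ¬ 2 ∣ (2 ^ m - 1) := by
      have h1 : 2 ∣ 2 ^ m := dvd_pow_self 2 (by omega)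
      have h2 : 0 < 2 ^ m := Nat.pow_pos two_pos
      omega
    rw [(Nat.prime_two.coprime_iff_not_dvd.2 hev).gcd_eq_one, mul_one] at hG
    have hmul := (D.SS).card_mul_index
    rw [hS8, hG] at hmul
    have hidx : ¬ 2 ∣ (D.SS).index := D.S.not_dvd_index
    have hsq : ¬ 2 ∣ (2 ^ m) ^ 2 - 1 := by
      have h1 : 2 ∣ (2 ^ m) ^ 2 := dvd_pow (dvd_pow_self 2 (by omega)) two_ne_zero
      have h2 : 0 < (2 ^ m) ^ 2 := Nat.pow_pos (Nat.pow_pos two_pos)
      omega
    have hm3 : m = 3 := by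
      rcases lt_trichotomy m 3 with h | h | h
      · obtain rfl : m = 2 := by omega
        norm_num at hmul
        omega
      · exact h
      · exfalso
        obtain ⟨j, rfl⟩ : ∃ j, m = 4 + j := ⟨m - 4, by omega⟩
        apply hidx
        refine ⟨2 ^ j * ((2 ^ (4 + j)) ^ 2 - 1), Nat.eq_of_mul_eq_mul_left (show 0 < 8 by norm_num) ?_⟩
        rw [hmul, pow_add]
        ring
    subst hm3
    norm_num at hG
    -- the normalizer of the Sylow subgroup has index at most three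
    have hN21 : 21 ∣ Nat.card D.NS := by
      rw [← D.card_St.2]
      exact card_range_dvd D.θ
    have hN8 : 8 ∣ Nat.card D.NS := hS8 ▸ card_dvd_of_le le_normalizer
    have hN168 : 168 ∣ Nat.card D.NS :=
      (show Nat.Coprime 21 8 by norm_num).mul_dvd_of_dvd_of_dvd hN21 hN8
    have hNi := (D.NS).card_mul_index
    rw [hG] at hNi
    have hle : (D.NS).index ≤ 3 := by
      have := Nat.le_of_dvd Nat.card_pos hN168
      nlinarith
    have hcore : (D.NS).normalCore = ⊥ := by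
      rcases (Subgroup.normalCore_normal D.NS).eq_bot_or_eq_top with h | h
      · exact h
      · exfalso
        have htop : D.NS = ⊤ := top_le_iff.1 (h ▸ normalCore_le _)
        haveI : (D.SS).Normal := normalizer_eq_top_iff.1 htop
        rcases (inferInstance : (D.SS).Normal).eq_bot_or_eq_top with h' | h'
        · rw [h', card_bot] at hS8
          omega
        · have := D.SS.card_mul_index
          rw [h', index_top, card_top, hG] at this
          rw [h', card_top, hG] at hS8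
          omega
    have hinj : Function.Injective (MulAction.toPermHom G (G ⧸ D.NS)) := by
      rw [← MonoidHom.ker_eq_bot_iff, ← normalCore_eq_ker]
      exact hcore
    have hperm := Nat.card_le_card_of_injective _ hinj
    rw [hG, Nat.card_perm, ← Subgroup.index_eq_card] at hperm
    have h6 : Nat.factorial (D.NS).index ≤ Nat.factorial 3 := Nat.factorial_le hle
    norm_num [Nat.factorial] at h6
    omega

/-! ### An overgroup -/

variable {M : Subgroup G}

/-- An overgroup of `C` fusing all involutions of the Sylow subgroup is strongly embedded. -/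
theorem embedded (hM : M ≠ ⊤) (hCM : D.C ≤ M)
    (hfus : ∀ s ∈ D.SS, s ≠ 1 → ∃ m ∈ M, m * D.t * m⁻¹ = s) : Cfsg.IsStronglyEmbedded M := by
  haveI : Fact (Nat.Prime 2) := ⟨Nat.prime_two⟩
  have hSM : D.SS ≤ M := D.S_le_C.trans hCM
  refine ⟨hM, even_iff_two_dvd.2 ((dvd_trans (by norm_num) (dvd_of_eq D.card_S.symm)).trans
    (card_dvd_of_le hSM)), fun g hg => ?_⟩
  by_contra hev
  rw [Nat.not_odd_iff_even, even_iff_two_dvd] at hev
  obtain ⟨⟨s, hsM, hsg⟩, hs⟩ := exists_prime_orderOf_dvd_card' 2 hev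
  obtain ⟨s', hs', hse⟩ := hsg
  rw [← Subgroup.orderOf_coe] at hs
  have hs : orderOf s = 2 := hs
  have hse : g * s' * g⁻¹ = s := hse
  have key : ∀ x ∈ M, orderOf x = 2 → ∃ m ∈ M, m * D.t * m⁻¹ = x := by
    intro x hx hxo
    have hxp : IsPGroup 2 (zpowers (⟨x, hx⟩ : M)) :=
      IsPGroup.of_card (n := 1) (by rw [Nat.card_zpowers, ← Subgroup.orderOf_coe, pow_one]; exact hxo)
    obtain ⟨T, hT⟩ := hxp.exists_le_sylow
    obtain ⟨a, ha⟩ := MulAction.exists_smul_eq M T (D.S.subtype hSM)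
    have hax : (a : G) * x * (a : G)⁻¹ ∈ D.SS := by
      have h : a * ⟨x, hx⟩ * a⁻¹ ∈ ((D.S.subtype hSM : Sylow 2 M) : Subgroup M) := by
        rw [← ha, Sylow.coe_subgroup_smul]
        exact ⟨_, hT (mem_zpowers _), rfl⟩
      exact h
    have hax1 : (a : G) * x * (a : G)⁻¹ ≠ 1 := fun e => by rw [conj_eq_one_iff.1 e] at hxo; simp at hxo
    obtain ⟨m, hm, he⟩ := hfus _ hax hax1
    refine ⟨(a : G)⁻¹ * m, mul_mem (inv_mem a.2) hm, ?_⟩
    rw [show (a : G)⁻¹ * m * D.t * ((a : G)⁻¹ * m)⁻¹ = (a : G)⁻¹ * (m * D.t * m⁻¹) * a by group, he]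
    group
  obtain ⟨m, hm, hme⟩ := key s hsM hs
  obtain ⟨m', hm', hme'⟩ := key s' hs' (by
    rw [← hse] at hs
    rwa [← SemiconjBy.orderOf_eq (a := g) (show SemiconjBy g s' (g * s' * g⁻¹) by
      unfold SemiconjBy; group)] at hs)
  refine hg ?_
  have hc : m⁻¹ * g * m' ∈ D.C := D.mem_C.2 (by
    rw [← mul_inv_eq_iff_eq_mul, show m⁻¹ * g * m' * D.t * (m⁻¹ * g * m')⁻¹
      = m⁻¹ * (g * (m' * D.t * m'⁻¹) * g⁻¹) * m by group, hme', hse, ← hme]
    group)
  have := mul_mem (mul_mem hm (hCM hc)) (inv_mem hm')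
  rwa [show m * (m⁻¹ * g * m') * m'⁻¹ = g by group] at this

theorem not_embedded (hsol : ∀ (X : Type u) [Group X] [Finite X], SEB.Sol X) (hq : 4 ≤ Fintype.card F)
    (hCM : D.C ≤ M) : ¬ Cfsg.IsStronglyEmbedded M := by
  haveI : Fact (Nat.Prime 2) := ⟨Nat.prime_two⟩
  intro hse
  have hm : SEB.mbar ↥M ≠ 1 := by
    intro h
    rcases Bender.sylow_cyclic_or_quaternion hse (SEB.oneClass_of_mbar_eq_one h) D.S with hc | ⟨m, hm, ⟨e⟩⟩
    · obtain ⟨⟨x, hx⟩, hgen⟩ := hc.exists_generator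
      have h1 : Nat.card (D.S : Subgroup G) = orderOf (⟨x, hx⟩ : (D.S : Subgroup G)) :=
        (orderOf_eq_card_of_forall_mem_zpowers hgen).symm
      rw [D.card_S, ← Subgroup.orderOf_coe] at h1
      have h2 : orderOf x ∣ 2 := orderOf_dvd_of_pow_eq_one (by rw [pow_two]; exact D.sq_S hx)
      rw [← show (8 : ℕ) = orderOf x from h1] at h2
      omega
    · have hc := congrArg (fun z => z) (D.S_comm (e.symm (QuaternionGroup.a 1)).2 (e.symm (QuaternionGroup.xa 0)).2)
      have hc' : (e.symm (QuaternionGroup.a 1)) * (e.symm (QuaternionGroup.xa 0))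
          = (e.symm (QuaternionGroup.xa 0)) * (e.symm (QuaternionGroup.a 1)) := Subtype.ext hc
      have h8 : Nat.card (QuaternionGroup (2 ^ m)) = 8 := (Nat.card_congr e.toEquiv).symm.trans D.card_S
      haveI : NeZero (2 ^ m) := ⟨by positivity⟩
      rw [Nat.card_eq_fintype_card, QuaternionGroup.card] at h8
      have hm1 : m = 1 := Nat.pow_right_injective le_rfl (show 2 ^ m = 2 ^ 1 by omega)
      subst hm1
      rw [← map_mul, ← map_mul] at hc'
      exact absurd (e.symm.injective hc') (by decide)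
  haveI := hsol G M hse hm
  exact N_not_solvable D hq (solvable_of_solvable_injective
    (f := inclusion ((D.N_le.trans D.E_le_C).trans hCM)) (inclusion_injective _))

/-- If some element of `M ∩ N_G(S)` moves `t` then `M` fuses all involutions of `S`. -/
theorem fuses_of_moved (hCM : D.C ≤ M) {m : G} (hm : m ∈ M) (hmN : m ∈ D.NS) (hmt : m * D.t * m⁻¹ ≠ D.t) :
    ∀ s ∈ D.SS, s ≠ 1 → ∃ m ∈ M, m * D.t * m⁻¹ = s := by
  set HM : Subgroup D.H := (M.subgroupOf D.NS).map D.θ.rangeRestrict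
  have hSt : D.St ≤ HM := by
    intro h hh
    obtain ⟨g, hg⟩ := D.θ.rangeRestrict_surjective h
    refine ⟨g, mem_subgroupOf.2 (hCM (D.mem_C.2 ?_)), hg⟩
    have h' : ((D.θ g : MulAut D.SS) D.tS : D.SS) = D.tS := by
      rw [show (D.θ g : MulAut D.SS) = (h : MulAut D.SS) from congrArg Subtype.val hg]
      exact hh
    exact mul_inv_eq_iff_eq_mul.1 ((D.θ_apply g D.tS).symm.trans (congrArg Subtype.val h'))
  have hne : ¬ HM ≤ D.St := fun hle => by
    have h := hle ⟨⟨m, hmN⟩, mem_subgroupOf.2 hm, rfl⟩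
    exact hmt ((D.θ_apply ⟨m, hmN⟩ D.tS).symm.trans (congrArg Subtype.val (MulAction.mem_stabilizer_iff.1 h)))
  have h3 : Nat.card D.St ∣ Nat.card HM := card_dvd_of_le hSt
  have h21 : Nat.card HM ∣ Nat.card D.H := card_subgroup_dvd_card _
  have hlt : Nat.card D.St < Nat.card HM :=
    lt_of_le_of_ne (Nat.le_of_dvd Nat.card_pos h3) fun e => hne (eq_of_le_of_card_ge hSt e.ge).ge
  rw [D.card_St.1] at h3 hlt
  rw [D.card_St.2] at h21
  have htop : HM = ⊤ := by
    refine eq_top_of_card_eq _ ?_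
    have hle := Nat.le_of_dvd (by norm_num) h21
    rw [D.card_St.2]
    revert h3 h21
    interval_cases (Nat.card HM) <;> norm_num
  intro s hs hs1
  obtain ⟨h, hh, e⟩ := exists_conj D hs hs1
  obtain ⟨g, hg, hge⟩ := (htop ▸ mem_top (⟨h, hh⟩ : D.H) : (⟨h, hh⟩ : D.H) ∈ HM)
  refine ⟨g, mem_subgroupOf.1 hg, ?_⟩
  rw [← e, ← show (D.θ g : MulAut D.SS) = h from congrArg Subtype.val hge]
  exact (D.θ_apply g D.tS).symm

/-- If `t` is isolated in `M` then `M = C`. -/
theorem le_C_of_isolated (hq : 4 ≤ Fintype.card F) (hCM : D.C ≤ M)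
    (hiso : ∀ m ∈ M, m ∈ D.NS → m * D.t * m⁻¹ = D.t) : M ≤ D.C := by
  haveI : Fact (Nat.Prime 2) := ⟨Nat.prime_two⟩
  haveI : Finite (Matrix.ProjectiveSpecialLinearGroup (Fin 2) F) := Finite.of_equiv _ D.iso.toEquiv
  have hSM : D.SS ≤ M := D.S_le_C.trans hCM
  have htM : D.t ∈ M := hSM D.t_mem
  -- isolation in `M`
  have hcmc : Char.CentralModCore (⟨D.t, htM⟩ : M) := by
    refine Char.zStar (Char.oddInvol_of_isolated_sylow (P := D.S.subtype hSM) ?_ D.t_mem fun a ha => ?_)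
    · rw [← Subgroup.orderOf_coe]; exact D.ht
    obtain ⟨n, hn, he⟩ := Fusion.fusion_of_abelian (Fusion.sylIn_top (D.S.subtype hSM))
      (fun x hx => mem_centralizer_iff.2 fun y hy => Subtype.ext (D.S_comm hy hx)) D.t_mem ha
    have hnN : (n : G) ∈ D.NS := mem_normalizer_fintype fun x hx =>
      (mem_normalizer_iff.1 hn ⟨x, hSM hx⟩).1 hx
    exact he.symm.trans (Subtype.ext (hiso _ n.2 hnN))
  set W : Subgroup G := (Cfsg.oddCore ↥M).map M.subtype with hWdef
  have hWM : W ≤ M := map_subtype_le _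
  have hWodd : Odd (Nat.card W) := by
    rw [hWdef, card_map_of_injective M.subtype_injective]
    exact Char.card_oddCore_odd ↥M
  have hWn : ∀ m ∈ M, ∀ w ∈ W, m * w * m⁻¹ ∈ W := by
    rintro m hm _ ⟨x, hx, rfl⟩
    exact ⟨⟨m, hm⟩ * x * ⟨m, hm⟩⁻¹, (inferInstance : (Cfsg.oddCore ↥M).Normal).conj_mem x hx _, rfl⟩
  have hodd : ∀ {x : G}, x ∈ W → Odd (orderOf x) := fun {x} hx =>
    hWodd.of_dvd_nat (orderOf_dvd_natCard _ hx)
  -- `t` fixes no element of `W`
  have hWC : ∀ x ∈ W, x ∈ D.C → x = 1 := by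
    intro x hx hxC
    have hxE := mem_E_of_odd D hxC (hodd hx)
    haveI := N_simple D hq
    have hYn : ((W.subgroupOf D.N)).Normal := ⟨fun y hy n => mem_subgroupOf.2
      (hWn n (hCM (D.E_le_C (D.N_le n.2))) y (mem_subgroupOf.1 hy))⟩
    have hY : W.subgroupOf D.N = ⊥ := hYn.eq_bot_or_eq_top.resolve_right fun h => by
      have h4 : Nat.card D.V ∣ Nat.card W := card_dvd_of_le (D.card_V.2.trans (subgroupOf_eq_top.1 h))
      rw [D.card_V.1] at h4
      exact Nat.not_even_iff_odd.2 hWodd (even_iff_two_dvd.2 (dvd_trans (by norm_num) h4))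
    refine D.faithful x hxE fun n hn => ?_
    have hN : x * n * x⁻¹ * n⁻¹ ∈ D.N := mul_mem (D.N_conj x hxE n hn) (inv_mem hn)
    have hW' : x * n * x⁻¹ * n⁻¹ ∈ W := by
      rw [show x * n * x⁻¹ * n⁻¹ = x * (n * x⁻¹ * n⁻¹) by group]
      exact mul_mem hx (hWn n (hCM (D.E_le_C (D.N_le hn))) _ (inv_mem hx))
    have h := (hY ▸ (mem_subgroupOf.2 hW' : (⟨_, hN⟩ : D.N) ∈ W.subgroupOf D.N) :
      (⟨_, hN⟩ : D.N) ∈ (⊥ : Subgroup D.N))
    exact mul_inv_eq_iff_eq_mul.1 (mul_inv_eq_one.1 (congrArg Subtype.val (mem_bot.1 h)))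
  have htinv : ∀ w ∈ W, D.t * w * D.t⁻¹ = w⁻¹ :=
    inverts_of_fpf D.sq_t (mem_normalizer_fintype fun w hw => hWn _ htM w hw)
      fun w hw h => hWC w hw (D.mem_C.2 h.symm)
  -- a four group acts without fixed points
  have hfix : ∀ v ∈ D.V, v ≠ 1 → ∀ w ∈ W, v * w = w * v → w = 1 := by
    intro v hv hv1
    obtain ⟨n, hn, hnt⟩ := exists_NS D (D.V_le_S hv) hv1
    set Y : Subgroup G := (W ⊓ centralizer ({v} : Set G)).map (MulAut.conj n⁻¹).toMonoidHom with hYdef
    have hYmem : ∀ {y : G}, y ∈ Y ↔ n * y * n⁻¹ ∈ W ∧ n * y * n⁻¹ * v = v * (n * y * n⁻¹) := by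
      intro y
      constructor
      · rintro ⟨w, ⟨hw1, hw2⟩, rfl⟩
        rw [show n * ((MulAut.conj n⁻¹).toMonoidHom w) * n⁻¹ = w by simp; group]
        exact ⟨hw1, mem_centralizer_singleton_iff.1 hw2⟩
      · rintro ⟨h1, h2⟩
        exact ⟨_, ⟨h1, mem_centralizer_singleton_iff.2 h2⟩, by simp; group⟩
    have hYodd : Odd (Nat.card Y) := by
      rw [hYdef, card_map_of_injective (MulAut.conj n⁻¹).injective]
      exact hWodd.of_dvd_nat (card_dvd_of_le inf_le_left)
    have hYC : ∀ y ∈ Y, y ∈ D.C := by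
      intro y hy
      have h := (hYmem.1 hy).2
      rw [← hnt, conj_mul, conj_mul] at h
      exact D.mem_C.2 (mul_left_cancel (mul_right_cancel h))
    set u := n⁻¹ * D.t * n with hu
    have huS : u ∈ D.SS := by
      have := conj_mem_of_normalizer (inv_mem hn) D.t_mem
      rwa [inv_inv] at this
    have hut : u ≠ D.t := by
      intro e
      refine D.t_not_mem (D.V_le_E (show D.t ∈ D.V from ?_))
      have : v = D.t := by
        calc v = n * (n⁻¹ * D.t * n) * n⁻¹ := by rw [← hu, e, hnt]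
          _ = D.t := by group
      rwa [this] at hv
    have hu1 : u ≠ 1 := fun e => D.t_ne (by rw [hu] at e; simpa [mul_assoc] using congrArg (fun z => n * z * n⁻¹) e)
    -- the element of `V` inducing `u`
    obtain ⟨u', hu'V, hu'1, hu'inv, hu'C⟩ : ∃ u' ∈ D.V, u' ≠ 1 ∧ (∀ y ∈ Y, u' * y * u'⁻¹ = y⁻¹) ∧
        ∀ g ∈ D.C, g * u' = u' * g → g * u = u * g := by
      have hinv : ∀ y ∈ Y, u * y * u⁻¹ = y⁻¹ := by
        intro y hy
        have h := htinv _ (hYmem.1 hy).1
        rw [hu, show n⁻¹ * D.t * n * y * (n⁻¹ * D.t * n)⁻¹ = n⁻¹ * (D.t * (n * y * n⁻¹) * D.t⁻¹) * n by group, h]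
        group
      rcases D.S_split huS with h | h
      · exact ⟨u, h, hu1, hinv, fun g _ e => e⟩
      · refine ⟨D.t * u, h, fun e => hut ?_, fun y hy => ?_, fun g hg e => ?_⟩
        · rw [← inv_eq_of_mul_eq_one_right e, inv_eq_of_mul_eq_one_right D.sq_t]
        · rw [show D.t * u * y * (D.t * u)⁻¹ = D.t * (u * y * u⁻¹) * D.t⁻¹ by group, hinv y hy,
            ← D.mem_C.1 (inv_mem (hYC y hy)), mul_inv_cancel_right]
        · rw [← mul_assoc, D.mem_C.1 hg, mul_assoc, mul_assoc] at e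
          exact mul_left_cancel e
    have hu'N : u' ∈ D.N := D.card_V.2 hu'V
    have hYN : Y ≤ D.N := by
      intro y hy
      have ho : Odd (orderOf y) := hYodd.of_dvd_nat (orderOf_dvd_natCard _ hy)
      have hyE := mem_E_of_odd D (hYC y hy) ho
      have h2 : y⁻¹ * y⁻¹ ∈ D.N := by
        have h := mul_mem hu'N (D.N_conj y hyE _ (inv_mem hu'N))
        rwa [show u' * (y * u'⁻¹ * y⁻¹) = u' * y * u'⁻¹ * y⁻¹ by group, hu'inv y hy] at h
      obtain ⟨k, hk⟩ := ho
      have hyy : y = ((y⁻¹ * y⁻¹) ^ (k + 1))⁻¹ := by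
        rw [← pow_two, ← pow_mul, inv_pow, inv_inv, show 2 * (k + 1) = orderOf y + 1 by omega, pow_add,
          pow_orderOf_eq_one, one_mul, pow_one]
      rw [hyy]
      exact inv_mem (pow_mem h2 _)
    have hYnorm : ∀ g ∈ D.N, g * u' = u' * g → ∀ y ∈ Y, g * y * g⁻¹ ∈ Y := by
      intro g hg hgu y hy
      have hgC : g ∈ D.C := D.E_le_C (D.N_le hg)
      have hgu' : g * u = u * g := hu'C g hgC hgu
      obtain ⟨h1, h2⟩ := hYmem.1 hy
      have hm : n * g * n⁻¹ ∈ D.C := D.mem_C.2 (by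
        calc n * g * n⁻¹ * D.t = n * (g * u) * n⁻¹ := by rw [hu]; group
          _ = n * (u * g) * n⁻¹ := by rw [hgu']
          _ = D.t * (n * g * n⁻¹) := by rw [hu]; group)
      have hv' : n * g * n⁻¹ * v = v * (n * g * n⁻¹) := by
        rw [← hnt, conj_mul, conj_mul, D.mem_C.1 hgC]
      refine hYmem.2 ⟨?_, ?_⟩
      · rw [show n * (g * y * g⁻¹) * n⁻¹ = (n * g * n⁻¹) * (n * y * n⁻¹) * (n * g * n⁻¹)⁻¹ by group]
        exact hWn _ (hCM hm) _ h1
      · rw [show n * (g * y * g⁻¹) * n⁻¹ = (n * g * n⁻¹) * (n * y * n⁻¹) * (n * g * n⁻¹)⁻¹ by group]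
        exact (Commute.mul_left (Commute.mul_left hv' h2) (Commute.inv_left hv'))
    have hR := Bender.PSLInverted.eq_bot D.h35 (u := D.iso ⟨u', hu'N⟩)
      (by rw [← map_mul, ← map_one D.iso]; exact congrArg _ (Subtype.ext (D.sq_V hu'V)))
      (fun e => hu'1 (congrArg Subtype.val (D.iso.injective (e.trans (map_one D.iso).symm))))
      (R := (Y.subgroupOf D.N).map D.iso.toMonoidHom)
      (by rw [card_map_of_injective D.iso.injective, Nat.card_congr (subgroupOfEquivOfLe hYN).toEquiv]; exact hYodd)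
      (by
        rintro _ ⟨y, hy, rfl⟩
        show D.iso _ * D.iso y * (D.iso _)⁻¹ = (D.iso y)⁻¹
        rw [← map_inv, ← map_inv, ← map_mul, ← map_mul]
        exact congrArg _ (Subtype.ext (hu'inv _ (mem_subgroupOf.1 hy))))
      (by
        intro g hg
        refine mem_normalizer_fintype ?_
        rintro _ ⟨y, hy, rfl⟩
        obtain ⟨g, rfl⟩ := D.iso.surjective g
        have hgu := mem_centralizer_singleton_iff.1 hg
        rw [← map_mul, ← map_mul] at hgu
        refine ⟨g * y * g⁻¹, mem_subgroupOf.2 (hYnorm g g.2 (congrArg Subtype.val (D.iso.injective hgu)) y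
          (mem_subgroupOf.1 hy)), by simp⟩)
    intro w hw hwv
    have hwY : n⁻¹ * w * n ∈ Y := hYmem.2 (by
      rw [show n * (n⁻¹ * w * n) * n⁻¹ = w by group]
      exact ⟨hw, hwv.symm⟩)
    have h := (hR ▸ (⟨⟨_, hYN hwY⟩, mem_subgroupOf.2 hwY, rfl⟩ :
      D.iso ⟨_, hYN hwY⟩ ∈ (Y.subgroupOf D.N).map D.iso.toMonoidHom) : D.iso ⟨_, hYN hwY⟩ ∈ (⊥ : Subgroup _))
    have h' : n⁻¹ * w * n = 1 :=
      congrArg Subtype.val (D.iso.injective ((mem_bot.1 h).trans (map_one D.iso).symm))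
    have := congrArg (fun z => n * z * n⁻¹) h'
    simpa [mul_assoc] using this
  have hW1 : ∀ w ∈ W, w = 1 := by
    obtain ⟨x, y, hx, hy, hx1, hy1, hxy⟩ : ∃ x y, x ∈ D.V ∧ y ∈ D.V ∧ x ≠ 1 ∧ y ≠ 1 ∧ x * y ≠ 1 := by
      have h4 := D.card_V.1
      have hntriv : Nontrivial D.V := Finite.one_lt_card_iff_nontrivial.1 (by omega)
      obtain ⟨⟨x, hx⟩, hxne⟩ := exists_ne (1 : D.V)
      have hne : ∃ y : D.V, y ≠ 1 ∧ y ≠ ⟨x, hx⟩ := by
        by_contra h
        push Not at h
        have : Nat.card D.V ≤ Nat.card (Fin 2) :=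
          Nat.card_le_card_of_surjective ![(1 : D.V), ⟨x, hx⟩] fun y => by
            by_cases hy : y = 1
            · exact ⟨0, hy.symm⟩
            · exact ⟨1, (h y hy).symm⟩
        simp at this
        omega
      obtain ⟨⟨y, hy⟩, hy1, hyx⟩ := hne
      refine ⟨x, y, hx, hy, fun e => hxne (Subtype.ext e), fun e => hy1 (Subtype.ext e), fun e => hyx (Subtype.ext ?_)⟩
      show y = x
      rw [← inv_eq_of_mul_eq_one_right e, inv_eq_of_mul_eq_one_right (D.sq_V hx)]
    have hinv : ∀ v ∈ D.V, v ≠ 1 → ∀ w ∈ W, v * w * v⁻¹ = w⁻¹ := fun v hv hv1 =>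
      inverts_of_fpf (D.sq_V hv) (mem_normalizer_fintype fun w hw => hWn _ (hSM (D.V_le_S hv)) w hw)
        (hfix v hv hv1)
    intro w hw
    have h1 := hinv _ (mul_mem hx hy) hxy w hw
    rw [show x * y * w * (x * y)⁻¹ = x * (y * w * y⁻¹) * x⁻¹ by group, hinv y hy hy1 w hw,
      hinv x hx hx1 _ (inv_mem hw), inv_inv] at h1
    have h2 : orderOf w ∣ 2 := orderOf_dvd_of_pow_eq_one (by rw [pow_two]; exact mul_eq_one_iff_eq_inv.2 h1)
    rcases (Nat.dvd_prime Nat.prime_two).1 h2 with h | h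
    · exact orderOf_eq_one_iff.1 h
    · exact absurd (h ▸ hodd hw) (by decide)
  intro m hm
  have h : D.t * m * D.t⁻¹ * m⁻¹ = 1 := hW1 _ ⟨_, hcmc ⟨m, hm⟩, rfl⟩
  exact D.mem_C.2 (mul_inv_eq_iff_eq_mul.1 (mul_inv_eq_one.1 h)).symm

/-- The centralizer is a maximal subgroup. -/
theorem isCoatom (hsol : ∀ (X : Type u) [Group X] [Finite X], SEB.Sol X) : IsCoatom D.C := by
  refine ⟨D.hne, fun M hM => ?_⟩
  by_contra hne
  rcases D.hF3.eq_or_lt with hq | hq
  · exact false_of_three D hq.symm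
  have hq4 : 4 ≤ Fintype.card F := hq
  by_cases hmov : ∃ m ∈ M, m ∈ D.NS ∧ m * D.t * m⁻¹ ≠ D.t
  · obtain ⟨m, hm, hmN, hmt⟩ := hmov
    exact not_embedded D hsol hq4 hM.le (embedded D hne hM.le (fuses_of_moved D hM.le hm hmN hmt))
  · push Not at hmov
    exact hM.not_ge (le_C_of_isolated D hq4 hM.le hmov)

end Cfsg.Agent.Bender.MaxCent
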