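import Cfsg.Agent.Lib.Bender.MaximalCentralizer

/-!
# Maximality of the involution centralizer, from the data of the statement
-/

set_option autoImplicit false
set_option linter.style.haveILetI false

namespace Cfsg.Agent.Bender.MaxCent

open Cfsg Cfsg.Agent Subgroup

universe u

theorem main_of_sol (hsol : ∀ (X : Type u) [Group X] [Finite X], SEB.Sol X) {G : Type u} [Group G] [Finite G]
    [IsSimpleGroup G] (hna : ¬ IsMulCommutative G) (S : Sylow 2 G) (hS : IsMulCommutative (S : Subgroup G))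
    (t : G) (ht : orderOf t = 2) (E E₀ : Subgroup G)
    (hprod : Cfsg.IsInternalDirectProduct (zpowers t) E (centralizer ({t} : Set G))) (hE₀E : E₀ ≤ E)
    (hE₀n : (E₀.subgroupOf E).Normal)
    (hE₀ : ∃ (F : Type) (_ : Field F) (_ : Fintype F), Odd (Fintype.card F) ∧
      Nonempty (E₀ ≃* Matrix.ProjectiveSpecialLinearGroup (Fin 2) F))
    (hCE : E ⊓ centralizer (E₀ : Set G) = ⊥) : IsCoatom (centralizer ({t} : Set G)) := by
  haveI : Fact (Nat.Prime 2) := ⟨Nat.prime_two⟩
  obtain ⟨F, iF, iFF, hFo, ⟨iso⟩⟩ := hE₀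
  have hab : ∀ T : Sylow 2 G, IsMulCommutative ↥(T : Subgroup G) := fun T => by
    haveI := hS
    let e := T.equiv S
    exact ⟨⟨fun a b => e.injective (by rw [map_mul, map_mul]; exact mul_comm' _ _)⟩⟩
  have hne : centralizer ({t} : Set G) ≠ ⊤ := by
    intro h
    have hc : t ∈ center G := mem_center_iff.2 fun g => mem_centralizer_singleton_iff.1 (h ▸ mem_top g)
    rcases (inferInstance : (center G).Normal).eq_bot_or_eq_top with h' | h'
    · rw [h', mem_bot] at hc
      rw [hc, orderOf_one] at ht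
      omega
    · exact hna ⟨⟨fun a b => (mem_center_iff.1 (h' ▸ mem_top b : b ∈ center G) a)⟩⟩
  have hF3 : 3 ≤ Fintype.card F := by
    have h2 : 1 < Fintype.card F := Fintype.one_lt_card
    obtain ⟨k, hk⟩ := hFo
    omega
  obtain ⟨T, hT⟩ := (IsPGroup.of_card (n := 1) (by rw [Nat.card_zpowers, ht, pow_one]) :
    IsPGroup 2 (zpowers t)).exists_le_sylow
  let D : Lead.JankoRee.RCtx G F :=
    { hG := hna, hab := hab, t := t, ht := ht, hne := hne, E := E, hE := hprod, hFo := hFo, hF3 := hF3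
      N := E₀, N_le := hE₀E
      N_conj := fun e he n hn => mem_subgroupOf.1 (hE₀n.conj_mem ⟨n, hE₀E hn⟩ (mem_subgroupOf.2 hn) ⟨e, he⟩)
      iso := iso
      faithful := fun e he h => by
        have h' : e ∈ E ⊓ centralizer (E₀ : Set G) := ⟨he, mem_centralizer_iff.2 fun n hn => (h n hn).symm⟩
        rwa [hCE, mem_bot] at h'
      S := T, t_mem := hT (mem_zpowers t) }
  exact isCoatom D hsol

end Cfsg.Agent.Bender.MaxCent
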