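import Cfsg.Agent.Lib.OddLocal.OddFactor

/-!
# The `p'`-core of a subgroup, seen in the ambient group
-/

set_option autoImplicit false
set_option linter.style.haveILetI false

namespace Cfsg.Agent.SEB

open Cfsg
open Cfsg.Agent.Fusion (SylIn cj)

universe u

variable {G : Type u} [Group G] [Finite G] {p : ℕ}

/-- `O_{p'}(D)` as a subgroup of `G`. -/
def pcoreIn (p : ℕ) (D : Subgroup G) : Subgroup G := (pPrimeCore p ↥D).map D.subtype

theorem pcoreIn_le (D : Subgroup G) : pcoreIn p D ≤ D := Subgroup.map_subtype_le _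

theorem card_pcoreIn_coprime (D : Subgroup G) : (Nat.card (pcoreIn p D)).Coprime p := by
  rw [pcoreIn, Subgroup.card_map_of_injective D.subtype_injective]
  exact Fusion.card_pPrimeCore_coprime p _

theorem cj_pcoreIn (D : Subgroup G) (g : G) : cj (pcoreIn p D) g = pcoreIn p (cj D g) := by
  set e := D.equivMapOfInjective (MulAut.conj g).toMonoidHom (MulAut.conj g).injective with he
  show (((pPrimeCore p ↥D).map D.subtype).map (MulAut.conj g).toMonoidHom) =
    (pPrimeCore p ↥(D.map (MulAut.conj g).toMonoidHom)).map _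
  rw [← Fusion.map_pPrimeCore_equiv e, Subgroup.map_map, Subgroup.map_map]
  rfl

theorem normalizer_le_pcoreIn (D : Subgroup G) {g : G} (hg : g ∈ Subgroup.normalizer (D : Set G)) :
    g ∈ Subgroup.normalizer (pcoreIn p D : Set G) :=
  Fusion.mem_normalizer_iff_cj.2 (by rw [cj_pcoreIn, Fusion.cj_eq_self hg])

theorem le_normalizer_pcoreIn (D : Subgroup G) : D ≤ Subgroup.normalizer (pcoreIn p D : Set G) :=
  fun _ hg => normalizer_le_pcoreIn D (Subgroup.le_normalizer hg)

variable [Fact p.Prime]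

theorem le_pcoreIn {D : Subgroup G} (hs : Group.IsSolvable ↥D) (hp : p ≠ 2) {P : Subgroup G}
    (hP : SylIn p P D) {Y : Subgroup G} (hYD : Y ≤ D) (hY : (Nat.card Y).Coprime p)
    (hPY : P ≤ Subgroup.normalizer (Y : Set G)) : Y ≤ pcoreIn p D := by
  obtain ⟨T, hT⟩ := hP.exists_sylow_subgroupOf
  have h := OddLocal.Fact2.le_pPrimeCore_of_sylow hs hp T (Y := Y.subgroupOf D)
    (by
      rw [Nat.card_congr (Subgroup.subgroupOfEquivOfLe hYD).toEquiv]
      exact fun hd => (Fact.out : p.Prime).not_dvd_one (hY ▸ Nat.dvd_gcd hd dvd_rfl))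
    (by
      rw [hT]
      intro x hx
      rw [Subgroup.mem_normalizer_iff]
      intro y
      exact Subgroup.mem_normalizer_iff.1 (hPY hx) y)
  intro y hy
  exact ⟨⟨y, hYD hy⟩, h (Subgroup.mem_subgroupOf.2 hy), rfl⟩

/-- `ZJ(P)` is normalised by `D` when `O_{p'}(D) = 1`. -/
theorem le_normalizer_zj {D : Subgroup G} (hs : Group.IsSolvable ↥D) (hodd : Odd (Nat.card D)) (hp : p ≠ 2)
    {P : Subgroup G} (hP : SylIn p P D) (hK : pcoreIn p D = ⊥) :
    D ≤ Subgroup.normalizer (OddLocal.Fact2.zjOf p P : Set G) := by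
  obtain ⟨T, hT⟩ := hP.exists_sylow_subgroupOf
  have h := OddLocal.Fact2.zj_factor hs hodd hp T
  have h0 : pPrimeCore p ↥D = ⊥ := (Subgroup.map_eq_bot_iff_of_injective _ D.subtype_injective).1 hK
  rw [h0, bot_sup_eq] at h
  have hmap : (OddLocal.Fact2.zjOf p (T : Subgroup ↥D)).map D.subtype = OddLocal.Fact2.zjOf p P := by
    rw [OddLocal.Fact2.zjOf_map D.subtype T.isPGroup' (D.subtype_injective.comp (T : Subgroup ↥D).subtype_injective),
      hT, Subgroup.map_subgroupOf_eq_of_le hP.le]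
  rw [← hmap]
  intro g hg
  have h1 : (⟨g, hg⟩ : ↥D) ∈ Subgroup.normalizer (OddLocal.Fact2.zjOf p (T : Subgroup ↥D) : Set ↥D) :=
    h ▸ Subgroup.mem_top _
  exact Subgroup.le_normalizer_map D.subtype ⟨_, h1, rfl⟩

end Cfsg.Agent.SEB
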