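import Cfsg.Agent.Lib.Fusion.StronglyEmbeddedPairs
import Cfsg.Agent.Lib.Fusion.IsolatedSylow
import Cfsg.Agent.Lib.Solv.Coprime

/-!
# Sylow subgroups of two-point stabilisers of a strongly embedded subgroup

The swappers of a pair form one class of the two-point stabiliser `D`, so their number `m` is
`[D : C_D(w)]`.  The elements of an invariant Sylow `p`-subgroup of `D` inverted by a swapper are
`m_p` in number.
-/

set_option autoImplicit false
set_option linter.style.haveILetI false

open scoped Pointwise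

namespace Cfsg.Agent.Bender

open Cfsg Cfsg.Agent
open Cfsg.Agent.Fusion
open Cfsg.Agent.Solv (IsSylIn)

variable {G : Type*} [Group G] {H : Subgroup G}

/-- The cosets fixed by a subgroup. -/
def fixSet (H Z : Subgroup G) : Set (G ⧸ H) := {x | Z ≤ MulAction.stabilizer G x}

/-- The elements of `Z` inverted by `w`. -/
def invSet (w : G) (Z : Subgroup G) : Set G := {x | x ∈ Z ∧ w * x * w⁻¹ = x⁻¹}

/-- The stabiliser of two cosets. -/
def pairStab (a b : G ⧸ H) : Subgroup G := MulAction.stabilizer G a ⊓ MulAction.stabilizer G b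

/-- The number of involutions of `H`. -/
noncomputable def numInv (H : Subgroup G) : ℕ := Nat.card {t : G // orderOf t = 2 ∧ t ∈ H}

/-- No swapper of a pair has its centre fixed by an invariant Sylow `p`-subgroup of the pair stabiliser. -/
def NoInside (H : Subgroup G) (p : ℕ) : Prop :=
  ∀ (a b c : G ⧸ H) (w : G) (P : Subgroup G), a ≠ b → orderOf w = 2 → w • a = b → w • c = c →
    IsSylIn p P (pairStab a b) → w ∈ Subgroup.normalizer (P : Set G) → c ∉ fixSet H P

theorem fixSet_anti {Z V : Subgroup G} (h : Z ≤ V) : fixSet H V ⊆ fixSet H Z := fun _ hx => h.trans hx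

theorem invSet_mono {w : G} {Z V : Subgroup G} (h : Z ≤ V) : invSet w Z ⊆ invSet w V :=
  fun _ hx => ⟨h hx.1, hx.2⟩

theorem le_pairStab {Z : Subgroup G} {a b : G ⧸ H} (ha : a ∈ fixSet H Z) (hb : b ∈ fixSet H Z) :
    Z ≤ pairStab a b := le_inf ha hb

/-- The normaliser preserves the fixed cosets. -/
theorem smul_mem_fixSet {Z : Subgroup G} {g : G} (hg : g ∈ Subgroup.normalizer (Z : Set G))
    {x : G ⧸ H} (hx : x ∈ fixSet H Z) : g • x ∈ fixSet H Z := fun z hz => by
  have h1 : g⁻¹ * z * g ∈ Z := by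
    simpa using Solv.conj_mem_of_mem_normalizer (inv_mem hg) hz
  have h2 : (g⁻¹ * z * g) • x = x := hx h1
  show z • g • x = g • x
  calc z • g • x = g • (g⁻¹ * z * g) • x := by simp only [smul_smul]; congr 1; group
    _ = g • x := by rw [h2]

variable [Finite G] (hse : Cfsg.IsStronglyEmbedded H)
include hse

omit [Finite G] hse in
theorem card_fixing (x : G ⧸ H) : Nat.card {t : G // orderOf t = 2 ∧ t • x = x} = numInv H := by
  obtain ⟨g, hg⟩ := MulAction.exists_smul_eq G x (QuotientGroup.mk 1 : G ⧸ H)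
  refine Nat.card_congr ((MulAut.conj g).toEquiv.subtypeEquiv fun t => ?_)
  show _ ↔ orderOf (g * t * g⁻¹) = 2 ∧ g * t * g⁻¹ ∈ H
  rw [show orderOf (g * t * g⁻¹) = orderOf t from
    orderOf_injective (MulAut.conj g).toMonoidHom (MulAut.conj g).injective t]
  refine and_congr_right fun _ => ?_
  have h1 : (g * t * g⁻¹) • (g • x) = g • x ↔ t • x = x := by
    rw [mul_smul, mul_smul, inv_smul_smul, smul_left_cancel_iff]
  rw [hg, SEPairs.smul_mk_eq_iff, inv_one, one_mul, mul_one] at h1
  exact h1.symm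

theorem numInv_pos : 0 < numInv H := by
  obtain ⟨t, x, ht, htx⟩ := SEPairs.exists_fixed_involution hse
  rw [← card_fixing x]
  haveI : Nonempty {t : G // orderOf t = 2 ∧ t • x = x} := ⟨⟨t, ht, htx⟩⟩
  exact Nat.card_pos

theorem exists_swapper {a b : G ⧸ H} (hab : a ≠ b) : ∃ w : G, orderOf w = 2 ∧ w • a = b := by
  have h := SEPairs.card_swappers hse hab
  rw [card_fixing] at h
  obtain ⟨⟨w, hw⟩⟩ := (Nat.card_pos_iff.1 (h ▸ numInv_pos hse)).1
  exact ⟨w, hw⟩

theorem pairStab_odd {a b : G ⧸ H} (hab : a ≠ b) : Odd (Nat.card (pairStab a b)) := by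
  by_contra h
  rw [Nat.not_odd_iff_even] at h
  haveI : Fact (Nat.Prime 2) := ⟨Nat.prime_two⟩
  obtain ⟨⟨t, htD⟩, ht⟩ := exists_prime_orderOf_dvd_card' 2 (even_iff_two_dvd.1 h)
  rw [Subgroup.orderOf_mk] at ht
  exact hab (SEPairs.fixed_unique hse ht htD.1 htD.2)

omit [Finite G] hse in
theorem swapper_smul {a b : G ⧸ H} {w : G} (hw : orderOf w = 2) (hwa : w • a = b) : w • b = a := by
  rw [← hwa, smul_smul, SEPairs.sq_one hw, one_smul]

omit hse in
theorem swapper_norm {a b : G ⧸ H} {w : G} (hw : orderOf w = 2) (hwa : w • a = b) :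
    w ∈ Subgroup.normalizer (pairStab a b : Set G) := by
  refine mem_normalizer_of_cj_le ?_
  rintro _ ⟨d, ⟨hda, hdb⟩, rfl⟩
  have hwb := swapper_smul hw hwa
  constructor
  · show (w * d * w⁻¹) • a = a
    rw [SEPairs.inv_self hw, mul_smul, mul_smul, hwa, show d • b = b from hdb, hwb]
  · show (w * d * w⁻¹) • b = b
    rw [SEPairs.inv_self hw, mul_smul, mul_smul, hwb, show d • a = a from hda, hwa]

/-- `[D : C_D(w)]` is the number of involutions of `H`. -/
theorem relIndex_centralizer {a b : G ⧸ H} (hab : a ≠ b) {w : G} (hw : orderOf w = 2) (hwa : w • a = b) :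
    (pairStab a b ⊓ Subgroup.centralizer {w}).relIndex (pairStab a b) = numInv H := by
  set D := pairStab a b with hD
  rw [← card_fixing a, ← SEPairs.card_swappers hse hab]
  let f : D → {i : G // orderOf i = 2 ∧ i • a = b} := fun d =>
    ⟨(d : G) * w * (d : G)⁻¹, SEPairs.conj_involution hw _, by
      have hda : (d : G) • a = a := d.2.1
      have hdb : (d : G) • b = b := d.2.2
      rw [mul_smul, mul_smul, inv_smul_eq_iff.2 hda.symm, hwa, hdb]⟩
  have hkey : ∀ d e : D, d⁻¹ * e ∈ (D ⊓ Subgroup.centralizer {w}).subgroupOf D ↔ f d = f e := by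
    intro d e
    rw [Subgroup.mem_subgroupOf, Subgroup.mem_inf, Subgroup.mem_centralizer_singleton_iff]
    constructor
    · rintro ⟨-, h⟩
      refine Subtype.ext ?_
      show (d : G) * w * (d : G)⁻¹ = (e : G) * w * (e : G)⁻¹
      push_cast at h
      calc (d : G) * w * (d : G)⁻¹ = (d : G) * (w * ((d : G)⁻¹ * e)) * (e : G)⁻¹ := by group
        _ = _ := by rw [← h]; group
    · intro h
      refine ⟨(d⁻¹ * e).2, ?_⟩
      have h' : (d : G) * w * (d : G)⁻¹ = (e : G) * w * (e : G)⁻¹ := congrArg Subtype.val h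
      push_cast
      calc (d : G)⁻¹ * e * w = (d : G)⁻¹ * ((e : G) * w * (e : G)⁻¹) * e := by group
        _ = _ := by rw [← h']; group
  let F : D ⧸ (D ⊓ Subgroup.centralizer {w}).subgroupOf D → {i : G // orderOf i = 2 ∧ i • a = b} :=
    fun q => Quotient.liftOn' q f fun d e hde =>
      (hkey d e).1 (QuotientGroup.leftRel_apply.1 hde)
  refine Nat.card_eq_of_bijective F ⟨?_, ?_⟩
  · intro q r
    induction q using QuotientGroup.induction_on with
    | _ d =>
      induction r using QuotientGroup.induction_on with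
      | _ e => exact fun h => QuotientGroup.eq.2 ((hkey d e).2 h)
  · rintro ⟨i, hi, hia⟩
    obtain ⟨g, hga, hgb, hg⟩ := SEPairs.swappers_conj hse hab hi hia hw hwa
    exact ⟨QuotientGroup.mk ⟨g, hga, hgb⟩, Subtype.ext hg⟩

omit [Finite G] hse in
theorem card_eq_relIndex_mul {A B : Subgroup G} (h : A ≤ B) :
    Nat.card B = A.relIndex B * Nat.card A := by
  rw [mul_comm, ← Nat.card_congr (Subgroup.subgroupOfEquivOfLe h).toEquiv]
  exact ((A.subgroupOf B).card_mul_index).symm

theorem coprime_pair {a b : G ⧸ H} (hab : a ≠ b) {w : G} (hw : orderOf w = 2) :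
    (Nat.card (Subgroup.zpowers w)).Coprime (Nat.card (pairStab a b)) := by
  rw [Nat.card_zpowers, hw]
  exact (pairStab_odd hse hab).coprime_two_left

omit [Finite G] hse in
theorem zpowers_solvable (w : G) : Group.IsSolvable (Subgroup.zpowers w) :=
  Group.isSolvable_of_comm fun a b =>
    (inferInstance : IsMulCommutative (Subgroup.zpowers w)).is_comm.comm a b

variable {p : ℕ} [Fact p.Prime]

/-- An invariant `p`-subgroup of the pair stabiliser lies in an invariant Sylow `p`-subgroup. -/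
theorem exists_sylow_ge {a b : G ⧸ H} (hab : a ≠ b) {w : G} (hw : orderOf w = 2) (hwa : w • a = b)
    {U : Subgroup G} (hU : IsPGroup p U) (hUD : U ≤ pairStab a b)
    (hwU : w ∈ Subgroup.normalizer (U : Set G)) :
    ∃ P : Subgroup G, IsSylIn p P (pairStab a b) ∧ U ≤ P ∧ w ∈ Subgroup.normalizer (P : Set G) := by
  obtain ⟨P, hP, hUP, hwP⟩ := Solv.exists_invariant_sylow_ge
    (Subgroup.zpowers_le.2 (swapper_norm hw hwa)) (coprime_pair hse hab hw) (Or.inl (zpowers_solvable w))
    U hUD hU (Subgroup.zpowers_le.2 hwU)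
  exact ⟨P, hP, hUP, hwP (Subgroup.mem_zpowers w)⟩

theorem exists_sylow {a b : G ⧸ H} (hab : a ≠ b) {w : G} (hw : orderOf w = 2) (hwa : w • a = b) :
    ∃ P : Subgroup G, IsSylIn p P (pairStab a b) ∧ w ∈ Subgroup.normalizer (P : Set G) := by
  obtain ⟨P, hP, -, hwP⟩ := exists_sylow_ge (p := p) hse hab hw hwa (U := ⊥) (IsPGroup.of_bot) bot_le
    (by rw [Subgroup.normalizer_eq_top_iff.2 inferInstance]; trivial)
  exact ⟨P, hP, hwP⟩

/-- Every Sylow `p`-subgroup of the pair stabiliser is normalised by some swapper. -/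
theorem swapper_normalises {a b : G ⧸ H} (hab : a ≠ b) {Q : Subgroup G} (hQ : IsSylIn p Q (pairStab a b)) :
    ∃ v : G, orderOf v = 2 ∧ v • a = b ∧ v ∈ Subgroup.normalizer (Q : Set G) := by
  obtain ⟨w, hw, hwa⟩ := exists_swapper hse hab
  obtain ⟨P, hP, hwP⟩ := exists_sylow (p := p) hse hab hw hwa
  obtain ⟨d, hd, hPQ⟩ := hP.exists_conj hQ
  have hda : d • a = a := hd.1
  have hdb : d • b = b := hd.2
  refine ⟨d * w * d⁻¹, SEPairs.conj_involution hw d,
    by rw [mul_smul, mul_smul, inv_smul_eq_iff.2 hda.symm, hwa, hdb], ?_⟩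
  refine Solv.mem_normalizer_of_conj_smul ?_
  rw [← hPQ, Solv.conj_smul_conj, show d * w * d⁻¹ * d = d * w by group, ← Solv.conj_smul_conj,
    Solv.conj_smul_of_mem_normalizer hwP]

/-- A swapper inverts exactly `m_p` elements of an invariant Sylow `p`-subgroup. -/
theorem card_invSet {a b : G ⧸ H} (hab : a ≠ b) {w : G} (hw : orderOf w = 2) (hwa : w • a = b)
    {P : Subgroup G} (hP : IsSylIn p P (pairStab a b)) (hwP : w ∈ Subgroup.normalizer (P : Set G)) :
    (invSet w P).ncard = p ^ (numInv H).factorization p := by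
  set D := pairStab a b with hD
  set C := D ⊓ Subgroup.centralizer {w} with hC
  have hPodd : Odd (Nat.card P) := (pairStab_odd hse hab).of_dvd_nat (Subgroup.card_dvd_of_le hP.1)
  have hr : (invSet w P).ncard = (P ⊓ Subgroup.centralizer {w}).relIndex P := by
    rw [card_inverted hw hwP hPodd, ← Nat.card_coe_set_eq]
    rfl
  obtain ⟨U, hU⟩ := Solv.exists_isSylIn p C
  have hUc : ∀ u ∈ U, w * u * w⁻¹ = u := fun u hu => by
    rw [← Subgroup.mem_centralizer_singleton_iff.1 (hU.1 hu).2, mul_inv_cancel_right]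
  obtain ⟨P', hP', hUP', hwP'⟩ := exists_sylow_ge hse hab hw hwa hU.isPGroup (hU.1.trans inf_le_left)
    (mem_normalizer_of_cj_le (by
      rintro _ ⟨u, hu, rfl⟩
      show w * u * w⁻¹ ∈ U
      rw [hUc u hu]; exact hu))
  obtain ⟨c, hc, hcP⟩ := Solv.invariant_sylow_conj
    (Subgroup.zpowers_le.2 (swapper_norm hw hwa)) (coprime_pair hse hab hw) (Or.inl (zpowers_solvable w))
    hP' hP (Subgroup.zpowers_le.2 hwP') (Subgroup.zpowers_le.2 hwP)
  have hcw : c * w = w * c :=
    ((Subgroup.mem_centralizer_iff.1 hc.2) w (Subgroup.mem_zpowers w)).symm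
  have hle : MulAut.conj c • U ≤ P ⊓ Subgroup.centralizer {w} := by
    intro y hy
    refine ⟨hcP ▸ Subgroup.pointwise_smul_le_pointwise_smul_iff.2 hUP' hy, ?_⟩
    rw [Solv.mem_conj_smul] at hy
    refine Subgroup.mem_centralizer_singleton_iff.2 ?_
    have hcwC : Commute c w := hcw
    have hu : Commute (c⁻¹ * y * c) w := (mul_inv_eq_iff_eq_mul.1 (hUc _ hy)).symm
    have hyw := (hcwC.mul_left hu).mul_left hcwC.inv_left
    rwa [show c * (c⁻¹ * y * c) * c⁻¹ = y by group] at hyw
  have hcard : Nat.card (P ⊓ Subgroup.centralizer {w} : Subgroup G) = p ^ (Nat.card C).factorization p := by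
    refine le_antisymm ?_ ?_
    · obtain ⟨k, hk⟩ := IsPGroup.iff_card.1 (hP.isPGroup.to_le (inf_le_left (b := Subgroup.centralizer {w})))
      rw [hk]
      refine Nat.pow_le_pow_right (Fact.out : p.Prime).pos ?_
      refine ((Fact.out : p.Prime).pow_dvd_iff_le_factorization Nat.card_pos.ne').1 (hk ▸ ?_)
      exact Subgroup.card_dvd_of_le (inf_le_inf_right _ hP.1)
    · rw [← hU.2, ← Solv.card_conj_smul c U]
      exact Subgroup.card_le_of_le hle
  have h1 := card_eq_relIndex_mul (inf_le_left : P ⊓ Subgroup.centralizer {w} ≤ P)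
  have h2 := card_eq_relIndex_mul (inf_le_left : C ≤ D)
  rw [hP.2, hcard, ← hr] at h1
  rw [relIndex_centralizer hse hab hw hwa] at h2
  have h3 : (Nat.card D).factorization p = (numInv H).factorization p + (Nat.card C).factorization p := by
    rw [h2, Nat.factorization_mul (numInv_pos hse).ne' Nat.card_pos.ne']
    rfl
  rw [h3, pow_add] at h1
  exact (Nat.eq_of_mul_eq_mul_right (pow_pos (Fact.out : p.Prime).pos _) h1).symm

/-- A swapper inverts at most `m_p` elements of an invariant `p`-subgroup fixing the pair. -/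
theorem ncard_invSet_le {a b : G ⧸ H} (hab : a ≠ b) {w : G} (hw : orderOf w = 2) (hwa : w • a = b)
    {W : Subgroup G} (hW : IsPGroup p W) (hWD : W ≤ pairStab a b)
    (hwW : w ∈ Subgroup.normalizer (W : Set G)) :
    (invSet w W).ncard ≤ p ^ (numInv H).factorization p := by
  obtain ⟨P, hP, hWP, hwP⟩ := exists_sylow_ge hse hab hw hwa hW hWD hwW
  rw [← card_invSet hse hab hw hwa hP hwP]
  exact Set.ncard_le_ncard (invSet_mono hWP) (Set.toFinite _)

end Cfsg.Agent.Bender
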