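import Cfsg.Agent.Lib.Bender.Types
import Cfsg.Agent.Lib.Lie.SplitRankOne.Final

/-!
# A solvable strongly embedded subgroup: a regular normal subgroup of a point stabiliser

An element fixing two points and centralising the involutions at one has as fixed points the orbit
of its centraliser, on which a `2`-group is transitive off that point.  Fusion in the centraliser of
the involutions is then controlled by a two point stabiliser, and transfer gives a regular subgroup.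
-/

set_option autoImplicit false
set_option linter.style.haveILetI false
set_option linter.unusedSectionVars false

open scoped Pointwise

namespace Cfsg.Agent.SEB

open Cfsg
open Cfsg.Agent.Fusion (SylIn cj focalIn inf_commutator_eq_focalIn_top)
open Cfsg.Agent.Fusion.SEPairs

universe u

variable {G : Type u} [Group G] [Finite G] {H : Subgroup G}

theorem ncard_orbit_sub (A : Subgroup G) (x : G ⧸ H) :
    (MulAction.orbit A x).ncard = (A ⊓ St x).relIndex A := by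
  have h : MulAction.stabilizer A x = (A ⊓ St x).subgroupOf A := by
    ext k
    rw [MulAction.mem_stabilizer_iff, Subgroup.mem_subgroupOf, Subgroup.mem_inf]
    exact ⟨fun h => ⟨k.2, h⟩, fun h => h.2⟩
  rw [Subgroup.relIndex, ← h, MulAction.index_stabilizer]

variable (hse : Cfsg.IsStronglyEmbedded H) (hsol : Group.IsSolvable H) (hm : mbar ↥H ≠ 1)
  (hN : H.normalCore = ⊥) (IH : ∀ M : Subgroup G, M ≠ ⊤ → Claim ↥M)
include hse hsol hm hN IH

/-- The centraliser of an element of a pair centralising the involutions at one of the points. -/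
theorem fix_centralizer {c a : G ⧸ H} (hca : a ≠ c) {y : G} (hy : y ∈ Kc c) (hya : y • a = a)
    (hy1 : y ≠ 1) :
    (∀ e, e ≠ c → y • e = e →
      ∃ s, s • c = c ∧ (∃ j : ℕ, s ^ 2 ^ j = 1) ∧ Commute y s ∧ s • a = e) ∧
      ∃ f : ℕ, {x : G ⧸ H | y • x = x}.ncard = 2 ^ f + 1 := by
  classical
  set M := Subgroup.centralizer ({y} : Set G) with hMdef
  have hmemM : ∀ {g : G}, Commute y g → g ∈ M := fun h =>
    Subgroup.mem_centralizer_singleton_iff.2 h.eq.symm
  have hIc : ∀ s, orderOf s = 2 → s • c = c → s ∈ M := fun s hs hsc =>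
    hmemM ((mem_Kc.1 hy).2 s hs hsc)
  have hMtop : M ≠ ⊤ := fun h => hy1 (eq_one_of_fix hse hN fun w => by
    obtain ⟨g, rfl⟩ := exists_smul_eq' c w
    have hg : g ∈ M := h ▸ Subgroup.mem_top g
    rw [smul_smul, ← Subgroup.mem_centralizer_singleton_iff.1 hg, ← smul_smul, (mem_Kc.1 hy).1])
  have hyc : y • c = c := (mem_Kc.1 hy).1
  obtain ⟨t, ht, htc⟩ := exists_invol hse c
  obtain ⟨t', ht', ht'a⟩ := exists_invol hse a
  have hIa : t' ∈ M := hmemM ((mem_Kc.1 (mem_Kc_of_mem hse hsol hm hN IH hca hy hya)).2 t' ht' ht'a)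
  have hmove : ∃ g ∈ M, g • c ≠ c := ⟨t', hIa, fun h => hca (fixed_unique hse ht' ht'a h)⟩
  have hfix : ∀ e, y • e = e → ∃ g ∈ M, g • c = e := by
    intro e he
    by_cases hec : e = c
    · exact ⟨1, one_mem _, by rw [one_smul, hec]⟩
    obtain ⟨s, hs, hse'⟩ := exists_invol hse e
    have hsM : s ∈ M := hmemM ((mem_Kc.1 (mem_Kc_of_mem hse hsol hm hN IH hec hy he)).2 s hs hse')
    obtain ⟨g, hg, hgt⟩ := conj_in hse ht htc (hIc t ht htc) hmove hs hsM
    exact ⟨g, hg, fixed_unique hse hs (by rw [← hgt, mul_smul, mul_smul, inv_smul_smul, htc]) hse'⟩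
  have hMfix : ∀ g ∈ M, y • g • c = g • c := fun g hg => by
    rw [smul_smul, ← Subgroup.mem_centralizer_singleton_iff.1 hg, ← smul_smul, hyc]
  have horb : MulAction.orbit M c = {x : G ⧸ H | y • x = x} := by
    ext x
    refine ⟨?_, fun hx => ?_⟩
    · rintro ⟨g, rfl⟩
      exact hMfix g g.2
    · obtain ⟨g, hg, hgc⟩ := hfix x hx
      exact ⟨⟨g, hg⟩, hgc⟩
  have hmM := mbar_sub_ne_one hse hm hIc (M := M)
  obtain ⟨⟨f, hf⟩, -⟩ := IH M hMtop _ (se_sub hse ht htc (hIc t ht htc) hmove) (sub_solvable hse hsol c M) hmM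
  refine ⟨?_, f, ?_⟩
  swap
  · rw [← horb, ncard_orbit_sub, Subgroup.inf_relIndex_left]
    exact hf
  obtain ⟨g₁, hg₁, hg₁a⟩ := hfix a hya
  have hg₁c : g₁ • c ≠ c := by rw [hg₁a]; exact hca
  set A := M ⊓ St c with hA
  set B := M ⊓ St2 c a with hB
  have hBA : B ≤ A := inf_le_inf_left _ inf_le_left
  have hrel : B.relIndex A = 2 ^ f := by
    have h := (sub_orbit hse ht htc (hIc t ht htc) hmove hmM hg₁ hg₁ hg₁c hg₁c).2
    rw [hg₁a, hf] at h
    exact Nat.succ_injective h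
  obtain ⟨S₀⟩ : Nonempty (Sylow 2 ↥A) := inferInstance
  set S : Subgroup G := (S₀ : Subgroup ↥A).map A.subtype with hS
  have hSA : S ≤ A := Subgroup.map_subtype_le _
  have hSodd : ¬ 2 ∣ S.relIndex A := by
    rw [Subgroup.relIndex, hS, Subgroup.subgroupOf,
      Subgroup.comap_map_eq_self_of_injective A.subtype_injective]
    exact S₀.not_dvd_index
  have hdvd : 2 ^ f ∣ (B ⊓ S).relIndex S := by
    have h1 := Subgroup.relIndex_mul_relIndex (B ⊓ S) S A inf_le_right hSA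
    have h2 := Subgroup.relIndex_mul_relIndex (B ⊓ S) B A inf_le_left hBA
    refine (Nat.Coprime.pow_left f ((Nat.Prime.coprime_iff_not_dvd Nat.prime_two).2 hSodd)).dvd_of_dvd_mul_right ?_
    rw [h1, ← h2, hrel]
    exact Dvd.intro_left _ rfl
  have hBS : B ⊓ S = S ⊓ St a := by
    ext g
    refine ⟨fun h => ⟨h.2, h.1.2.2⟩, fun h => ⟨⟨(hSA h.1).1, (hSA h.1).2, h.2⟩, h.1⟩⟩
  have hsub : MulAction.orbit S a ⊆ MulAction.orbit A a := by
    rintro _ ⟨s, rfl⟩
    exact ⟨⟨s, hSA s.2⟩, rfl⟩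
  have hAB : A ⊓ St a = B := by
    ext g
    exact ⟨fun h => ⟨h.1.1, h.1.2, h.2⟩, fun h => ⟨⟨h.1, h.2.1⟩, h.2.2⟩⟩
  have heq : MulAction.orbit S a = MulAction.orbit A a := by
    refine Set.eq_of_subset_of_ncard_le hsub ?_ (Set.toFinite _)
    rw [ncard_orbit_sub, ncard_orbit_sub, hAB, hrel, ← hBS]
    refine Nat.le_of_dvd (Nat.pos_of_ne_zero fun h => ?_) hdvd
    exact Subgroup.index_ne_zero_of_finite h
  intro e hec he
  obtain ⟨g₂, hg₂, hg₂c⟩ := hfix e he
  obtain ⟨k, hk, hka⟩ := (sub_orbit hse ht htc (hIc t ht htc) hmove hmM hg₁ hg₂ hg₁c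
    (by rw [hg₂c]; exact hec)).1
  rw [hg₁a, hg₂c] at hka
  obtain ⟨⟨s, hs⟩, hsa⟩ : e ∈ MulAction.orbit S a := heq ▸ ⟨⟨k, hk⟩, hka⟩
  obtain ⟨j, hj⟩ := S₀.isPGroup'.map A.subtype ⟨s, hs⟩
  exact ⟨s, (hSA hs).2, ⟨j, congrArg Subtype.val hj⟩,
    (Subgroup.mem_centralizer_singleton_iff.1 (hSA hs).1).symm, hsa⟩

/-- The two point stabiliser in the centraliser of the involutions has order prime to `n - 1`. -/
theorem coprime_pair {c a : G ⧸ H} (hca : a ≠ c) :
    Nat.Coprime (Nat.card ↥(Kc c ⊓ St a)) ((Kc c ⊓ St a).relIndex (Kc c)) := by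
  classical
  refine Nat.coprime_of_dvd fun r hr hr1 hr2 => ?_
  haveI : Fact r.Prime := ⟨hr⟩
  obtain ⟨⟨y, hy⟩, hyo⟩ := exists_prime_orderOf_dvd_card' (G := ↥(Kc c ⊓ St a)) r hr1
  rw [Subgroup.orderOf_mk] at hyo
  have hr2' : r ≠ 2 := by
    rintro rfl
    exact hca (fixed_unique hse hyo hy.2 (mem_Kc.1 hy.1).1)
  obtain ⟨-, f, hf⟩ := fix_centralizer hse hsol hm hN IH hca hy.1 hy.2 (fun e => by
    rw [e, orderOf_one] at hyo; exact hr.one_lt.ne hyo)
  have hp : IsPGroup r ↥(Subgroup.zpowers y) :=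
    IsPGroup.of_card (n := 1) (by rw [Nat.card_zpowers, hyo, pow_one])
  have hmod := hp.card_modEq_card_fixedPoints (G ⧸ H)
  have hset : MulAction.fixedPoints ↥(Subgroup.zpowers y) (G ⧸ H) = {x | y • x = x} := by
    ext x
    rw [MulAction.mem_fixedPoints]
    refine ⟨fun h => h ⟨y, Subgroup.mem_zpowers y⟩, fun h g => ?_⟩
    have : Subgroup.zpowers y ≤ St x := Subgroup.zpowers_le.2 h
    exact this g.2
  rw [hset, Nat.card_coe_set_eq, hf, ← Subgroup.index_eq_card] at hmod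
  have horb : (Kc c ⊓ St a).relIndex (Kc c) + 1 = H.index := by
    rw [← ncard_orbit_sub, show MulAction.orbit (Kc c) a = {x | x ≠ c} from ?_, Subgroup.index_eq_card,
      ← Set.ncard_univ, show {x : G ⧸ H | x ≠ c} = Set.univ \ {c} by ext; simp]
    · exact Set.ncard_sdiff_singleton_add_one (Set.mem_univ c) (Set.toFinite _)
    ext x
    refine ⟨?_, fun hx => ?_⟩
    · rintro ⟨k, rfl⟩ e
      exact hca (smul_left_cancel (k : G) ((e : (k : G) • a = c).trans (Kc_le c k.2).symm))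
    · obtain ⟨k, hk, hkx⟩ := Kc_transitive hse hsol hm hN IH hca hx
      exact ⟨⟨k, hk⟩, hkx⟩
  rw [← horb] at hmod
  have h0 : 2 ^ f ≡ 0 [MOD r] :=
    (Nat.ModEq.add_right_cancel' 1 hmod).symm.trans (Nat.modEq_zero_iff_dvd.2 hr2)
  exact hr2' ((Nat.prime_dvd_prime_iff_eq hr Nat.prime_two).1 (hr.dvd_of_dvd_pow (Nat.modEq_zero_iff_dvd.1 h0)))

/-- A normal subgroup of a point stabiliser in the centraliser of its involutions, transitive on the
other points, contains a regular one. -/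
theorem exists_regular_le {c a : G ⧸ H} (hca : a ≠ c) (K1 : Subgroup G) (hK1 : K1 ≤ Kc c)
    (hn : St c ≤ Subgroup.normalizer (K1 : Set G)) (htr : ∀ e, e ≠ c → ∃ k ∈ K1, k • a = e) :
    ∃ Q : Subgroup G, Q ≤ St c ∧ St c ≤ Subgroup.normalizer (Q : Set G) ∧
      (∀ e, e ≠ c → ∃ q ∈ Q, q • a = e) ∧ ∀ q ∈ Q, q • a = a → q = 1 := by
  classical
  induction hcard : Nat.card K1 using Nat.strong_induction_on generalizing K1 with
  | _ n ihn => ?_
  subst hcard
  set X := K1 ⊓ St a with hX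
  by_cases hX1 : X = ⊥
  · exact ⟨K1, hK1.trans (Kc_le c), hn, htr, fun q hq hqa => by
      have : q ∈ X := ⟨hq, hqa⟩
      rwa [hX1, Subgroup.mem_bot] at this⟩
  have hXK : X ≤ Kc c ⊓ St a := inf_le_inf_right _ hK1
  -- the index of `K1` in the centraliser is that of `X` in the pair
  have horb : ∀ A : Subgroup G, A ≤ Kc c → (∀ e, e ≠ c → ∃ k ∈ A, k • a = e) →
      (A ⊓ St a).relIndex A = {x : G ⧸ H | x ≠ c}.ncard := by
    intro A hA htrA
    rw [← ncard_orbit_sub]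
    congr 1
    ext x
    refine ⟨?_, fun hx => ?_⟩
    · rintro ⟨k, rfl⟩ e
      exact hca (smul_left_cancel (k : G) ((e : (k : G) • a = c).trans (Kc_le c (hA k.2)).symm))
    · obtain ⟨k, hk, hkx⟩ := htrA x hx
      exact ⟨⟨k, hk⟩, hkx⟩
  have hXrel : X.relIndex K1 = (Kc c ⊓ St a).relIndex (Kc c) :=
    (horb K1 hK1 htr).trans (horb _ le_rfl fun e he => Kc_transitive hse hsol hm hN IH hca he).symm
  have hXodd : Odd (Nat.card ↥(Kc c ⊓ St a)) :=
    (St2_odd hse (Ne.symm hca)).of_dvd_nat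
      (Subgroup.card_dvd_of_le (inf_le_inf_right _ (Kc_le c)))
  have hK1two : ∀ s, s • c = c → (∃ j : ℕ, s ^ 2 ^ j = 1) → s ∈ K1 := by
    rintro s hsc ⟨j, hj⟩
    have hsK := two_mem_Kc hse hsol hm hN IH hsc hj
    haveI hK1n : (K1.subgroupOf (Kc c)).Normal :=
      Subgroup.normal_subgroupOf_of_le_normalizer ((Kc_le c).trans hn)
    have hodd : Odd (K1.relIndex (Kc c)) := by
      refine hXodd.of_dvd_nat ?_
      have h1 := Subgroup.relIndex_mul_relIndex X K1 (Kc c) inf_le_left hK1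
      have h2 := Subgroup.relIndex_mul_relIndex X (Kc c ⊓ St a) (Kc c) hXK inf_le_left
      rw [hXrel, mul_comm] at h1
      rw [← h1] at h2
      have hpos : 0 < (Kc c ⊓ St a).relIndex (Kc c) := Nat.pos_of_ne_zero Subgroup.index_ne_zero_of_finite
      exact (Nat.eq_of_mul_eq_mul_right hpos h2) ▸ Subgroup.relIndex_dvd_card _ _
    have h3 := (Nat.coprime_pow_left_iff (Nat.succ_pos j) 2 _).1
      (Nat.Coprime.pow_left (j + 1) (Nat.coprime_two_left.2 hodd))
    have h4 : orderOf (QuotientGroup.mk ⟨s, hsK⟩ : ↥(Kc c) ⧸ K1.subgroupOf (Kc c)) ∣ 2 ^ j :=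
      orderOf_dvd_of_pow_eq_one (by
        rw [← QuotientGroup.mk_pow, show (⟨s, hsK⟩ : Kc c) ^ 2 ^ j = 1 from Subtype.ext hj,
          QuotientGroup.mk_one])
    have h5 : orderOf (QuotientGroup.mk ⟨s, hsK⟩ : ↥(Kc c) ⧸ K1.subgroupOf (Kc c)) ∣ K1.relIndex (Kc c) := by
      rw [Subgroup.relIndex, Subgroup.index_eq_card]; exact orderOf_dvd_natCard _
    have h6 := Nat.dvd_gcd h4 h5
    rw [Nat.Coprime.pow_left j h3, Nat.dvd_one, orderOf_eq_one_iff, QuotientGroup.eq_one_iff] at h6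
    exact h6
  -- fusion
  have hfus : ∀ x ∈ X, ∀ k ∈ K1, k * x * k⁻¹ ∈ X → x ≠ 1 →
      ∃ k' ∈ X, k' * x * k'⁻¹ = k * x * k⁻¹ := by
    intro x hx k hk hkx hx1
    have hkc : k • c = c := Kc_le c (hK1 hk)
    have he : k⁻¹ • a ≠ c := fun h => hca (by rw [inv_smul_eq_iff, hkc] at h; exact h)
    have hxe : x • k⁻¹ • a = k⁻¹ • a := by
      have h : (k * x * k⁻¹) • a = a := hkx.2
      rw [mul_smul, mul_smul] at h
      exact eq_inv_smul_iff.2 h
    obtain ⟨s, hsc, hs2, hcom, hsa⟩ :=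
      (fix_centralizer hse hsol hm hN IH hca (hK1 hx.1) hx.2 hx1).1 _ he hxe
    refine ⟨k * s, ⟨mul_mem hk (hK1two s hsc hs2), ?_⟩, ?_⟩
    · show (k * s) • a = a
      rw [mul_smul, hsa, smul_inv_smul]
    · calc k * s * x * (k * s)⁻¹ = k * (s * x) * s⁻¹ * k⁻¹ := by group
        _ = k * (x * s) * s⁻¹ * k⁻¹ := by rw [hcom.eq]
        _ = _ := by group
  -- a prime quotient of `X`
  haveI : Group.IsSolvable ↥X := by
    haveI := St_solvable hsol c
    exact Group.isSolvable_of_isSolvable_injective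
      (Subgroup.inclusion_injective ((hXK.trans inf_le_left).trans (Kc_le c)))
  haveI : Nontrivial ↥X := (Subgroup.nontrivial_iff_ne_bot X).2 hX1
  obtain ⟨N, hN', hle⟩ := (IsCoatomic.eq_top_or_exists_le_coatom (commutator ↥X)).resolve_left
    (Group.IsSolvable.commutator_lt_top_of_nontrivial ↥X).ne
  haveI hNn : N.Normal := ⟨fun x hx g => by
    have h := hle (Subgroup.commutator_mem_commutator (Subgroup.mem_top g) (Subgroup.mem_top x))
    rw [commutatorElement_def] at h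
    simpa using mul_mem h hx⟩
  have hrp : N.index.Prime := Bender.NormalSylow.prime_index_of_coatom N hN' inferInstance
  set r := N.index with hr
  haveI : Fact r.Prime := ⟨hrp⟩
  have hrX : r ∣ Nat.card ↥(Kc c ⊓ St a) :=
    (Subgroup.index_dvd_card N).trans (Subgroup.card_dvd_of_le hXK)
  have hrn : ¬ r ∣ X.relIndex K1 := fun h => by
    rw [hXrel] at h
    exact hrp.one_lt.ne' (Nat.dvd_one.1 ((coprime_pair hse hsol hm hN IH hca) ▸ Nat.dvd_gcd hrX h))
  -- a Sylow subgroup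
  obtain ⟨R₀⟩ : Nonempty (Sylow r ↥X) := inferInstance
  set ι := Subgroup.inclusion (inf_le_left : X ≤ K1) with hι
  set R : Subgroup ↥K1 := (R₀ : Subgroup ↥X).map ι with hR
  have hRsyl : SylIn r R ⊤ := by
    refine ⟨le_top, R₀.isPGroup'.map _, ?_⟩
    rw [Subgroup.relIndex_top_right, hR, Subgroup.index_map_of_injective _ (Subgroup.inclusion_injective _),
      Subgroup.inclusion_range]
    exact fun h => ((Fact.out : r.Prime).dvd_mul.1 h).elim R₀.not_dvd_index hrn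
  have hfoc : focalIn R ⊤ ≤ N.map ι := by
    refine (Subgroup.closure_le _).2 ?_
    rintro _ ⟨_, ⟨x, hx, rfl⟩, g, -, ⟨x', hx', e⟩, rfl⟩
    refine ⟨x⁻¹ * x', ?_, by rw [map_mul, map_inv, e]⟩
    have e' : (x' : G) = (g : G) * x * (g : G)⁻¹ := congrArg Subtype.val e
    by_cases hx1 : x = 1
    · have : x' = 1 := Subtype.ext (by rw [e', hx1, OneMemClass.coe_one, mul_one, mul_inv_cancel])
      rw [hx1, this, inv_one, one_mul]
      exact N.one_mem
    obtain ⟨k', hk', hk'e⟩ := hfus x x.2 g g.2 (e' ▸ x'.2) fun h => hx1 (Subtype.ext h)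
    refine hle ?_
    have hx'e : x' = ⟨k', hk'⟩ * x * (⟨k', hk'⟩ : X)⁻¹ := Subtype.ext (by rw [e', ← hk'e]; rfl)
    rw [hx'e]
    have h := Subgroup.commutator_mem_commutator (Subgroup.mem_top x⁻¹)
      (Subgroup.mem_top (⟨k', hk'⟩ : X))
    rwa [commutatorElement_def, inv_inv, ← commutator_def,
      show x⁻¹ * ⟨k', hk'⟩ * x * (⟨k', hk'⟩ : X)⁻¹ = x⁻¹ * (⟨k', hk'⟩ * x * (⟨k', hk'⟩ : X)⁻¹) by group] at h
  have hnot : ¬ R ≤ commutator ↥K1 := fun hc => by
    refine R₀.not_dvd_index ((dvd_of_eq hr).trans (Subgroup.index_dvd_of_le fun x hx => ?_))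
    have h1 : ι x ∈ focalIn R ⊤ := by
      rw [← inf_commutator_eq_focalIn_top hRsyl]
      exact ⟨⟨x, hx, rfl⟩, hc ⟨x, hx, rfl⟩⟩
    obtain ⟨n', hn', e⟩ := hfoc h1
    exact Subgroup.inclusion_injective (inf_le_left : X ≤ K1) e ▸ hn'
  obtain ⟨N₁, hN₁, hN₁i⟩ := Fusion.exists_normal_index_prime hRsyl hnot
  haveI := hN₁
  -- the subgroup generated by the elements of order prime to `r`
  set K2 := Subgroup.closure {g : G | g ∈ K1 ∧ ¬ r ∣ orderOf g} with hK2
  have hK21 : K2 ≤ K1 := (Subgroup.closure_le _).2 fun g hg => hg.1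
  have hlt : Nat.card K2 < Nat.card K1 := by
    refine (Subgroup.card_le_of_le hK21).lt_of_ne fun h => ?_
    have hle2 : K2 ≤ N₁.map K1.subtype := by
      refine (Subgroup.closure_le _).2 fun g hg => ⟨⟨g, hg.1⟩, ?_, rfl⟩
      show (⟨g, hg.1⟩ : K1) ∈ N₁
      rw [← QuotientGroup.eq_one_iff, ← orderOf_eq_one_iff]
      have h1 : orderOf (QuotientGroup.mk ⟨g, hg.1⟩ : ↥K1 ⧸ N₁) ∣ orderOf g :=
        (orderOf_map_dvd (QuotientGroup.mk' N₁) _).trans (dvd_of_eq (Subgroup.orderOf_mk g hg.1))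
      have h2 : orderOf (QuotientGroup.mk ⟨g, hg.1⟩ : ↥K1 ⧸ N₁) ∣ r := by
        exact (orderOf_dvd_natCard _).trans (dvd_of_eq ((Subgroup.index_eq_card N₁).symm.trans hN₁i))
      exact (Nat.dvd_prime hrp).1 h2 |>.resolve_right fun h3 => hg.2 (h3 ▸ h1)
    rw [Subgroup.eq_of_le_of_card_ge hK21 h.ge] at hle2
    have : N₁ = ⊤ := top_le_iff.1 fun g _ => by
      obtain ⟨g', hg', e⟩ := hle2 g.2
      rwa [← Subtype.ext e]
    rw [this, Subgroup.index_top] at hN₁i
    exact hrp.one_lt.ne hN₁i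
  refine ihn _ hlt K2 (hK21.trans hK1) ?_ ?_ rfl
  · intro k hk
    refine Fusion.mem_normalizer_of_cj_le ?_
    rw [hK2, Fusion.cj, MonoidHom.map_closure, Subgroup.closure_le]
    rintro _ ⟨g, ⟨hg1, hgo⟩, rfl⟩
    refine Subgroup.subset_closure ⟨Solv.conj_mem_of_mem_normalizer (hn hk) hg1, ?_⟩
    rwa [orderOf_injective _ (MulAut.conj k).injective]
  · have hdvd : X.relIndex K1 ∣ Nat.card K2 := by
      refine (Nat.dvd_iff_prime_pow_dvd_dvd _ _).2 fun q j hq hqj => ?_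
      rcases Nat.eq_zero_or_pos j with rfl | hj
      · simp
      haveI : Fact q.Prime := ⟨hq⟩
      have hqr : q ≠ r := fun e => hrn (e ▸ (dvd_pow_self q hj.ne').trans hqj)
      obtain ⟨P⟩ : Nonempty (Sylow q ↥K1) := inferInstance
      refine ((P.pow_dvd_card_of_pow_dvd_card (hqj.trans (Subgroup.relIndex_dvd_card _ _))).trans
        (dvd_of_eq (Subgroup.card_map_of_injective K1.subtype_injective).symm)).trans
        (Subgroup.card_dvd_of_le ?_)
      rintro _ ⟨g, hg, rfl⟩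
      refine Subgroup.subset_closure ⟨g.2, fun hd => hqr ?_⟩
      obtain ⟨i, hi⟩ := P.isPGroup' ⟨g, hg⟩
      have h1 : orderOf (K1.subtype g) ∣ q ^ i := orderOf_dvd_of_pow_eq_one (by
        rw [← map_pow, show g ^ q ^ i = 1 from congrArg Subtype.val hi, map_one])
      exact ((Nat.prime_dvd_prime_iff_eq hrp hq).1 (hrp.dvd_of_dvd_pow (hd.trans h1))).symm
    have hle' : X.relIndex K1 ≤ (K2 ⊓ St a).relIndex K2 := by
      refine Nat.le_of_dvd (Nat.pos_of_ne_zero Subgroup.index_ne_zero_of_finite) ?_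
      have hmul : (K2 ⊓ St a).relIndex K2 * Nat.card ↥(K2 ⊓ St a) = Nat.card K2 := by
        rw [mul_comm, ← Nat.card_congr
          (Subgroup.subgroupOfEquivOfLe (inf_le_left : K2 ⊓ St a ≤ K2)).toEquiv]
        exact ((K2 ⊓ St a).subgroupOf K2).card_mul_index
      refine (Nat.Coprime.coprime_dvd_right (Subgroup.card_dvd_of_le
        (inf_le_inf_right _ (hK21.trans hK1))) ?_).dvd_of_dvd_mul_right (hmul.symm ▸ hdvd)
      rw [hXrel]
      exact (coprime_pair hse hsol hm hN IH hca).symm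
    intro e he
    have hsub : MulAction.orbit K2 a ⊆ {x | x ≠ c} := by
      rintro _ ⟨k, rfl⟩ h
      exact hca (smul_left_cancel (k : G)
        ((h : (k : G) • a = c).trans (Kc_le c (hK1 (hK21 k.2))).symm))
    rw [horb K1 hK1 htr, ← ncard_orbit_sub] at hle'
    obtain ⟨⟨k, hk⟩, hke⟩ : e ∈ MulAction.orbit K2 a :=
      (Set.eq_of_subset_of_ncard_le hsub hle' (Set.toFinite _)).symm ▸ he
    exact ⟨k, hk, hke⟩

/-- A rank one set-up of two-rank at least two on the points. -/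
theorem exists_ctx {c a : G ⧸ H} (hca : a ≠ c) :
    ∃ (t : G) (Q : Subgroup G), Lie.R1C.Ctx G (G ⧸ H) c t Q := by
  obtain ⟨Q, hQc, hQn, hQtr, hQreg⟩ := exists_regular_le hse hsol hm hN IH hca (Kc c) le_rfl
    (St_le_normalizer_Kc c) fun e he => Kc_transitive hse hsol hm hN IH hca he
  obtain ⟨t, ht, htc⟩ := exists_swapper hse hca.symm
  haveI : MulAction.IsPretransitive G (G ⧸ H) := inferInstance
  refine ⟨t, Q, Lie.R1C.setup_of_regular (sq_one ht) (ne_one_of_invol ht) (by rw [htc]; exact hca) hQc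
    (fun h hh x hx => Solv.conj_mem_of_mem_normalizer (hQn hh) hx) (by rw [htc]; exact hQtr)
    (by rw [htc]; exact hQreg) ?_ ?_, ?_⟩
  · show Odd (Nat.card ↥(MulAction.stabilizer G c ⊓ MulAction.stabilizer G (t • c)))
    rw [htc]
    exact St2_odd hse (Ne.symm hca)
  · obtain ⟨s, hs, hsc⟩ := exists_invol hse c
    refine even_iff_two_dvd.2 (hs ▸ ?_)
    exact (dvd_of_eq (Subgroup.orderOf_mk s hsc).symm).trans (orderOf_dvd_natCard (⟨s, hsc⟩ : St c))
  · obtain ⟨s, hs, hsc⟩ := exists_invol hse c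
    obtain ⟨s', hs', hs'c, hne⟩ : ∃ s' : G, orderOf s' = 2 ∧ s' • c = c ∧ s' ≠ s := by
      by_contra h
      push Not at h
      refine hm ?_
      rw [← mbar_St_base hse c]
      refine Nat.card_eq_one_iff_unique.2 ⟨⟨?_⟩, ?_⟩
      · rintro ⟨_, ⟨⟨p, hp⟩, rfl⟩⟩ ⟨_, ⟨⟨q, hq⟩, rfl⟩⟩
        have e : p = q := Subtype.ext ((h _ (by rwa [Subgroup.orderOf_coe]) p.2).trans
          (h _ (by rwa [Subgroup.orderOf_coe]) q.2).symm)
        subst e
        rfl
      · exact ⟨⟨_, ⟨⟨⟨s, hsc⟩, (Subgroup.orderOf_mk s hsc).trans hs⟩, rfl⟩⟩⟩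
    exact ⟨s, s', ne_one_of_invol hs, ne_one_of_invol hs', Ne.symm hne, sq_one hs, sq_one hs',
      commute_invol hse hsol hm hN IH hs hs' hsc hs'c⟩

/-- **The regular normal subgroup.** -/
theorem faithful_index : ∃ f : ℕ, H.index = 2 ^ f + 1 := by
  obtain ⟨a, hca⟩ := exists_ne hse (QuotientGroup.mk 1 : G ⧸ H)
  obtain ⟨t, Q, hc⟩ := exists_ctx hse hsol hm hN IH hca
  have h2 := Lie.R1C.allTwo (Nat.card G + 1) _ _ _ _ _ (Nat.lt_succ_self _) hc
  obtain ⟨f, hf⟩ := IsPGroup.iff_card.1 h2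
  exact ⟨f, by rw [Subgroup.index_eq_card, Lie.R1.card_Ω hc.hS, hf]⟩

end Cfsg.Agent.SEB
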