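import Mathlib
import Cfsg.Agent.S3360

/-!
# Maximal subgroups of transitive solvable linear groups over two elements

A maximal subgroup which is still transitive on the non-zero vectors is normal.
-/

set_option autoImplicit false
set_option linter.style.haveILetI false

namespace Cfsg.Agent.Bender.Step

universe u v

/-- Maximal subgroup meeting all cosets of an abelian subgroup whose commutator sets are closed. -/
theorem normal_of_comm_closed {E : Type u} [Group E] [Finite E] (M R : Subgroup E) (hM : IsCoatom M)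
    (hMR : ∀ g : E, ∃ m ∈ M, ∃ r ∈ R, g = m * r) (hR : ∀ a ∈ R, ∀ b ∈ R, Commute a b)
    (hmul : ∀ r ∈ R, ∀ g g' : E, ∃ g'' : E,
      g * r * g⁻¹ * r⁻¹ * (g' * r * g'⁻¹ * r⁻¹) = g'' * r * g''⁻¹ * r⁻¹) : M.Normal := by
  obtain ⟨r, hr, hrM⟩ : ∃ r ∈ R, r ∉ M := by
    by_contra h
    push Not at h
    refine hM.1 (eq_top_iff.2 fun g _ => ?_)
    obtain ⟨m, hm, r, hr, rfl⟩ := hMR g
    exact mul_mem hm (h r hr)
  have hpow : ∀ (n : ℕ) (g : E), ∃ g' : E, (g * r * g⁻¹ * r⁻¹) ^ n = g' * r * g'⁻¹ * r⁻¹ := by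
    intro n
    induction n with
    | zero => exact fun g => ⟨1, by group⟩
    | succ n ih =>
      intro g
      obtain ⟨g', hg'⟩ := ih g
      obtain ⟨g'', hg''⟩ := hmul r hr g' g
      exact ⟨g'', by rw [pow_succ, hg', hg'']⟩
  let P : Subgroup E :=
    { carrier := {x | ∃ g : E, x = g * r * g⁻¹ * r⁻¹}
      one_mem' := ⟨1, by group⟩
      mul_mem' := by
        rintro _ _ ⟨g, rfl⟩ ⟨g', rfl⟩
        exact hmul r hr g g'
      inv_mem' := by
        rintro x ⟨g, rfl⟩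
        obtain ⟨g', hg'⟩ := hpow (orderOf (g * r * g⁻¹ * r⁻¹) - 1) g
        refine ⟨g', ?_⟩
        rw [← hg']
        exact inv_eq_of_mul_eq_one_left
          (by rw [← pow_succ, Nat.sub_add_cancel (orderOf_pos _), pow_orderOf_eq_one]) }
  haveI hPn : P.Normal := ⟨by
    rintro _ ⟨g, rfl⟩ h
    have e : h * (g * r * g⁻¹ * r⁻¹) * h⁻¹ =
        (h * g) * r * (h * g)⁻¹ * r⁻¹ * (h * r * h⁻¹ * r⁻¹)⁻¹ := by group
    rw [e]
    exact mul_mem ⟨h * g, rfl⟩ (inv_mem ⟨h, rfl⟩)⟩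
  have hmem : ∀ x ∈ P, ∃ m ∈ M, x = m * r * m⁻¹ * r⁻¹ := by
    rintro _ ⟨g, rfl⟩
    obtain ⟨m, hm, r', hr', rfl⟩ := hMR g
    refine ⟨m, hm, ?_⟩
    rw [mul_inv_rev, show m * r' * r * (r'⁻¹ * m⁻¹) = m * (r' * r * r'⁻¹) * m⁻¹ by group,
      (hR r' hr' r hr).eq, mul_inv_cancel_right]
  by_cases hPM : P ≤ M
  · have hn : ∀ m ∈ M, r * m * r⁻¹ ∈ M := by
      intro m hm
      have h := mul_mem hm (hPM ⟨m⁻¹, rfl⟩)
      rwa [show m * (m⁻¹ * r * m⁻¹⁻¹ * r⁻¹) = r * m * r⁻¹ by group] at h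
    have hfin : r ∈ Subgroup.normalizer (M : Set E) := by
      refine Subgroup.mem_normalizer_iff.2 fun m => ⟨hn m, fun h => ?_⟩
      have key : ∀ k : ℕ, ∀ m ∈ M, r ^ k * m * (r ^ k)⁻¹ ∈ M := by
        intro k
        induction k with
        | zero => intro m hm; simpa using hm
        | succ k ih =>
          intro m hm
          have := hn _ (ih m hm)
          rwa [show r * (r ^ k * m * (r ^ k)⁻¹) * r⁻¹ = r ^ (k + 1) * m * (r ^ (k + 1))⁻¹ by
            rw [pow_succ']; group] at this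
      have := key (orderOf r - 1) _ h
      have e : r ^ (orderOf r - 1) = r⁻¹ :=
        eq_inv_of_mul_eq_one_left (by rw [← pow_succ, Nat.sub_add_cancel (orderOf_pos r), pow_orderOf_eq_one])
      rw [e] at this
      rwa [show r⁻¹ * (r * m * r⁻¹) * r⁻¹⁻¹ = m by group] at this
    rcases hM.le_iff.1 (Subgroup.le_normalizer (H := M)) with h | h
    · exact Subgroup.normalizer_eq_top_iff.1 h
    · exact absurd (h ▸ hfin) hrM
  · exfalso
    have htop : P ⊔ M = ⊤ := hM.2 _ (lt_of_le_of_ne le_sup_right fun e => hPM (e ▸ le_sup_left))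
    obtain ⟨π, hπ, μ, hμ, e⟩ := Subgroup.mem_sup_of_normal_left.1 (htop ▸ Subgroup.mem_top r)
    obtain ⟨m, hm, em⟩ := hmem π⁻¹ (inv_mem hπ)
    have : m * r * m⁻¹ = μ := by
      rw [show m * r * m⁻¹ = m * r * m⁻¹ * r⁻¹ * r by group, ← em]
      exact (inv_mul_eq_iff_eq_mul).2 e.symm
    refine hrM ?_
    have := mul_mem (mul_mem (inv_mem hm) (this.symm ▸ hμ : m * r * m⁻¹ ∈ M)) hm
    rwa [show m⁻¹ * (m * r * m⁻¹) * m = r by group] at this

/-- The automorphisms of a finite field commute. -/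
theorem ringEquiv_comm {F : Type u} [Field F] [Finite F] (σ τ : F ≃+* F) (x : F) : σ (τ x) = τ (σ x) := by
  rcases eq_or_ne x 0 with rfl | hx
  · simp
  obtain ⟨w, hw⟩ := IsCyclic.exists_generator (α := Fˣ)
  have hgen : ∀ z : F, z ≠ 0 → ∃ i : ℕ, z = (w : F) ^ i := by
    intro z hz
    obtain ⟨i, hi⟩ := mem_powers_iff_mem_zpowers.2 (hw (Units.mk0 z hz))
    exact ⟨i, by simpa using (congrArg Units.val hi).symm⟩
  obtain ⟨i, hi⟩ := hgen (σ w) (by simp)
  obtain ⟨j, hj⟩ := hgen (τ w) (by simp)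
  obtain ⟨k, rfl⟩ := hgen x hx
  simp only [map_pow, hi, hj, ← pow_mul]
  rw [Nat.mul_left_comm i j k]

/-- **A maximal subgroup transitive on the non-zero vectors is normal.** -/
theorem normal_of_transitive {V : Type v} [AddCommGroup V] [Module (ZMod 2) V] [Finite V]
    {H : Type u} [Group H] [Finite H] (hsol : Group.IsSolvable H) (ρ : H →* (V ≃ₗ[ZMod 2] V))
    (M : Subgroup H) (hM : IsCoatom M) (hker : ρ.ker ≤ M) (v₀ : V) (hv₀ : v₀ ≠ 0)
    (htr : ∀ w : V, w ≠ 0 → ∃ m ∈ M, ρ m v₀ = w) : M.Normal := by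
  classical
  haveI : Fact (Nat.Prime 2) := ⟨Nat.prime_two⟩
  haveI := hsol
  haveI : Nontrivial V := ⟨⟨v₀, 0, hv₀⟩⟩
  haveI : Group.IsSolvable ρ.range := Group.isSolvable_of_surjective ρ.rangeRestrict_surjective
  have htrH : ∀ x y : V, x ≠ 0 → y ≠ 0 → ∃ h : H, ρ h x = y := by
    intro x y hx hy
    obtain ⟨a, -, rfl⟩ := htr x hx
    obtain ⟨b, -, rfl⟩ := htr y hy
    refine ⟨b * a⁻¹, ?_⟩
    rw [map_mul, map_inv]
    exact congrArg (ρ b) ((ρ a).symm_apply_apply v₀)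
  haveI : Finite ρ.range := Finite.of_surjective _ ρ.rangeRestrict_surjective
  rcases S3360.result 2 (inferInstance : Group.IsSolvable ρ.range) ρ.range.subtype ρ.range.subtype_injective
    (fun x y hx hy => by
      obtain ⟨h, hh⟩ := htrH x y hx hy
      exact ⟨⟨ρ h, h, rfl⟩, hh⟩) with ⟨F, iF, iFF, e, he⟩ | hcard
  swap
  · exfalso
    haveI := Fintype.ofFinite V
    have hpow := Module.card_eq_pow_finrank (K := ZMod 2) (V := V)
    rw [Nat.card_eq_fintype_card, hpow, ZMod.card] at hcard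
    have hev : ∀ n : ℕ, 2 ^ n ∈ ({9, 25, 49, 121, 529, 81} : Set ℕ) → False := by
      intro n hn
      rcases Nat.eq_zero_or_pos n with rfl | hn0
      · simp at hn
      · have : (2 : ℕ) ∣ 2 ^ n := dvd_pow_self 2 hn0.ne'
        simp only [Set.mem_insert_iff, Set.mem_singleton_iff] at hn
        rcases hn with h | h | h | h | h | h <;> rw [h] at this <;> omega
    exact hev _ hcard
  have hc : e v₀ ≠ 0 := fun h => hv₀ (e.map_eq_zero_iff.1 h)
  set X : V → F := fun x => e x / e v₀ with hX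
  have hXinj : Function.Injective X := fun x y h => e.injective (by
    simpa [hX, div_eq_mul_inv, hc] using h)
  have hX0 : X v₀ = 1 := div_self hc
  have hsem : ∀ h : H, ∃ σ : F ≃+* F, ∀ x, X (ρ h x) = X (ρ h v₀) * σ (X x) := by
    intro h
    obtain ⟨a, σ, ha⟩ := he ⟨ρ h, h, rfl⟩
    refine ⟨σ, fun x => ?_⟩
    have h1 : e (ρ h x) = a * σ (e x) := ha x
    have h2 : e (ρ h v₀) = a * σ (e v₀) := ha v₀
    have hσc : σ (e v₀) ≠ 0 := by simpa using hc
    simp only [hX]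
    rw [h1, h2, map_div₀]
    field_simp
  choose σ hσ using hsem
  set R : Subgroup H :=
    { carrier := {h | ρ h v₀ = v₀}
      one_mem' := by simp
      mul_mem' := fun {a b} (ha : ρ a v₀ = v₀) (hb : ρ b v₀ = v₀) => by
        show ρ (a * b) v₀ = v₀
        rw [map_mul]
        exact (congrArg (ρ a) hb).trans ha
      inv_mem' := fun {a} (ha : ρ a v₀ = v₀) => by
        show ρ a⁻¹ v₀ = v₀
        rw [map_inv]
        exact (congrArg (ρ a).symm ha.symm).trans ((ρ a).symm_apply_apply v₀) } with hR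
  have hpure : ∀ r ∈ R, ∀ x, X (ρ r x) = σ r (X x) := by
    intro r hr x
    rw [hσ r x, show ρ r v₀ = v₀ from hr, hX0, one_mul]
  -- the commutator with an element of `R` is a scalar
  have hscal : ∀ r ∈ R, ∀ g x, X (ρ (g * r * g⁻¹ * r⁻¹) x) =
      X (ρ g v₀) * (σ r (X (ρ g v₀)))⁻¹ * X x := by
    intro r hr g x
    obtain ⟨y, rfl⟩ : ∃ y, x = ρ r y := ⟨(ρ r).symm x, ((ρ r).apply_symm_apply x).symm⟩
    obtain ⟨z, rfl⟩ : ∃ z, y = ρ g z := ⟨(ρ g).symm y, ((ρ g).apply_symm_apply y).symm⟩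
    have e1 : ρ (g * r * g⁻¹ * r⁻¹) (ρ r (ρ g z)) = ρ g (ρ r z) := by
      rw [← LinearEquiv.mul_apply, ← LinearEquiv.mul_apply, ← LinearEquiv.mul_apply, ← map_mul, ← map_mul,
        ← map_mul]
      congr 2
      group
    rw [e1, hσ g (ρ r z), hpure r hr z, hpure r hr (ρ g z), hσ g z, map_mul, ringEquiv_comm (σ g) (σ r)]
    have hne : σ r (X (ρ g v₀)) ≠ 0 := by
      simp only [ne_eq, map_eq_zero, hX, div_eq_zero_iff, hc, or_false]
      exact fun h => hv₀ ((ρ g).map_eq_zero_iff.1 (e.map_eq_zero_iff.1 h))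
    field_simp
  set π := ρ.rangeRestrict with hπ
  have hπs : Function.Surjective π := ρ.rangeRestrict_surjective
  have hext : ∀ a b : H, (∀ x, X (ρ a x) = X (ρ b x)) → π a = π b := fun a b h =>
    Subtype.ext (LinearEquiv.ext fun x => hXinj (h x))
  have hkerπ : π.ker = ρ.ker := MonoidHom.ker_rangeRestrict ρ
  have hcm : (M.map π).comap π = M := by
    rw [Subgroup.comap_map_eq, sup_eq_left, hkerπ]; exact hker
  have hMn : (M.map π).Normal := by
    refine normal_of_comm_closed (M.map π) (R.map π) ⟨fun h => hM.1 ?_, fun K hK => ?_⟩ ?_ ?_ ?_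
    · rw [← hcm, h, Subgroup.comap_top]
    · have := hM.2 (K.comap π) (lt_of_le_of_ne (hcm ▸ Subgroup.comap_mono hK.le) fun h => hK.ne (by
        rw [h, Subgroup.map_comap_eq_self_of_surjective hπs]))
      rw [← Subgroup.map_comap_eq_self_of_surjective hπs K, this, Subgroup.map_top_of_surjective π hπs]
    · intro g
      obtain ⟨h, rfl⟩ := hπs g
      obtain ⟨m, hm, hmv⟩ := htr (ρ h v₀) (fun h0 => hv₀ ((ρ h).map_eq_zero_iff.1 h0))
      refine ⟨π m, ⟨m, hm, rfl⟩, π (m⁻¹ * h), ⟨m⁻¹ * h, ?_, rfl⟩, by rw [← map_mul, mul_inv_cancel_left]⟩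
      show ρ (m⁻¹ * h) v₀ = v₀
      rw [map_mul, map_inv]
      exact (congrArg (ρ m).symm hmv.symm).trans ((ρ m).symm_apply_apply v₀)
    · rintro _ ⟨a, ha, rfl⟩ _ ⟨b, hb, rfl⟩
      show π a * π b = π b * π a
      rw [← map_mul, ← map_mul]
      refine hext _ _ fun x => ?_
      simp only [map_mul, LinearEquiv.mul_apply]
      rw [hpure a ha, hpure b hb, hpure b hb, hpure a ha, ringEquiv_comm]
    · rintro _ ⟨r, hr, rfl⟩ g g'
      obtain ⟨a, rfl⟩ := hπs g
      obtain ⟨b, rfl⟩ := hπs g'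
      have hne : ∀ h : H, X (ρ h v₀) ≠ 0 := fun h h0 => by
        simp only [hX, div_eq_zero_iff, hc, or_false] at h0
        exact hv₀ ((ρ h).map_eq_zero_iff.1 (e.map_eq_zero_iff.1 h0))
      obtain ⟨w, hw⟩ : ∃ w : V, X w = X (ρ a v₀) * X (ρ b v₀) :=
        ⟨e.symm (X (ρ a v₀) * X (ρ b v₀) * e v₀), by simp [hX, hc]⟩
      obtain ⟨c, -, hcw⟩ := htr w (fun h0 => mul_ne_zero (hne a) (hne b) (by rw [← hw, h0]; simp [hX]))
      refine ⟨π c, ?_⟩
      simp only [← map_mul, ← map_inv]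
      refine hext _ _ fun x => ?_
      rw [hscal r hr c, hcw, hw, map_mul ρ, LinearEquiv.mul_apply, hscal r hr a, hscal r hr b, map_mul (σ r),
        mul_inv]
      ring
  rw [← hcm]
  exact hMn.comap π

end Cfsg.Agent.Bender.Step
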