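import Cfsg.Agent.Lib.Bender.Solvable.Good
import Cfsg.Agent.Lib.Local.StrongEmb
import Cfsg.Agent.Lib.Bender.RankOne

/-!
# Consequences of the solvability of a strongly embedded subgroup
-/

set_option autoImplicit false
set_option linter.style.haveILetI false
set_option linter.unusedSectionVars false

namespace Cfsg.Agent.Bender

open Cfsg Cfsg.Agent
open Cfsg.Agent.Fusion (SylIn cj)
open Cfsg.Agent.Fusion.SEPairs

universe u

variable {G : Type u} [Group G] [Finite G] {H : Subgroup G}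

/-- Strongly `2`-embedded subgroups are strongly embedded. -/
theorem se_of_spe (hH : Cfsg.IsStronglyPEmbedded 2 H) : Cfsg.IsStronglyEmbedded H := by
  haveI : Fact (Nat.Prime 2) := ⟨Nat.prime_two⟩
  obtain ⟨h2, hne, T, hT, hΓ⟩ := Local.isStronglyPEmbedded_iff.1 hH
  obtain ⟨P, rfl⟩ := hT.exists_sylow
  have h2P : 2 ∣ Nat.card (P : Subgroup G) := P.dvd_card_of_dvd_card h2
  have hPne : (P : Subgroup G) ≠ ⊥ := fun e => by
    rw [e, Subgroup.card_bot] at h2P
    omega
  have hPH : (P : Subgroup G) ≤ H := Subgroup.le_normalizer.trans (hΓ _ le_rfl hPne)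
  refine ⟨hne, even_iff_two_dvd.2 (h2P.trans (Subgroup.card_dvd_of_le hPH)), fun g hg => ?_⟩
  by_contra hev
  rw [Nat.not_odd_iff_even, even_iff_two_dvd] at hev
  obtain ⟨⟨s, hsH, hsg⟩, hs⟩ := exists_prime_orderOf_dvd_card' 2 hev
  obtain ⟨s', hs', hse⟩ := hsg
  rw [← Subgroup.orderOf_coe] at hs
  have hs : orderOf s = 2 := hs
  have hse : g * s' * g⁻¹ = s := hse
  have key : ∀ x ∈ H, orderOf x = 2 → ∃ e ∈ H, e * x * e⁻¹ ∈ (P : Subgroup G) := by
    intro x hx hxo
    have hxp : IsPGroup 2 (Subgroup.zpowers (⟨x, hx⟩ : H)) :=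
      IsPGroup.of_card (n := 1) (by rw [Nat.card_zpowers, ← Subgroup.orderOf_coe, pow_one]; exact hxo)
    obtain ⟨R, hR⟩ := hxp.exists_le_sylow
    obtain ⟨a, ha⟩ := MulAction.exists_smul_eq H R (P.subtype hPH)
    refine ⟨a, a.2, ?_⟩
    have h : a * ⟨x, hx⟩ * a⁻¹ ∈ ((P.subtype hPH : Sylow 2 H) : Subgroup H) := by
      rw [← ha, Sylow.coe_subgroup_smul]
      exact ⟨_, hR (Subgroup.mem_zpowers _), rfl⟩
    exact h
  obtain ⟨e, he, heP⟩ := key s hsH hs
  obtain ⟨e', he', heP'⟩ := key s' hs' (by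
    rw [← hse] at hs
    rwa [← SemiconjBy.orderOf_eq (a := g) (show SemiconjBy g s' (g * s' * g⁻¹) by
      unfold SemiconjBy; group)] at hs)
  have hmem := Local.mem_of_conj_le hT hΓ (A := Subgroup.zpowers (e' * s' * e'⁻¹)) (g := e * g * e'⁻¹)
    (Subgroup.zpowers_le.2 heP')
    (fun h => by
      rw [Subgroup.zpowers_eq_bot] at h
      rw [← hse, conj_eq_one_iff.1 h] at hs
      simp at hs)
    (by
      rw [Fusion.cj, MonoidHom.map_zpowers, Subgroup.zpowers_le]
      show e * g * e'⁻¹ * (e' * s' * e'⁻¹) * (e * g * e'⁻¹)⁻¹ ∈ (P : Subgroup G)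
      rw [show e * g * e'⁻¹ * (e' * s' * e'⁻¹) * (e * g * e'⁻¹)⁻¹ = e * (g * s' * g⁻¹) * e⁻¹ by group, hse]
      exact heP)
  have h := mul_mem (mul_mem (inv_mem he) hmem) he'
  rw [show e⁻¹ * (e * g * e'⁻¹) * e' = g by group] at h
  exact hg h

/-- Rank two rules out a single class of involutions. -/
theorem mbar_ne_one (hse : Cfsg.IsStronglyEmbedded H) (hrank : Cfsg.PRankAtLeast 2 2 G) :
    SEB.mbar ↥H ≠ 1 := by
  intro hm
  have hone := SEB.oneClass_of_mbar_eq_one hm
  obtain ⟨A, hA, hexp, h4⟩ := hrank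
  have hne : Nontrivial A := Finite.one_lt_card_iff_nontrivial.1 (by omega)
  obtain ⟨x, hx⟩ := exists_ne (1 : A)
  obtain ⟨y, hy1, hyx⟩ : ∃ y : A, y ≠ 1 ∧ y ≠ x := by
    by_contra h
    push Not at h
    have : Nat.card A ≤ Nat.card (Fin 2) :=
      Nat.card_le_card_of_surjective ![(1 : A), x] fun y => by
        by_cases hy : y = 1
        · exact ⟨0, hy.symm⟩
        · exact ⟨1, (h y hy).symm⟩
    simp at this
    omega
  haveI : Fact (Nat.Prime 2) := ⟨Nat.prime_two⟩
  have ho : ∀ a : A, a ≠ 1 → orderOf (a : G) = 2 := fun a ha =>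
    orderOf_eq_prime (hexp _ a.2) fun e => ha (Subtype.ext e)
  haveI := hA
  exact hyx (Subtype.ext (commute_eq hse hone (ho y hy1) (ho x hx)
    (congrArg Subtype.val (mul_comm' y x))))

/-- Strongly embedded subgroups are solvable in rank two. -/
theorem solvable_of_rank (hsol : ∀ (X : Type u) [Group X] [Finite X], SEB.Sol X)
    (hrank : Cfsg.PRankAtLeast 2 2 G) (hH : Cfsg.IsStronglyPEmbedded 2 H) : Group.IsSolvable ↥H :=
  hsol G H (se_of_spe hH) (mbar_ne_one (se_of_spe hH) hrank)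

/-- The odd core of a strongly embedded subgroup lies in the odd core. -/
theorem oddCore_le_of_sol (hsol : ∀ (X : Type u) [Group X] [Finite X], SEB.Sol X)
    (hse : Cfsg.IsStronglyEmbedded H) : (Cfsg.oddCore ↥H).map H.subtype ≤ Cfsg.oddCore G := by
  by_cases hm : SEB.mbar ↥H = 1
  · set W : Subgroup G := (Cfsg.oddCore ↥H).map H.subtype with hW
    have hWodd : Odd (Nat.card W) := by
      rw [hW, Subgroup.card_map_of_injective H.subtype_injective]
      exact Char.card_oddCore_odd ↥H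
    have hWn : H ≤ Subgroup.normalizer (W : Set G) := fun g hg => by
      refine Fusion.mem_normalizer_of_cj_le ?_
      rintro _ ⟨_, ⟨x, hx, rfl⟩, rfl⟩
      exact ⟨⟨g, hg⟩ * x * ⟨g, hg⟩⁻¹, (inferInstance : (Cfsg.oddCore ↥H).Normal).conj_mem x hx _, rfl⟩
    have htop := Bender.core_sup_eq_top hse (SEB.oneClass_of_mbar_eq_one hm)
    have hn : Subgroup.normalizer ((W ⊔ Cfsg.oddCore G : Subgroup G) : Set G) = ⊤ := by
      rw [eq_top_iff, ← htop, sup_le_iff]
      refine ⟨le_sup_right.trans Subgroup.le_normalizer, fun g hg => ?_⟩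
      refine Fusion.mem_normalizer_of_cj_le ?_
      rw [Fusion.cj, Subgroup.map_sup, sup_le_iff]
      constructor
      · rintro _ ⟨x, hx, rfl⟩
        exact Subgroup.mem_sup_left (Solv.conj_mem_of_mem_normalizer (hWn hg) hx)
      · rintro _ ⟨x, hx, rfl⟩
        exact Subgroup.mem_sup_right ((inferInstance : (Cfsg.oddCore G).Normal).conj_mem x hx g)
    haveI := Subgroup.normalizer_eq_top_iff.1 hn
    refine (le_sup_left : W ≤ W ⊔ Cfsg.oddCore G).trans
      (Fusion.le_pPrimeCore (Nat.Coprime.symm (Nat.coprime_two_left.2 ?_)))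
    have hmul := Solv.card_sup_mul_card_inf' (Cfsg.oddCore G) W
      (by rw [Subgroup.normalizer_eq_top_iff.2 inferInstance]; exact le_top)
    rw [sup_comm]
    exact (hWodd.mul (Char.card_oddCore_odd G)).of_dvd_nat (Dvd.intro _ (hmul.trans (mul_comm _ _)))
  · exact SEB.oddCore_le_of_solvable hse (hsol G H hse hm)

/-- An element of a two point stabiliser inverted by an involution has centralizer of odd order. -/
theorem centralizer_odd_of_sol (hsol : ∀ (X : Type u) [Group X] [Finite X], SEB.Sol X)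
    (hse : Cfsg.IsStronglyEmbedded H) (hN : H.normalCore = ⊥) {u : G} (hu : orderOf u = 2) (huH : u ∉ H) {j : G}
    (hj : j ∈ H ⊓ H.map (MulAut.conj u).toMonoidHom) (hj1 : j ≠ 1) (hinv : u * j * u⁻¹ = j⁻¹) :
    Odd (Nat.card (Subgroup.centralizer ({j} : Set G))) := by
  haveI : Fact (Nat.Prime 2) := ⟨Nat.prime_two⟩
  have hjo : Odd (orderOf j) := (hse.2.2 u huH).of_dvd_nat (Subgroup.orderOf_dvd_natCard _ hj)
  by_contra hev
  rw [Nat.not_odd_iff_even, even_iff_two_dvd] at hev
  obtain ⟨⟨s, hsj⟩, hs⟩ := exists_prime_orderOf_dvd_card' 2 hev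
  rw [← Subgroup.orderOf_coe] at hs
  have hs : orderOf s = 2 := hs
  have hsj : s * j = j * s := Subgroup.mem_centralizer_singleton_iff.1 hsj
  -- an element of odd order inverting `j` kills it
  have hinv1 : j⁻¹ = j → False := fun e => by
    have h2 : orderOf j ∣ 2 := orderOf_dvd_of_pow_eq_one (by rw [pow_two]; exact mul_eq_one_iff_inv_eq.2 e)
    rcases (Nat.dvd_prime Nat.prime_two).1 h2 with h | h
    · exact hj1 (orderOf_eq_one_iff.1 h)
    · rw [h] at hjo; exact absurd hjo (by decide)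
  rcases odd_or_common hu hs with hodd | ⟨w, hw, hwu, hws⟩
  · obtain ⟨k, hk⟩ := hodd
    have hy : (u * s) * j * (u * s)⁻¹ = j⁻¹ := by
      rw [show u * s * j * (u * s)⁻¹ = u * (s * j * s⁻¹) * u⁻¹ by group, hsj, mul_inv_cancel_right, hinv]
    have hpow : ∀ m : ℕ, (u * s) ^ (2 * m) * j * ((u * s) ^ (2 * m))⁻¹ = j := by
      intro m
      induction m with
      | zero => simp
      | succ m ih =>
        rw [show 2 * (m + 1) = 2 * m + 1 + 1 by ring, pow_succ, pow_succ,
          show (u * s) ^ (2 * m) * (u * s) * (u * s) * j * ((u * s) ^ (2 * m) * (u * s) * (u * s))⁻¹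
            = (u * s) ^ (2 * m) * ((u * s) * ((u * s) * j * (u * s)⁻¹) * (u * s)⁻¹) * ((u * s) ^ (2 * m))⁻¹ by group,
          hy, ← conj_inv, hy, inv_inv, ih]
    have h := hpow k
    have hus : (u * s) ^ (2 * k) = (u * s)⁻¹ := eq_inv_of_mul_eq_one_left (by
      rw [← pow_succ, ← hk, pow_orderOf_eq_one])
    rw [hus, inv_inv] at h
    refine hinv1 ?_
    calc j⁻¹ = (u * s) * ((u * s)⁻¹ * j * (u * s)) * (u * s)⁻¹ * 1 := by rw [h, hy, mul_one]
      _ = j := by group
  · obtain ⟨f, hf⟩ := exists_fixed hse hu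
    have hwf : w • f = f := fixed_unique hse hu (by rw [smul_smul, ← hwu.eq, ← smul_smul, hf]) hf
    by_cases hm : SEB.mbar ↥H = 1
    · have hone := SEB.oneClass_of_mbar_eq_one hm
      have e1 := commute_eq hse hone hw hu hwu
      have e2 := commute_eq hse hone hw hs hws
      refine hinv1 ?_
      rw [← hinv, ← e1, e2, hsj, mul_inv_cancel_right]
    · have hsf : s • f = f := fixed_unique hse hw (by rw [smul_smul, hws.eq, ← smul_smul, hwf]) hwf
      have hjf : j • f = f := fixed_unique hse hs (by rw [smul_smul, hsj, ← smul_smul, hsf]) hsf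
      have hmin : SEB.Min H := ⟨hse, hm, hN, fun M _ => hsol ↥M⟩
      have hj1' : j • (QuotientGroup.mk 1 : G ⧸ H) = QuotientGroup.mk 1 :=
        smul_mk_eq_iff.2 (by simpa using hj.1)
      have hne : (QuotientGroup.mk 1 : G ⧸ H) ≠ f := fun e => huH (by
        have h := smul_mk_eq_iff.1 (show u • (QuotientGroup.mk 1 : G ⧸ H) = _ by rw [e, hf])
        simpa using h)
      exact hj1 ((SEB.good_all G H hmin).1 f (QuotientGroup.mk 1) u j hu hf hinv hjo hne hjf hj1')

end Cfsg.Agent.Bender
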