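import Cfsg.Agent.Lib.Bender.Regular
import Cfsg.Agent.Lib.Bender.RankOne

/-!
# A solvable strongly embedded subgroup: the index and the core

The index of a solvable strongly embedded subgroup with more than one class of involutions is one
more than a power of two.  In every case the odd core of a solvable strongly embedded subgroup is
contained in the odd core of the group.
-/

set_option autoImplicit false
set_option linter.style.haveILetI false
set_option linter.unusedSectionVars false

open scoped Pointwise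

namespace Cfsg.Agent.SEB

open Cfsg
open Cfsg.Agent.Fusion.SEPairs

universe u

variable {G : Type u} [Group G] [Finite G] {H : Subgroup G}

/-- The image of a strongly embedded subgroup modulo a normal subgroup of odd order inside it. -/
theorem se_map_odd (hse : Cfsg.IsStronglyEmbedded H) (N : Subgroup G) [N.Normal] (hNH : N ≤ H)
    (hNodd : Odd (Nat.card N)) : Cfsg.IsStronglyEmbedded (H.map (QuotientGroup.mk' N)) := by
  set π := QuotientGroup.mk' N with hπ
  set H' := H.map π with hH'
  have hker : π.ker = N := QuotientGroup.ker_mk' N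
  have hcomap : H'.comap π = H := by
    rw [hH', Subgroup.comap_map_eq, hker, sup_eq_left.2 hNH]
  refine ⟨fun h => hse.1 ?_, ?_, fun g hg => odd_of_no_invol fun x hx hx2 => ?_⟩
  · rw [← hcomap, h, Subgroup.comap_top]
  · refine (Nat.even_or_odd _).resolve_right fun ho => ?_
    have h1 := Subgroup.card_mul_index (π.ker.subgroupOf H)
    have h2 : (π.ker.subgroupOf H).index = Nat.card H' := by
      rw [hH', ← Subgroup.relIndex, Subgroup.relIndex_ker]
    rw [h2] at h1
    refine Nat.not_odd_iff_even.2 hse.2.1 ?_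
    rw [← h1]
    refine Nat.odd_mul.2 ⟨Odd.of_dvd_nat (n := Nat.card π.ker) ?_
      (Subgroup.card_comap_dvd_of_injective _ _ H.subtype_injective), ho⟩
    rw [hker]; exact hNodd
  · obtain ⟨g, rfl⟩ := QuotientGroup.mk'_surjective N g
    obtain ⟨x, rfl⟩ := QuotientGroup.mk'_surjective N x
    obtain ⟨hx1, y, hy, hyx⟩ := hx
    obtain ⟨y, rfl⟩ := QuotientGroup.mk'_surjective N y
    obtain ⟨k, hk⟩ := hNodd
    set x' := x ^ (2 * k + 1) with hx'
    have hxx : π x * π x = 1 := sq_one hx2
    have hπx' : π x' = π x := by rw [hx', map_pow, pow_succ, pow_mul, pow_two, hxx, one_pow, one_mul]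
    have hx'2 : orderOf x' = 2 := by
      refine orderOf_eq_prime ?_ fun e => ?_
      · have h1 : x * x ∈ N := by rw [← hker, MonoidHom.mem_ker, map_mul, hxx]
        rw [hx', ← pow_mul, mul_comm, pow_mul, pow_two, ← hk]
        exact orderOf_dvd_iff_pow_eq_one.1 (Subgroup.orderOf_dvd_natCard N h1)
      · rw [e, map_one] at hπx'
        exact ne_one_of_invol hx2 hπx'.symm
    refine even_of_invol_mem hx'2 (K := H ⊓ H.map (MulAut.conj g).toMonoidHom)
      ⟨?_, g⁻¹ * x' * g, ?_, show g * (g⁻¹ * x' * g) * g⁻¹ = x' by group⟩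
      (hse.2.2 g fun h => hg ⟨g, h, rfl⟩)
    · show x' ∈ H
      rw [← hcomap, Subgroup.mem_comap, hπx']; exact hx1
    · show g⁻¹ * x' * g ∈ H
      rw [← hcomap, Subgroup.mem_comap, map_mul, map_mul, map_inv, hπx', ← hyx]
      have : (π g)⁻¹ * (π g * π y * (π g)⁻¹) * π g = π y := by group
      show (π g)⁻¹ * (π g * π y * (π g)⁻¹) * π g ∈ H'
      rw [this]; exact hy

theorem claim_of_faithful (hse : Cfsg.IsStronglyEmbedded H) (hsol : Group.IsSolvable H) (hm : mbar ↥H ≠ 1)
    (hN : H.normalCore = ⊥) (IH : ∀ M : Subgroup G, M ≠ ⊤ → Claim ↥M) :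
    (∃ f : ℕ, H.index = 2 ^ f + 1) ∧ Cent H :=
  ⟨faithful_index hse hsol hm hN IH, fun c a z _ hca hzc hza hzt s hs hsa =>
    (mem_Kc.1 (mem_Kc_of_mem hse hsol hm hN IH hca (mem_Kc.2 ⟨hzc, hzt⟩) hza)).2 s hs hsa⟩

theorem claim_of_core (hse : Cfsg.IsStronglyEmbedded H) (hsol : Group.IsSolvable H) (hm : mbar ↥H ≠ 1)
    (hIH : Claim (G ⧸ H.normalCore)) : (∃ f : ℕ, H.index = 2 ^ f + 1) ∧ Cent H := by
  set N := H.normalCore
  set π := QuotientGroup.mk' N with hπ
  set H' := H.map π with hH'
  have hNodd : Odd (Nat.card N) := normalCore_odd hse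
  have hker : π.ker = N := QuotientGroup.ker_mk' N
  have hcomap : H'.comap π = H := by
    rw [hH', Subgroup.comap_map_eq, hker, sup_eq_left.2 H.normalCore_le]
  have hse' := se_map_odd hse N H.normalCore_le hNodd
  have hsol' : Group.IsSolvable ↥H' := by
    haveI := hsol
    exact Group.isSolvable_of_surjective (f := π.subgroupMap H) (π.subgroupMap_surjective H)
  have hm' : mbar ↥H' ≠ 1 := by
    refine fun h => hm (Eq.trans (mbar_of_surjective (π.subgroupMap H) (π.subgroupMap_surjective H) ?_) h)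
    refine hNodd.of_dvd_nat ?_
    rw [← Nat.card_congr ((π.subgroupMap H).ker.equivMapOfInjective H.subtype H.subtype_injective).symm.toEquiv]
    refine Subgroup.card_dvd_of_le ?_
    rintro _ ⟨x, hx, rfl⟩
    rw [← hker]
    exact congrArg Subtype.val (MonoidHom.mem_ker.1 hx)
  obtain ⟨⟨f, hf⟩, hcent⟩ := hIH H' hse' hsol' hm'
  refine ⟨⟨f, ?_⟩, ?_⟩
  · rw [← hcomap, Subgroup.index_comap_of_surjective _ (QuotientGroup.mk'_surjective N)]
    exact hf
  intro c a z hcomm hca hzc hza hzt s hs hsa
  let φ : G ⧸ H → (G ⧸ N) ⧸ H' := Quotient.lift (fun g => (QuotientGroup.mk (π g) : (G ⧸ N) ⧸ H'))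
    fun a b h => QuotientGroup.eq.2 (by
      rw [← map_inv, ← map_mul]; exact ⟨_, QuotientGroup.leftRel_apply.1 h, rfl⟩)
  have hφ : ∀ g x, φ (g • x) = π g • φ x := fun g x => by
    induction x using QuotientGroup.induction_on with
    | _ x => rfl
  have hφi : Function.Injective φ := fun x y => by
    induction x using QuotientGroup.induction_on with
    | _ x =>
      induction y using QuotientGroup.induction_on with
      | _ y =>
        intro h
        have h' : (π x)⁻¹ * π y ∈ H' := QuotientGroup.eq.1 h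
        rw [← map_inv, ← map_mul, ← Subgroup.mem_comap, hcomap] at h'
        exact QuotientGroup.eq.2 h'
  obtain ⟨k, hk⟩ := hNodd
  have hlift : ∀ q : G ⧸ N, orderOf q = 2 → ∀ x, q • φ x = φ x →
      ∃ p : G, orderOf p = 2 ∧ p • x = x ∧ π p = q := by
    intro q hq x hqx
    obtain ⟨g, rfl⟩ := QuotientGroup.mk'_surjective N q
    have hgg : π g * π g = 1 := sq_one hq
    have hπp : π (g ^ (2 * k + 1)) = π g := by
      rw [map_pow, pow_succ, pow_mul, pow_two, hgg, one_pow, one_mul]
    refine ⟨g ^ (2 * k + 1), orderOf_eq_prime ?_ (fun e => ?_), ?_, hπp⟩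
    · have h1 : g * g ∈ N := by rw [← hker, MonoidHom.mem_ker, map_mul, hgg]
      rw [← pow_mul, mul_comm, pow_mul, pow_two, ← hk]
      exact orderOf_dvd_iff_pow_eq_one.1 (Subgroup.orderOf_dvd_natCard N h1)
    · rw [e, map_one] at hπp
      exact ne_one_of_invol hq hπp.symm
    · exact hφi (by rw [hφ, hπp]; exact hqx)
  have hπs : orderOf (π s) = 2 := by
    refine orderOf_eq_prime (by rw [← map_pow, pow_two, sq_one hs, map_one]) fun e => ?_
    have hsN : s ∈ N := by rw [← hker]; exact MonoidHom.mem_ker.2 e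
    exact even_of_invol_mem hs hsN ⟨k, hk⟩
  have h := hcent (φ c) (φ a) (π z)
    (fun p q hp hq hpc hqc => by
      obtain ⟨p, hp', hpc', rfl⟩ := hlift p hp c hpc
      obtain ⟨q, hq', hqc', rfl⟩ := hlift q hq c hqc
      exact (hcomm p q hp' hq' hpc' hqc').map π)
    (fun e => hca (hφi e)) (by rw [← hφ, hzc]) (by rw [← hφ, hza])
    (fun t ht htc => by
      obtain ⟨t, ht', htc', rfl⟩ := hlift t ht c htc
      exact (hzt t ht' htc').map π)
    (π s) hπs (by rw [← hφ, hsa])
  -- the two commuting involutions `z s z⁻¹` and `s` are congruent modulo `N`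
  have hs' : orderOf (z * s * z⁻¹) = 2 := conj_involution hs z
  have hs'a : (z * s * z⁻¹) • a = a := by
    rw [mul_smul, mul_smul, inv_smul_eq_iff.2 hza.symm, hsa, hza]
  obtain ⟨g, hg⟩ := exists_smul_eq' a c
  have hcom : Commute (z * s * z⁻¹) s := by
    have hmove : ∀ p : G, p • a = a → (g * p * g⁻¹) • c = c := fun p hp => by
      rw [← hg, mul_smul, mul_smul, inv_smul_smul, hp]
    have h1 := (hcomm _ _ (conj_involution hs' g) (conj_involution hs g) (hmove _ hs'a) (hmove _ hsa)).eq
    show z * s * z⁻¹ * s = s * (z * s * z⁻¹)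
    calc z * s * z⁻¹ * s = g⁻¹ * ((g * (z * s * z⁻¹) * g⁻¹) * (g * s * g⁻¹)) * g := by group
      _ = g⁻¹ * ((g * s * g⁻¹) * (g * (z * s * z⁻¹) * g⁻¹)) * g := by rw [h1]
      _ = _ := by group
  have hmem : z * s * z⁻¹ * s ∈ N := by
    rw [← hker, MonoidHom.mem_ker, map_mul, map_mul, map_mul, map_inv, h.eq, mul_inv_cancel_right,
      ← map_mul, sq_one hs, map_one]
  have h1 : z * s * z⁻¹ * s = 1 := by
    rw [← orderOf_eq_one_iff]
    have h2 : orderOf (z * s * z⁻¹ * s) ∣ 2 := orderOf_dvd_of_pow_eq_one (by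
      rw [hcom.mul_pow, pow_two, pow_two, sq_one hs', sq_one hs, one_mul])
    have h3 : Odd (orderOf (z * s * z⁻¹ * s)) :=
      (show Odd (Nat.card N) from ⟨k, hk⟩).of_dvd_nat (Subgroup.orderOf_dvd_natCard N hmem)
    exact Nat.dvd_one.1 ((Nat.coprime_two_left.2 h3) ▸ Nat.dvd_gcd h2 dvd_rfl)
  rw [mul_eq_one_iff_eq_inv, inv_self hs, mul_inv_eq_iff_eq_mul] at h1
  exact h1

/-- **A solvable strongly embedded subgroup with several classes of involutions has index
`2 ^ f + 1`, and an element centralising the involutions at one of its fixed points centralises those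
at all of them.** -/
theorem claim_all (G : Type u) [Group G] [Finite G] : Claim G := by
  suffices h : ∀ n : ℕ, ∀ (G : Type u) [Group G] [Finite G], Nat.card G = n → Claim G from h _ G rfl
  intro n
  induction n using Nat.strong_induction_on with
  | _ n ih =>
    intro G _ _ hn H hse hsol hm
    subst hn
    by_cases hN : H.normalCore = ⊥
    · exact claim_of_faithful hse hsol hm hN fun M hM => ih (Nat.card M) (lt_of_le_of_ne
        (Nat.le_of_dvd Nat.card_pos M.card_subgroup_dvd_card)
        fun e => hM (Subgroup.eq_top_of_card_eq M e)) ↥M rfl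
    · refine claim_of_core hse hsol hm (ih (Nat.card (G ⧸ H.normalCore)) ?_ (G ⧸ H.normalCore) rfl)
      rw [Subgroup.card_eq_card_quotient_mul_card_subgroup H.normalCore]
      exact lt_mul_of_one_lt_right Nat.card_pos ((Subgroup.one_lt_card_iff_ne_bot _).2 hN)

/-- The index of a solvable strongly embedded subgroup with several classes of involutions. -/
theorem index_of_solvable (hse : Cfsg.IsStronglyEmbedded H) (hsol : Group.IsSolvable H)
    (hm : mbar ↥H ≠ 1) : ∃ f : ℕ, H.index = 2 ^ f + 1 :=
  (claim_all G H hse hsol hm).1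

/-- The rank one set-up of a solvable strongly embedded subgroup without core. -/
theorem ctx_of_solvable (hse : Cfsg.IsStronglyEmbedded H) (hsol : Group.IsSolvable H)
    (hm : mbar ↥H ≠ 1) (hN : H.normalCore = ⊥) {c a : G ⧸ H} (hca : a ≠ c) :
    ∃ (t : G) (Q : Subgroup G), Lie.R1C.Ctx G (G ⧸ H) c t Q ∧ IsPGroup 2 Q := by
  obtain ⟨t, Q, hc⟩ := exists_ctx hse hsol hm hN (fun M _ => claim_all ↥M) hca
  exact ⟨t, Q, hc, Lie.R1C.allTwo (Nat.card G + 1) _ _ _ _ _ (Nat.lt_succ_self _) hc⟩

/-- **The odd core of a solvable strongly embedded subgroup lies in the odd core of the group.** -/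
theorem oddCore_le_of_solvable (hse : Cfsg.IsStronglyEmbedded H) (hsol : Group.IsSolvable H) :
    (oddCore ↥H).map H.subtype ≤ oddCore G := by
  set W := (oddCore ↥H).map H.subtype with hW
  have hWH : W ≤ H := Subgroup.map_subtype_le _
  have hWodd : Odd (Nat.card W) := by
    rw [hW, Subgroup.card_map_of_injective H.subtype_injective]
    exact Char.card_oddCore_odd ↥H
  have hWn : H ≤ Subgroup.normalizer (W : Set G) := fun g hg => by
    refine Fusion.mem_normalizer_of_cj_le ?_
    rintro _ ⟨_, ⟨x, hx, rfl⟩, rfl⟩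
    exact ⟨⟨g, hg⟩ * x * ⟨g, hg⟩⁻¹, (inferInstance : (oddCore ↥H).Normal).conj_mem x hx _, rfl⟩
  by_cases hm : mbar ↥H = 1
  · have htop := Bender.core_sup_eq_top hse (oneClass_of_mbar_eq_one hm)
    have hn : Subgroup.normalizer ((W ⊔ oddCore G : Subgroup G) : Set G) = ⊤ := by
      rw [eq_top_iff, ← htop, sup_le_iff]
      refine ⟨le_sup_right.trans Subgroup.le_normalizer, fun g hg => ?_⟩
      refine Fusion.mem_normalizer_of_cj_le ?_
      rw [Fusion.cj, Subgroup.map_sup, sup_le_iff]
      constructor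
      · rintro _ ⟨x, hx, rfl⟩
        exact Subgroup.mem_sup_left (Solv.conj_mem_of_mem_normalizer (hWn hg) hx)
      · rintro _ ⟨x, hx, rfl⟩
        exact Subgroup.mem_sup_right ((inferInstance : (oddCore G).Normal).conj_mem x hx g)
    haveI := Subgroup.normalizer_eq_top_iff.1 hn
    refine (le_sup_left : W ≤ W ⊔ oddCore G).trans (Fusion.le_pPrimeCore (Nat.Coprime.symm (Nat.coprime_two_left.2 ?_)))
    have hmul := Solv.card_sup_mul_card_inf' (oddCore G) W
      (by rw [Subgroup.normalizer_eq_top_iff.2 inferInstance]; exact le_top)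
    rw [sup_comm]
    exact (hWodd.mul (Char.card_oddCore_odd G)).of_dvd_nat (Dvd.intro _ (hmul.trans (mul_comm _ _)))
  · obtain ⟨f, hf⟩ := index_of_solvable hse hsol hm
    haveI : (H.normalCore).Normal := Subgroup.normalCore_normal H
    refine le_trans (fun w hw => ?_) (Fusion.le_pPrimeCore (normalCore_odd hse).coprime_two_right)
    have hfix : ∀ x : G ⧸ H, w • x = x := fun x => by
      by_cases hx : x = (QuotientGroup.mk 1 : G ⧸ H)
      · rw [hx]
        exact smul_mk_eq_iff.2 (by simpa using hWH hw)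
      have hSt : St (QuotientGroup.mk 1 : G ⧸ H) = H := St_base
      have h1 : (St2 (QuotientGroup.mk 1) x).relIndex W ∣ 2 ^ f := by
        refine (relIndex_dvd_of_normalizes (B := St (QuotientGroup.mk 1 : G ⧸ H)) inf_le_left
          (hSt.symm ▸ hWH) (hSt.symm ▸ hWn)).trans (dvd_of_eq ?_)
        exact Nat.succ_injective ((relIndex_St2 hse hm hx).trans hf)
      have h2 : Odd ((St2 (QuotientGroup.mk 1) x).relIndex W) :=
        hWodd.of_dvd_nat (Subgroup.relIndex_dvd_card _ _)
      obtain ⟨i, -, hi⟩ := (Nat.dvd_prime_pow Nat.prime_two).1 h1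
      rcases Nat.eq_zero_or_pos i with rfl | hi0
      · rw [pow_zero, Subgroup.relIndex_eq_one] at hi
        exact (hi hw).2
      · rw [hi] at h2
        exact absurd h2 (Nat.not_odd_iff_even.2 ((Nat.even_pow' hi0.ne').2 even_two))
    intro b
    have h1 := hfix (QuotientGroup.mk b⁻¹)
    rwa [smul_mk_eq_iff, inv_inv] at h1

end Cfsg.Agent.SEB
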