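import Cfsg.Agent.Lib.Bender.SubConfig
import Cfsg.Agent.Lib.Solv.Cores
import Cfsg.Agent.Lib.Solv.Subnormal
import Cfsg.Prelude.Def_OddOrderLocal

/-!
# A solvable strongly embedded subgroup: the odd core centralises the involutions

First no triangle is inside at any prime dividing the number of involutions of `H`, then the
Fitting subgroup of the odd core, and so the odd core, centralises every involution of `H`.
-/

set_option autoImplicit false
set_option linter.style.haveILetI false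
set_option linter.unusedSectionVars false

open scoped Pointwise

namespace Cfsg.Agent.SEB

open Cfsg
open Cfsg.Agent.Fusion (SylIn cj)
open Cfsg.Agent.Fusion.SEPairs

universe u

/-- Involutions fixing a point centralised by a pair element force those of the other point to be. -/
def Cent {G : Type u} [Group G] (H : Subgroup G) : Prop :=
  ∀ (c a : G ⧸ H) (z : G),
    (∀ s t : G, orderOf s = 2 → orderOf t = 2 → s • c = c → t • c = c → Commute s t) →
    a ≠ c → z • c = c → z • a = a → (∀ t : G, orderOf t = 2 → t • c = c → Commute z t) →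
    ∀ s : G, orderOf s = 2 → s • a = a → Commute z s

/-- The induction statement for a solvable strongly embedded subgroup. -/
def Claim (G : Type u) [Group G] : Prop :=
  ∀ H : Subgroup G, Cfsg.IsStronglyEmbedded H → Group.IsSolvable H → mbar ↥H ≠ 1 →
    (∃ f : ℕ, H.index = 2 ^ f + 1) ∧ Cent H

/-- The odd core of a point stabiliser, inside `G`. -/
def Wc {G : Type u} [Group G] {H : Subgroup G} (c : G ⧸ H) : Subgroup G :=
  (pPrimeCore 2 ↥(St c)).map (St c).subtype

variable {G : Type u} [Group G] [Finite G] {H : Subgroup G}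

theorem Wc_le (c : G ⧸ H) : Wc c ≤ St c := Subgroup.map_subtype_le _

theorem Wc_odd (c : G ⧸ H) : Odd (Nat.card ↥(Wc c)) := by
  rw [Wc, Subgroup.card_map_of_injective (St c).subtype_injective]
  exact card_oddCore_odd' _

theorem St_le_normalizer_Wc (c : G ⧸ H) : St c ≤ Subgroup.normalizer (Wc c : Set G) := fun g hg => by
  refine Fusion.mem_normalizer_of_cj_le ?_
  rintro _ ⟨_, ⟨x, hx, rfl⟩, rfl⟩
  exact ⟨⟨g, hg⟩ * x * ⟨g, hg⟩⁻¹,
    (inferInstance : (pPrimeCore 2 ↥(St c)).Normal).conj_mem x hx _, rfl⟩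

theorem mem_Wc_of_mem {c : G ⧸ H} {x : ↥(St c)} : (x : G) ∈ Wc c ↔ x ∈ pPrimeCore 2 ↥(St c) :=
  ⟨fun ⟨_, hy, e⟩ => Subtype.ext e ▸ hy, fun h => ⟨x, h, rfl⟩⟩

theorem St_solvable (hsol : Group.IsSolvable H) (c : G ⧸ H) : Group.IsSolvable ↥(St c) := by
  haveI := hsol
  obtain ⟨g, hg⟩ := exists_smul_eq' (QuotientGroup.mk 1 : G ⧸ H) c
  have e : H ≃* St c :=
    (H.equivMapOfInjective (MulAut.conj g).toMonoidHom (MulAut.conj g).injective).trans
      (MulEquiv.subgroupCongr (by rw [← hg, St_smul, St_base]))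
  exact Group.isSolvable_of_surjective (f := e.toMonoidHom) e.surjective

/-- A relative index in a normal subgroup divides the relative index above it. -/
theorem relIndex_dvd_of_normalizes {A B N : Subgroup G} (hA : A ≤ B) (hN : N ≤ B)
    (hBN : B ≤ Subgroup.normalizer (N : Set G)) : A.relIndex N ∣ A.relIndex B := by
  refine dvd_trans (dvd_of_eq ?_) (Dvd.intro _ (Subgroup.relIndex_mul_relIndex A (N ⊔ A) B le_sup_right
    (sup_le hN hA)))
  have h1 := Solv.card_sup_mul_card_inf' N A (hA.trans hBN)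
  have hmul : ∀ X Y : Subgroup G, X ≤ Y → X.relIndex Y * Nat.card X = Nat.card Y := fun X Y h => by
    rw [mul_comm, ← Nat.card_congr (Subgroup.subgroupOfEquivOfLe h).toEquiv]
    exact (X.subgroupOf Y).card_mul_index
  have h2 := hmul A (N ⊔ A) le_sup_right
  have h3 := hmul (A ⊓ N) N inf_le_right
  rw [Subgroup.inf_relIndex_right] at h3
  refine Nat.eq_of_mul_eq_mul_right (Nat.mul_pos (Nat.card_pos (α := A)) (Nat.card_pos (α := ↥(A ⊓ N)))) ?_
  calc A.relIndex N * (Nat.card A * Nat.card ↥(A ⊓ N))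
      = Nat.card N * Nat.card A := by rw [← h3]; ring
    _ = A.relIndex (N ⊔ A) * (Nat.card A * Nat.card ↥(A ⊓ N)) := by
      rw [← h1, ← h2, inf_comm N A]; ring

variable (hse : Cfsg.IsStronglyEmbedded H)
include hse

/-- Only the identity fixes every point. -/
theorem eq_one_of_fix (hN : H.normalCore = ⊥) {g : G} (h : ∀ x : G ⧸ H, g • x = x) : g = 1 := by
  rw [← Subgroup.mem_bot (G := G), ← hN]
  intro b
  have h1 := h (QuotientGroup.mk b⁻¹)
  rwa [smul_mk_eq_iff, inv_inv] at h1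

/-- A normal subgroup of a point stabiliser fixing a second point is trivial. -/
theorem normal_fix_bot (hN : H.normalCore = ⊥) (hm : mbar ↥H ≠ 1) {c a : G ⧸ H} (hca : a ≠ c)
    {Z : Subgroup G} (hZc : Z ≤ St c) (hZa : Z ≤ St a) (hn : St c ≤ Subgroup.normalizer (Z : Set G)) :
    Z = ⊥ := by
  refine (Subgroup.eq_bot_iff_forall Z).2 fun z hz => eq_one_of_fix hse hN fun x => ?_
  by_cases hx : x = c
  · rw [hx]; exact hZc hz
  obtain ⟨k, hk, rfl⟩ := St_transitive hse hm hca hx
  have h1 : k⁻¹ * z * k ∈ Z := by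
    simpa using Solv.conj_mem_of_mem_normalizer (inv_mem (hn hk)) hz
  have h2 : (k⁻¹ * z * k) • a = a := hZa h1
  rwa [mul_smul, mul_smul, inv_smul_eq_iff] at h2

variable {p : ℕ} [hp : Fact p.Prime]

/-- An inside triangle at a prime dividing `m` gives a proper subgroup containing all involutions at its
centre and moving it. -/
theorem exists_local_of_tri (hN : H.normalCore = ⊥) (t₁ : Tri H p) (hpn : p ∣ numInv (St t₁.c)) :
    ∃ t : Tri H p, ∃ M : Subgroup G, M ≠ ⊤ ∧ (∀ s, orderOf s = 2 → s • t.c = t.c → s ∈ M) ∧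
      ∃ w ∈ M, w • t.c = t.a := by
  obtain ⟨t, ht⟩ := exists_equal hse t₁ hpn
  have hpn' : p ∣ numInv (St t.c) := numInv_St hse t₁.c t.c ▸ hpn
  have hp2 : p ≠ 2 := fun e => by
    subst e
    exact Nat.not_even_iff_odd.2 (numInv_odd hse t.c) (even_iff_two_dvd.2 hpn')
  obtain ⟨Z, hZ0, hZa, hsZ, huZ, w, hw, hwc, hwZ⟩ :
      ∃ Z : Subgroup G, Z ≠ ⊥ ∧ Z ≤ St t.a ∧
        St2 t.c t.a ≤ Subgroup.normalizer (Z : Set G) ∧ t.u ∈ Subgroup.normalizer (Z : Set G) ∧
          ∃ w : G, orderOf w = 2 ∧ w • t.c = t.a ∧ w ∈ Subgroup.normalizer (Z : Set G) := by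
    by_cases hK : t.K = ⊥
    · obtain ⟨h1, h2, h3⟩ := OddLocal.Fact2.zjOf_facts t.hP.isPGroup
      obtain ⟨w, hw, hwc, hwP⟩ := exists_swapper_normalizing hse t.hca.symm (t.sylIn_side hse)
      exact ⟨OddLocal.Fact2.zjOf p t.P, h2 fun e => t.Y_ne_bot hse hpn' (eq_bot_iff.2 (e ▸ t.Y_le)),
        h1.trans t.P_le_a,
        le_normalizer_zj (odd_solvable (t.odd_side hse)) (t.odd_side hse) hp2 (t.sylIn_side hse)
          (show t.Ks = ⊥ by rw [← ht, hK]), h3 t.huP, w, hw, hwc, h3 hwP⟩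
    · obtain ⟨w, hw, hwc⟩ := exists_swapper hse t.hca.symm
      refine ⟨t.K, hK, (pcoreIn_le _).trans inf_le_left,
        ht ▸ le_normalizer_pcoreIn _, normalizer_le_pcoreIn _ (normalizes_pair rfl (smul_smul_self t.hu _)),
        w, hw, hwc, ?_⟩
      rw [ht]
      exact normalizer_le_pcoreIn _ (normalizes_pair hwc (by rw [← hwc, smul_smul_self hw]))
  refine ⟨t, Subgroup.normalizer (Z : Set G), fun h => hZ0 ?_, fun s hs hsc => ?_, w, hwZ, hwc⟩
  · haveI : Z.Normal := Subgroup.normalizer_eq_top_iff.1 h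
    rw [eq_bot_iff, ← hN]
    refine Subgroup.normal_le_normalCore.2 fun z hz => ?_
    obtain ⟨g, hg⟩ := QuotientGroup.mk_surjective t.a
    have h1 := hZa ((inferInstance : Z.Normal).conj_mem z hz g)
    rw [MulAction.mem_stabilizer_iff, ← hg, smul_mk_eq_iff] at h1
    rwa [show g⁻¹ * (g * z * g⁻¹) * g = z by group] at h1
  · obtain ⟨d, hd1, hd2, hd⟩ := pair_transitive hse t.hca t.hu t.huc hs hsc
    rw [← hd]
    exact mul_mem (mul_mem (hsZ ⟨hd1, hd2⟩) huZ) (inv_mem (hsZ ⟨hd1, hd2⟩))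

variable (hm : mbar ↥H ≠ 1) (hN : H.normalCore = ⊥)
  (hIdx : ∀ (c : G ⧸ H) (M : Subgroup G), M ≠ ⊤ → Cfsg.IsStronglyEmbedded ((St c).subgroupOf M) →
    mbar ↥((St c).subgroupOf M) ≠ 1 → ∃ f : ℕ, ((St c).subgroupOf M).index = 2 ^ f + 1)
include hm hN hIdx

/-- No triangle is inside at a prime dividing the number of involutions. -/
theorem noTri_all' (t₁ : Tri H p) : ¬ p ∣ numInv (St t₁.c) := by
  intro hpn
  obtain ⟨t, M, hMtop, hI, w, hwM, hwc⟩ := exists_local_of_tri hse hN t₁ hpn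
  have huM : t.u ∈ M := hI _ t.hu t.huc
  have hmove : ∃ g ∈ M, g • t.c ≠ t.c := ⟨w, hwM, by rw [hwc]; exact t.hca⟩
  -- the classes of the stabiliser are those of `M`
  have hall : ∀ s : ↥(St t.c), orderOf s = 2 → s ∈ M.subgroupOf (St t.c) := fun s hs =>
    hI (s : G) (by rw [Subgroup.orderOf_coe]; exact hs) s.2
  let e : ↥(M.subgroupOf (St t.c)) ≃* ↥((St t.c).subgroupOf M) :=
    { toFun := fun m => ⟨⟨(m : ↥(St t.c)), m.2⟩, (m : ↥(St t.c)).2⟩
      invFun := fun m => ⟨⟨(m : ↥M), m.2⟩, (m : ↥M).2⟩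
      left_inv := fun _ => rfl
      right_inv := fun _ => rfl
      map_mul' := fun _ _ => rfl }
  have hmM : mbar ↥((St t.c).subgroupOf M) ≠ 1 := by
    rw [← mbar_congr e, mbar_subgroup _ hall, mbar_St_base hse]
    exact hm
  obtain ⟨f, hf⟩ := hIdx t.c M hMtop (se_sub hse t.hu t.huc huM hmove) hmM
  have horb := (sub_orbit hse t.hu t.huc huM hmove hmM hwM hwM (by rw [hwc]; exact t.hca)
    (by rw [hwc]; exact t.hca)).2
  rw [hwc, hf, Nat.add_right_cancel_iff] at horb
  -- `W ∩ M` fixes `a`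
  have hJa : M ⊓ Wc t.c ≤ St t.a := by
    have hBn : M ⊓ St t.c ≤ Subgroup.normalizer ((M ⊓ Wc t.c : Subgroup G) : Set G) := fun g hg => by
      refine Fusion.mem_normalizer_of_cj_le ?_
      rintro _ ⟨x, hx, rfl⟩
      exact ⟨M.mul_mem (M.mul_mem hg.1 hx.1) (M.inv_mem hg.1),
        Solv.conj_mem_of_mem_normalizer (St_le_normalizer_Wc t.c hg.2) hx.2⟩
    have hd := relIndex_dvd_of_normalizes (A := M ⊓ St2 t.c t.a) (B := M ⊓ St t.c)
      (inf_le_inf_left _ inf_le_left) (inf_le_inf_left _ (Wc_le t.c)) hBn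
    rw [horb] at hd
    have hodd : Odd ((M ⊓ St2 t.c t.a).relIndex (M ⊓ Wc t.c)) :=
      ((Wc_odd t.c).of_dvd_nat (Subgroup.card_dvd_of_le inf_le_right)).of_dvd_nat
        (Subgroup.relIndex_dvd_card _ _)
    obtain ⟨i, -, hi⟩ := (Nat.dvd_prime_pow Nat.prime_two).1 hd
    rcases Nat.eq_zero_or_pos i with rfl | hi0
    · exact (Subgroup.relIndex_eq_one.1 (hi.trans (pow_zero 2))).trans (inf_le_right.trans inf_le_right)
    · rw [hi] at hodd
      exact absurd hodd (Nat.not_odd_iff_even.2 ((Nat.even_pow' hi0.ne').2 even_two))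
  -- so congruent involutions are equal
  set X := Subgroup.closure {x : G | ∃ s s' : G, orderOf s = 2 ∧ orderOf s' = 2 ∧ s • t.c = t.c ∧
    s' • t.c = t.c ∧ s * s' ∈ Wc t.c ∧ s * s' = x} with hX
  have hXW : X ≤ M ⊓ Wc t.c := by
    rw [hX, Subgroup.closure_le]
    rintro _ ⟨s, s', hs, hs', hsc, hsc', hW, rfl⟩
    exact ⟨mul_mem (hI s hs hsc) (hI s' hs' hsc'), hW⟩
  have hX1 : X = ⊥ := by
    refine normal_fix_bot hse hN hm t.hca (hXW.trans (inf_le_right.trans (Wc_le _))) (hXW.trans hJa) ?_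
    intro k hk
    refine Fusion.mem_normalizer_of_cj_le ?_
    rw [hX, cj, MonoidHom.map_closure, Subgroup.closure_le]
    rintro _ ⟨_, ⟨s, s', hs, hs', hsc, hsc', hW, rfl⟩, rfl⟩
    have hkc : k⁻¹ • t.c = t.c := inv_smul_eq_iff.2 (show k • t.c = t.c from hk).symm
    refine Subgroup.subset_closure ⟨k * s * k⁻¹, k * s' * k⁻¹, conj_involution hs k, conj_involution hs' k,
      ?_, ?_, ?_, by show _ = k * (s * s') * k⁻¹; group⟩
    · rw [mul_smul, mul_smul, hkc, hsc]; exact hk
    · rw [mul_smul, mul_smul, hkc, hsc']; exact hk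
    · rw [show k * s * k⁻¹ * (k * s' * k⁻¹) = k * (s * s') * k⁻¹ by group]
      exact Solv.conj_mem_of_mem_normalizer (St_le_normalizer_Wc t.c hk) hW
  have hinj : Function.Injective (cls (X := ↥(St t.c))) := fun s s' h => by
    have hW : (s.1 : G) * s'.1 ∈ Wc t.c := by
      rw [← Subgroup.coe_mul]; exact mem_Wc_of_mem.2 ((cls_eq_iff _ _).1 h)
    have hs : orderOf (s.1 : G) = 2 := by rw [Subgroup.orderOf_coe]; exact s.2
    have hs' : orderOf (s'.1 : G) = 2 := by rw [Subgroup.orderOf_coe]; exact s'.2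
    have h1 : (s.1 : G) * s'.1 = 1 := by
      rw [← Subgroup.mem_bot (G := G), ← hX1]
      exact Subgroup.subset_closure ⟨_, _, hs, hs', s.1.2, s'.1.2, hW, rfl⟩
    exact Subtype.ext (Subtype.ext ((eq_inv_of_mul_eq_one_left h1).trans (inv_self hs')))
  have hmb : mbar ↥(St t.c) = numInv (St t.c) := by
    rw [mbar, numInv, Nat.card_congr (Equiv.ofInjective _ hinj).symm]
    exact Nat.card_congr
      { toFun := fun s => ⟨(s.1 : G), by rw [Subgroup.orderOf_coe]; exact s.2, s.1.2⟩
        invFun := fun s => ⟨⟨s.1, s.2.2⟩, by rw [Subgroup.orderOf_mk]; exact s.2.1⟩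
        left_inv := fun _ => rfl
        right_inv := fun _ => rfl }
  exact no_tri G hse t (by rw [hmb, numInv_St hse t.c t₁.c]; exact hpn)

/-- The hypothesis of the transitivity argument holds at every prime dividing `m`. -/
theorem noInside_all' (hdvd : p ∣ Bender.numInv H) : Bender.NoInside H p := by
  intro a b c w P hab hw hwa hwc hP hwP hc
  have hca : a ≠ c := fun e => hab (by rw [← hwa, e, hwc])
  subst hwa
  refine noTri_all' hse hm hN hIdx ⟨w, c, a, P, hw, hwc, hca, isSylIn_iff.1 hP, hwP, hc⟩ ?_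
  show p ∣ numInv (St c)
  rw [numInv_St hse c (QuotientGroup.mk 1), St_base]
  exact hdvd

/-- A Sylow `p`-subgroup of a point stabiliser with exactly two fixed points, for `p ∣ m`. -/
theorem exists_sylow_pair' (hdvd : p ∣ Bender.numInv H) {c a : G ⧸ H} (hca : a ≠ c) :
    ∃ P : Subgroup G, Solv.IsSylIn p P (St c) ∧ Bender.fixSet H P = {c, a} :=
  Bender.exists_pair_sylow hse hdvd (noInside_all' hse hm hN hIdx hdvd) hca.symm

omit hp
/-- The odd core of a point stabiliser centralises its involutions. -/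
theorem commute_Wc' {c : G ⧸ H} {t : G} (ht : orderOf t = 2) (htc : t • c = c) {x : G} (hx : x ∈ Wc c) :
    Commute t x := by
  set W := Wc c with hW
  haveI hWs : Group.IsSolvable W := odd_solvable (Wc_odd c)
  set F := fittingOf W with hF
  have hFW : F ≤ W := Subgroup.map_subtype_le _
  haveI : (fittingSubgroup ↥W).Normal := Solv.fittingSubgroup_normal
  -- the Fitting subgroup is normalised by the stabiliser
  have hFn : St c ≤ Subgroup.normalizer (F : Set G) := fun g hg => by
    refine Fusion.mem_normalizer_of_cj_le ?_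
    rintro _ ⟨_, ⟨y, hy, rfl⟩, rfl⟩
    let σ : MulAut ↥W := Subgroup.normalizerMonoidHom W ⟨g, St_le_normalizer_Wc c hg⟩
    refine ⟨σ y, ?_, rfl⟩
    rw [← (Solv.fitting_characteristic (G := ↥W)).fixed σ] at hy
    exact hy
  -- each Sylow subgroup of it is centralised
  have htFc : ∀ y ∈ F, Commute t y := by
    haveI hnil : Group.IsNilpotent ↥F := by
      haveI := Solv.fittingSubgroup_nilpotent (G := ↥W)
      exact Group.nilpotent_of_mulEquiv
        ((fittingSubgroup ↥W).equivMapOfInjective W.subtype W.subtype_injective)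
    set C := (Subgroup.centralizer ({t} : Set G)).subgroupOf F with hC
    suffices hCtop : C = ⊤ by
      intro y hy
      have h := (hCtop ▸ Subgroup.mem_top (⟨y, hy⟩ : F) : (⟨y, hy⟩ : F) ∈ C)
      exact (Subgroup.mem_centralizer_singleton_iff.1 h).symm
    refine Subgroup.eq_top_of_le_card C (Nat.le_of_dvd Nat.card_pos ?_)
    refine (Nat.dvd_iff_prime_pow_dvd_dvd _ _).2 fun r k hr hrk => ?_
    haveI : Fact r.Prime := ⟨hr⟩
    obtain ⟨R⟩ : Nonempty (Sylow r ↥F) := inferInstance
    refine (R.pow_dvd_card_of_pow_dvd_card hrk).trans (Subgroup.card_dvd_of_le ?_)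
    haveI hRn : (R : Subgroup ↥F).Normal :=
      R.normal_of_normalizerCondition Group.normalizerCondition_of_isNilpotent
    set Z := (R : Subgroup ↥F).map F.subtype with hZdef
    have hZF : Z ≤ F := Subgroup.map_subtype_le _
    have hZc : Z ≤ St c := (hZF.trans hFW).trans (Wc_le c)
    have hZp : IsPGroup r Z := R.isPGroup'.map _
    have hZn : St c ≤ Subgroup.normalizer (Z : Set G) := fun g hg => by
      refine Fusion.mem_normalizer_of_cj_le ?_
      rintro _ ⟨_, ⟨y, hy, rfl⟩, rfl⟩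
      let σ : MulAut ↥F := Subgroup.normalizerMonoidHom F ⟨g, hFn hg⟩
      haveI := R.characteristic_of_normal hRn
      refine ⟨σ y, ?_, rfl⟩
      rw [← (R.characteristic_of_normal hRn).fixed σ] at hy
      exact hy
    suffices hcomm : ∀ z ∈ Z, Commute t z by
      intro y hy
      exact Subgroup.mem_subgroupOf.2 (Subgroup.mem_centralizer_singleton_iff.2
        (hcomm _ ⟨y, hy, rfl⟩).eq.symm)
    by_cases hrm : r ∣ Bender.numInv H
    · obtain ⟨a, hca⟩ := exists_ne hse c
      obtain ⟨P, hP, hPfix⟩ := exists_sylow_pair' hse hm hN hIdx hrm hca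
      have hZP : Z ≤ P := by
        have h := hP.eq_of_le (hP.isPGroup.to_sup_of_normal_right' hZp (hP.1.trans hZn))
          (sup_le hP.1 hZc) le_sup_left
        exact h ▸ le_sup_right
      have ha : a ∈ Bender.fixSet H P := hPfix ▸ Or.inr rfl
      have hbot := normal_fix_bot hse hN hm hca hZc (hZP.trans ha) hZn
      intro z hz
      rw [Subgroup.eq_bot_iff_forall] at hbot
      rw [hbot z hz]
      exact Commute.one_right t
    · set S := {s : G // orderOf s = 2 ∧ s • c = c}
      letI : MulAction Z S :=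
        { smul := fun z s => ⟨(z : G) * s.1 * (z : G)⁻¹, conj_involution s.2.1 _, by
            rw [mul_smul, mul_smul, inv_smul_eq_iff.2 (show (z : G) • c = c from hZc z.2).symm, s.2.2,
              show (z : G) • c = c from hZc z.2]⟩
          one_smul := fun s => Subtype.ext (by show (1 : G) * s.1 * (1 : G)⁻¹ = s.1; group)
          mul_smul := fun a b s => Subtype.ext (by
            show (a : G) * b * s.1 * ((a : G) * b)⁻¹ = a * (b * s.1 * (b : G)⁻¹) * (a : G)⁻¹; group) }
      have hcard : ¬ r ∣ Nat.card S := by rwa [Bender.card_fixing c]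
      obtain ⟨s, hs⟩ := hZp.nonempty_fixed_point_of_prime_not_dvd_card S hcard
      obtain ⟨a, hca⟩ := exists_ne hse c
      obtain ⟨k, hkc, -, hk⟩ := pair_transitive hse hca s.2.1 s.2.2 ht htc
      intro z hz
      have hz' : k⁻¹ * z * k ∈ Z := by simpa using Solv.conj_mem_of_mem_normalizer (inv_mem (hZn hkc)) hz
      have h : k⁻¹ * z * k * s.1 * (k⁻¹ * z * k)⁻¹ = s.1 := congrArg Subtype.val (hs ⟨_, hz'⟩)
      have h' : z * t * z⁻¹ = t := by
        rw [← hk]
        calc z * (k * s.1 * k⁻¹) * z⁻¹ = k * (k⁻¹ * z * k * s.1 * (k⁻¹ * z * k)⁻¹) * k⁻¹ := by group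
          _ = _ := by rw [h]
      exact (mul_inv_eq_iff_eq_mul.1 h').symm
  -- `[t, x]` lies in the centraliser of the Fitting subgroup
  have htW : t ∈ Subgroup.normalizer (W : Set G) := St_le_normalizer_Wc c htc
  set f := t * x * t⁻¹ * x⁻¹ with hf
  have hfW : f ∈ W := mul_mem (Solv.conj_mem_of_mem_normalizer htW hx) (inv_mem hx)
  have hfC : f ∈ Subgroup.centralizer (F : Set G) := by
    refine Subgroup.mem_centralizer_iff.2 fun y hy => ?_
    have hy' : x⁻¹ * y * x ∈ F := by
      simpa using Solv.conj_mem_of_mem_normalizer (inv_mem (hFn (Wc_le c hx))) hy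
    have h1 : t * y * t⁻¹ = y := mul_inv_eq_iff_eq_mul.2 (htFc y hy).eq
    have h2 : t⁻¹ * (x⁻¹ * y * x) * t = x⁻¹ * y * x := by
      rw [mul_assoc, ← (htFc _ hy').eq, inv_mul_cancel_left]
    refine (mul_inv_eq_iff_eq_mul.1 (?_ : f * y * f⁻¹ = y)).symm
    calc f * y * f⁻¹ = t * x * (t⁻¹ * (x⁻¹ * y * x) * t) * x⁻¹ * t⁻¹ := by rw [hf]; group
      _ = t * y * t⁻¹ := by rw [h2]; group
      _ = y := h1
  have hfF : f ∈ F := by
    have h := Solv.centralizer_fitting_le hWs (Subgroup.mem_centralizer_iff.2 fun z hz =>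
      Subtype.ext (Subgroup.mem_centralizer_iff.1 hfC _ (Subgroup.mem_map_of_mem W.subtype hz)) :
      (⟨f, hfW⟩ : W) ∈ Subgroup.centralizer (fittingSubgroup ↥W : Set ↥W))
    exact ⟨⟨f, hfW⟩, h, rfl⟩
  have hf2 : f * f = 1 := by
    have h1 : t * f * t⁻¹ = f := mul_inv_eq_iff_eq_mul.2 (htFc f hfF).eq
    have h2 : t * f * t⁻¹ = f⁻¹ := by
      rw [hf]
      simp only [mul_inv_rev, inv_inv, inv_self ht, mul_assoc]
      rw [← mul_assoc t t, sq_one ht, one_mul]
    rw [h1] at h2
    nth_rewrite 2 [h2]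
    exact mul_inv_cancel f
  have hf1 : f = 1 := by
    by_contra hne
    exact even_of_invol_mem (orderOf_eq_prime (by rw [pow_two]; exact hf2) hne) hfW (Wc_odd c)
  rw [hf, mul_inv_eq_one, mul_inv_eq_iff_eq_mul] at hf1
  exact hf1

/-- Distinct involutions of a point stabiliser are incongruent modulo its odd core. -/
theorem eq_of_mul_mem_Wc' {c : G ⧸ H} {s t : G} (hs : orderOf s = 2) (ht : orderOf t = 2) (hsc : s • c = c)
    (h : s * t ∈ Wc c) : s = t := by
  have hc : Commute s (s * t) := commute_Wc' hse hm hN hIdx hs hsc h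
  have h2 : (s * t) * (s * t) = 1 := by
    calc s * t * (s * t) = s * t * s * t := by group
      _ = s * (s * t) * t := by rw [← hc.eq]
      _ = 1 := by rw [← mul_assoc, sq_one hs, one_mul, sq_one ht]
  by_contra hne
  have hne1 : s * t ≠ 1 := fun e => hne ((eq_inv_of_mul_eq_one_left e).trans (inv_self ht))
  exact even_of_invol_mem (orderOf_eq_prime (by rw [pow_two]; exact h2) hne1) h (Wc_odd c)


omit hIdx
variable (hsol : Group.IsSolvable H) (IH : ∀ M : Subgroup G, M ≠ ⊤ → Claim ↥M)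
include hsol IH

omit hp in
/-- The index condition follows from the induction statement when the subgroup is solvable. -/
theorem index_of_claim (c : G ⧸ H) (M : Subgroup G) (hM : M ≠ ⊤)
    (hs : Cfsg.IsStronglyEmbedded ((St c).subgroupOf M)) (hmM : mbar ↥((St c).subgroupOf M) ≠ 1) :
    ∃ f : ℕ, ((St c).subgroupOf M).index = 2 ^ f + 1 := by
  let e : ↥(M.subgroupOf (St c)) ≃* ↥((St c).subgroupOf M) :=
    { toFun := fun m => ⟨⟨(m : ↥(St c)), m.2⟩, (m : ↥(St c)).2⟩
      invFun := fun m => ⟨⟨(m : ↥M), m.2⟩, (m : ↥M).2⟩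
      left_inv := fun _ => rfl
      right_inv := fun _ => rfl
      map_mul' := fun _ _ => rfl }
  haveI := St_solvable hsol c
  exact (IH M hM _ hs (Group.isSolvable_of_surjective (f := e.toMonoidHom) e.surjective) hmM).1

end Cfsg.Agent.SEB

namespace Cfsg.Agent.SEB

open Cfsg
open Cfsg.Agent.Fusion.SEPairs

universe v

variable {G : Type v} [Group G] [Finite G] {H : Subgroup G} (hse : Cfsg.IsStronglyEmbedded H)
  (hsol : Group.IsSolvable H) (hm : mbar ↥H ≠ 1) (hN : H.normalCore = ⊥)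
  (IH : ∀ M : Subgroup G, M ≠ ⊤ → Claim ↥M)
include hse hsol hm hN IH

theorem noTri_all {p : ℕ} [Fact p.Prime] (t₁ : Tri H p) : ¬ p ∣ numInv (St t₁.c) :=
  noTri_all' hse hm hN (index_of_claim hse hm hN hsol IH) t₁

theorem noInside_all {p : ℕ} [Fact p.Prime] (hdvd : p ∣ Bender.numInv H) : Bender.NoInside H p :=
  noInside_all' hse hm hN (index_of_claim hse hm hN hsol IH) hdvd

/-- A Sylow `p`-subgroup of a point stabiliser with exactly two fixed points, for `p ∣ m`. -/
theorem exists_sylow_pair {p : ℕ} [Fact p.Prime] (hdvd : p ∣ Bender.numInv H) {c a : G ⧸ H}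
    (hca : a ≠ c) : ∃ P : Subgroup G, Solv.IsSylIn p P (St c) ∧ Bender.fixSet H P = {c, a} :=
  exists_sylow_pair' hse hm hN (index_of_claim hse hm hN hsol IH) hdvd hca

/-- The odd core of a point stabiliser centralises its involutions. -/
theorem commute_Wc {c : G ⧸ H} {t : G} (ht : orderOf t = 2) (htc : t • c = c) {x : G} (hx : x ∈ Wc c) :
    Commute t x :=
  commute_Wc' hse hm hN (index_of_claim hse hm hN hsol IH) ht htc hx

/-- Distinct involutions of a point stabiliser are incongruent modulo its odd core. -/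
theorem eq_of_mul_mem_Wc {c : G ⧸ H} {s t : G} (hs : orderOf s = 2) (ht : orderOf t = 2)
    (hsc : s • c = c) (h : s * t ∈ Wc c) : s = t :=
  eq_of_mul_mem_Wc' hse hm hN (index_of_claim hse hm hN hsol IH) hs ht hsc h

end Cfsg.Agent.SEB
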