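import Cfsg.Agent.Lib.Bender.NoInside
import Cfsg.Agent.Lib.Bender.Transitive
import Cfsg.Agent.Lib.Bender.RankOne

/-!
# Strongly embedded configurations inside a subgroup

Transitivity at every point, and the transfer of orbit data to a subgroup moving a centre.
-/

set_option autoImplicit false
set_option linter.style.haveILetI false
set_option linter.unusedSectionVars false

open scoped Pointwise

namespace Cfsg.Agent.SEB

open Cfsg
open Cfsg.Agent.Fusion (SylIn cj)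
open Cfsg.Agent.Fusion.SEPairs

universe u

variable {G : Type u} [Group G] [Finite G] {H : Subgroup G}

omit [Finite G] in
/-- The stabiliser of the base coset. -/
theorem St_base : St (QuotientGroup.mk 1 : G ⧸ H) = H := by
  ext g
  rw [MulAction.mem_stabilizer_iff, smul_mk_eq_iff, inv_one, one_mul, mul_one]

theorem oneClass_of_mbar_eq_one {X : Type*} [Group X] [Finite X] {K : Subgroup X} (h : mbar ↥K = 1) :
    Bender.OneClass K := fun s t hs ht => by
  haveI := (Nat.card_eq_one_iff_unique.1 h).1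
  have h2 : cls (⟨s, hs⟩ : {t : K // orderOf t = 2}) = cls ⟨t, ht⟩ :=
    congrArg Subtype.val (Subsingleton.elim (α := Set.range (cls (X := K))) ⟨_, ⟨s, hs⟩, rfl⟩ ⟨_, ⟨t, ht⟩, rfl⟩)
  exact (cls_eq_iff _ _).1 h2

variable (hse : Cfsg.IsStronglyEmbedded H)
include hse

theorem mbar_point (x y : G ⧸ H) : mbar ↥(St x) = mbar ↥(St y) := by
  obtain ⟨g, hg⟩ := exists_smul_eq' y x
  rw [← hg, mbar_St_smul hse]

theorem mbar_St_base (x : G ⧸ H) : mbar ↥(St x) = mbar ↥H := by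
  rw [mbar_point hse x (QuotientGroup.mk 1)]
  exact mbar_congr (MulEquiv.subgroupCongr St_base)

/-- With more than one class of involutions `H` is transitive on the other cosets. -/
theorem trans_of_mbar (hm : mbar ↥H ≠ 1) (g₁ g₂ : G) (h₁ : g₁ ∉ H) (h₂ : g₂ ∉ H) :
    ∃ h ∈ H, g₂⁻¹ * (h * g₁) ∈ H := by
  obtain ⟨p, hp, hpdvd⟩ := Nat.exists_prime_and_dvd hm
  haveI : Fact p.Prime := ⟨hp⟩
  rw [← mbar_St_base hse (QuotientGroup.mk 1)] at hpdvd
  have hdvd : p ∣ Bender.numInv H := by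
    have h := hpdvd.trans (mbar_St_dvd hse _)
    rwa [St_base] at h
  refine Bender.transitive_of_noInside hse hdvd ?_ g₁ g₂ h₁ h₂
  intro a b c w P hab hw hwa hwc hP hwP hc
  have hca : a ≠ c := fun e => hab (by rw [← hwa, e, hwc])
  subst hwa
  exact no_inside hse hw hwc hca (by rw [mbar_point hse c (QuotientGroup.mk 1)]; exact hpdvd)
    (isSylIn_iff.1 hP) hwP hc

/-- A point stabiliser is transitive on the other points. -/
theorem St_transitive (hm : mbar ↥H ≠ 1) {c x y : G ⧸ H} (hx : x ≠ c) (hy : y ≠ c) :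
    ∃ k ∈ St c, k • x = y := by
  obtain ⟨g, rfl⟩ := QuotientGroup.mk_surjective c
  obtain ⟨g₁, rfl⟩ := QuotientGroup.mk_surjective x
  obtain ⟨g₂, rfl⟩ := QuotientGroup.mk_surjective y
  obtain ⟨h, hh, hmem⟩ := trans_of_mbar hse hm (g⁻¹ * g₁) (g⁻¹ * g₂)
    (fun h => hx (QuotientGroup.eq.2 h).symm) (fun h => hy (QuotientGroup.eq.2 h).symm)
  refine ⟨g * h * g⁻¹, smul_mk_eq_iff.2 (by simpa [mul_assoc] using hh), ?_⟩
  rw [MulAction.Quotient.smul_mk, QuotientGroup.eq, smul_eq_mul]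
  have h' := H.inv_mem hmem
  simpa [mul_assoc] using h'

/-- The orbit of a point stabiliser has `n - 1` points. -/
theorem relIndex_St2 (hm : mbar ↥H ≠ 1) {c x : G ⧸ H} (hx : x ≠ c) :
    (St2 c x).relIndex (St c) + 1 = H.index := by
  classical
  have horb : MulAction.orbit ↥(St c) x = {y | y ≠ c} := by
    ext y
    constructor
    · rintro ⟨k, rfl⟩ e
      have hk : (k : G) • c = c := k.2
      exact hx (smul_left_cancel (k : G) ((e : (k : G) • x = c).trans hk.symm))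
    · intro hy
      obtain ⟨k, hk, hkx⟩ := St_transitive hse hm hx hy
      exact ⟨⟨k, hk⟩, hkx⟩
  have hst : MulAction.stabilizer ↥(St c) x = (St2 c x).subgroupOf (St c) := by
    ext k
    rw [MulAction.mem_stabilizer_iff, Subgroup.mem_subgroupOf, Subgroup.mem_inf]
    exact ⟨fun h => ⟨k.2, h⟩, fun h => h.2⟩
  have h1 : (St2 c x).relIndex (St c) = Nat.card {y : G ⧸ H | y ≠ c} := by
    rw [Subgroup.relIndex, ← hst, MulAction.index_stabilizer, horb, Nat.card_coe_set_eq]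
  rw [h1, Nat.card_coe_set_eq, Subgroup.index_eq_card, ← Set.ncard_univ,
    show {y : G ⧸ H | y ≠ c} = Set.univ \ {c} by ext; simp]
  exact Set.ncard_sdiff_singleton_add_one (Set.mem_univ c) (Set.toFinite _)

/-- Orbit data for a subgroup moving a centre. -/
theorem sub_orbit {u : G} (hu : orderOf u = 2) {c : G ⧸ H} (huc : u • c = c) {M : Subgroup G} (huM : u ∈ M)
    (hmove : ∃ g ∈ M, g • c ≠ c) (hm : mbar ↥((St c).subgroupOf M) ≠ 1)
    {g₁ g₂ : G} (hg₁ : g₁ ∈ M) (hg₂ : g₂ ∈ M) (h₁ : g₁ • c ≠ c) (h₂ : g₂ • c ≠ c) :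
    (∃ k ∈ M ⊓ St c, k • g₁ • c = g₂ • c) ∧
      (M ⊓ St2 c (g₁ • c)).relIndex (M ⊓ St c) + 1 = ((St c).subgroupOf M).index := by
  have hseM := se_sub hse hu huc huM hmove
  constructor
  · obtain ⟨k, hk, hkg⟩ := trans_of_mbar hseM hm ⟨g₁, hg₁⟩ ⟨g₂, hg₂⟩ h₁ h₂
    refine ⟨k, ⟨k.2, hk⟩, ?_⟩
    have e : ((g₂⁻¹ : G) * ((k : G) * g₁)) • c = c := hkg
    rwa [mul_smul, inv_smul_eq_iff, mul_smul] at e
  · have hne : (QuotientGroup.mk (⟨g₁, hg₁⟩ : M) : M ⧸ (St c).subgroupOf M) ≠ QuotientGroup.mk 1 := fun e => by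
      rw [QuotientGroup.eq, mul_one] at e
      have e' : (g₁⁻¹ : G) • c = c := e
      exact h₁ (inv_smul_eq_iff.1 e').symm
    have h := relIndex_St2 hseM hm hne
    have e1 : St (QuotientGroup.mk 1 : M ⧸ (St c).subgroupOf M) = (M ⊓ St c).subgroupOf M := by
      rw [St_base, Subgroup.inf_subgroupOf_left]
    have e2 : St2 (QuotientGroup.mk 1) (QuotientGroup.mk (⟨g₁, hg₁⟩ : M) : M ⧸ (St c).subgroupOf M) =
        (M ⊓ St2 c (g₁ • c)).subgroupOf M := by
      show St _ ⊓ St _ = _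
      rw [St_base]
      ext m
      rw [Subgroup.mem_inf, MulAction.mem_stabilizer_iff, smul_mk_eq_iff]
      refine ⟨fun hh => ⟨m.2, hh.1, ?_⟩, fun hh => ⟨hh.2.1, ?_⟩⟩
      · have h' : ((g₁⁻¹ : G) * m * g₁) • c = c := hh.2
        rwa [mul_smul, mul_smul, inv_smul_eq_iff] at h'
      · have h' : (m : G) • g₁ • c = g₁ • c := hh.2.2
        show ((g₁⁻¹ : G) * m * g₁) • c = c
        rw [mul_smul, mul_smul, inv_smul_eq_iff]
        exact h'
    rw [e1, e2, Subgroup.relIndex_subgroupOf inf_le_left] at h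
    exact h

end Cfsg.Agent.SEB
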