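import Cfsg.Agent.Lib.Bender.Tri

/-!
# Bender transitivity: some inside triangle has equal `p'`-cores
-/

set_option autoImplicit false
set_option linter.style.haveILetI false
set_option linter.unusedSectionVars false

open scoped Pointwise commutatorElement

namespace Cfsg.Agent.SEB

open Cfsg
open Cfsg.Agent.Fusion (SylIn cj)
open Cfsg.Agent.Fusion.SEPairs

universe u

variable {G : Type u} [Group G] [Finite G] {H : Subgroup G} {p : ℕ} [hp : Fact p.Prime]

/-- A family of good triangles closed under taking sides contains one with equal cores. -/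
theorem exists_eq_of_closed (hse : Cfsg.IsStronglyEmbedded H) (hp2 : p ≠ 2) (S : Tri H p → Prop)
    (hne : ∃ t, S t) (hgood : ∀ t, S t → t.Good)
    (hsucc : ∀ t, S t → ∃ t', S t' ∧ Nat.card t'.K = Nat.card t.Ks) :
    ∃ t : Tri H p, t.K = t.Ks := by
  classical
  have hb : ∀ t : Tri H p, Nat.card t.K ≤ Nat.card G :=
    fun t => Nat.le_of_dvd Nat.card_pos t.K.card_subgroup_dvd_card
  obtain ⟨t₀, ht₀⟩ := hne
  set N := Nat.findGreatest (fun n => ∃ t, S t ∧ Nat.card t.K = n) (Nat.card G) with hN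
  obtain ⟨t, ht, htN⟩ : ∃ t, S t ∧ Nat.card t.K = N :=
    Nat.findGreatest_spec (P := fun n => ∃ t, S t ∧ Nat.card t.K = n) (hb t₀) ⟨t₀, ht₀, rfl⟩
  have hmax : ∀ s, S s → Nat.card s.K ≤ N := fun s hs => Nat.le_findGreatest (hb s) ⟨s, hs, rfl⟩
  obtain ⟨t', ht', hcard⟩ := hsucc t ht
  exact ⟨t, Subgroup.eq_of_le_of_card_ge (t.K_le_Ks hse hp2 (hgood t ht))
    (by rw [← hcard, htN]; exact hmax t' ht')⟩

variable (hse : Cfsg.IsStronglyEmbedded H)
include hse

/-- The successor when `C(Y)` fixes the centre. -/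
theorem next_fix (t : Tri H p) (hC : Subgroup.centralizer (t.Y : Set G) ≤ St t.c) :
    ∃ t' : Tri H p, Subgroup.centralizer (t'.Y : Set G) ≤ St t'.c ∧ Nat.card t'.K = Nat.card t.Ks := by
  obtain ⟨w, hw, hwc, hwP⟩ := exists_swapper_normalizing hse t.hca.symm (t.sylIn_side hse)
  obtain ⟨g, hg, hgw⟩ := conj_in hse t.hu t.huc (M := Subgroup.normalizer (t.P : Set G)) t.huP
    ⟨w, hwP, by rw [hwc]; exact t.hca⟩ hw hwP
  have hgP : cj t.P g = t.P := Fusion.cj_eq_self hg
  have hwd : w • g • t.c = g • t.c := by rw [← hgw, mul_smul, mul_smul, inv_smul_smul, t.huc]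
  let t' : Tri H p :=
    { u := w, c := g • t.c, a := t.c, P := t.P, hu := hw, huc := hwd
      hca := fun e => t.hca (by rw [← hwc]; conv_rhs => rw [e, ← hwd, ← e])
      hP := by rw [hwc]; exact t.sylIn_side hse
      huP := hwP
      hPc := by rw [St_smul, ← hgP]; exact Fusion.cj_mono t.hPc g }
  refine ⟨t', ?_, ?_⟩
  · show Subgroup.centralizer (cm t.P w : Set G) ≤ St (g • t.c)
    rw [show cm t.P w = cj t.Y g by rw [Tri.Y, cj_cm, hgP, hgw], ← Fusion.cj_centralizer, St_smul]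
    exact Fusion.cj_mono hC g
  · show Nat.card ↥(pcoreIn p (St2 t.c (w • t.c))) = _
    rw [hwc]

/-- The derived series of `C` inside `G`. -/
def series (C : Subgroup G) : ℕ → Subgroup G
  | 0 => C
  | n + 1 => ⁅series C n, series C n⁆

omit hse [Finite G] in
theorem series_le (C : Subgroup G) : ∀ n, series C n ≤ C
  | 0 => le_rfl
  | n + 1 => (Subgroup.commutator_le_self _).trans (series_le C n)

omit hse [Finite G] in
theorem series_map (C : Subgroup G) : ∀ n, (derivedSeries ↥C n).map C.subtype = series C n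
  | 0 => by rw [derivedSeries_zero, ← MonoidHom.range_eq_map, Subgroup.range_subtype]; rfl
  | n + 1 => by rw [derivedSeries_succ, Subgroup.map_commutator, series_map C n]; rfl

omit hse [Finite G] in
theorem series_normalizer (C : Subgroup G) {g : G} (hg : g ∈ Subgroup.normalizer (C : Set G)) :
    ∀ n, cj (series C n) g = series C n
  | 0 => Fusion.cj_eq_self hg
  | n + 1 => by rw [series, Fusion.cj_commutator, series_normalizer C hg n]

/-- In the odd centraliser: an abelian-acting subgroup moving the centre. -/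
theorem exists_abelian_mover {u : G} {c : G ⧸ H} {C : Subgroup G} (hCodd : Odd (Nat.card C))
    (hmove : ¬ C ≤ St c) (huC : u ∈ Subgroup.normalizer (C : Set G)) :
    ∃ A : Subgroup G, A ≤ C ∧ u ∈ Subgroup.normalizer (A : Set G) ∧
      C ≤ Subgroup.normalizer (A : Set G) ∧ (∃ α ∈ A, α • c ≠ c) ∧
      ∀ x ∈ A, ∀ y ∈ A, ∀ g ∈ C, x • y • g • c = y • x • g • c := by
  classical
  obtain ⟨n, hn⟩ : ∃ n, ∀ x ∈ series C n, ∀ g ∈ C, x • g • c = g • c := by
    obtain ⟨n, hn⟩ := (Group.isSolvable_def _).1 (odd_solvable hCodd)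
    refine ⟨n, fun x hx g _ => ?_⟩
    rw [← series_map, hn, Subgroup.map_bot, Subgroup.mem_bot] at hx
    rw [hx, one_smul]
  induction n with
  | zero =>
    exfalso
    exact hmove fun x hx => by simpa using hn x hx 1 (one_mem _)
  | succ n ih =>
    by_cases hfix : ∀ x ∈ series C n, ∀ g ∈ C, x • g • c = g • c
    · exact ih hfix
    have hCn : C ≤ Subgroup.normalizer (series C n : Set G) := fun g hg =>
      Fusion.mem_normalizer_iff_cj.2 (series_normalizer C (Subgroup.le_normalizer hg) n)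
    refine ⟨series C n, series_le C n, Fusion.mem_normalizer_iff_cj.2 (series_normalizer C huC n), hCn,
      ?_, fun x hx y hy g hg => ?_⟩
    · by_contra h
      push Not at h
      refine hfix fun x hx g hg => ?_
      have h1 := h _ (Solv.conj_mem_of_mem_normalizer (hCn (inv_mem hg)) hx)
      rw [inv_inv, mul_smul, mul_smul, inv_smul_eq_iff] at h1
      exact h1
    · have h1 : ⁅y, x⁆ ∈ series C (n + 1) := Subgroup.commutator_mem_commutator hy hx
      have h2 := hn _ h1 (x * y * g)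
        (mul_mem (mul_mem (series_le C n hx) (series_le C n hy)) hg)
      rw [← mul_smul, ← mul_smul, ← mul_smul, ← mul_smul]
      rw [← mul_smul, commutatorElement_def] at h2
      rw [show y * x * y⁻¹ * x⁻¹ * (x * y * g) = y * x * g by group] at h2
      exact h2.symm

theorem numInv_eq (x y : G ⧸ H) : numInv (St x) = numInv (St y) := numInv_St hse x y

/-- Some inside triangle has `O_{p'}(G_ab) = O_{p'}(G_ca)`. -/
theorem exists_equal (t₁ : Tri H p) (hpm : p ∣ numInv (St t₁.c)) : ∃ t : Tri H p, t.K = t.Ks := by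
  classical
  have hp2 : p ≠ 2 := fun e => by
    subst e
    exact Nat.not_even_iff_odd.2 (numInv_odd hse t₁.c) (even_iff_two_dvd.2 hpm)
  have hb : ∀ t : Tri H p, Nat.card t.Y ≤ Nat.card G :=
    fun t => Nat.le_of_dvd Nat.card_pos t.Y.card_subgroup_dvd_card
  set N := Nat.findGreatest (fun n => ∃ t : Tri H p, Nat.card t.Y = n) (Nat.card G) with hN
  obtain ⟨t₀, htN⟩ : ∃ t : Tri H p, Nat.card t.Y = N :=
    Nat.findGreatest_spec (P := fun n => ∃ t : Tri H p, Nat.card t.Y = n) (hb t₁) ⟨t₁, rfl⟩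
  have hmax : ∀ s : Tri H p, Nat.card s.Y ≤ N := fun s => Nat.le_findGreatest (hb s) ⟨s, rfl⟩
  by_cases hC : Subgroup.centralizer (t₀.Y : Set G) ≤ St t₀.c
  · exact exists_eq_of_closed hse hp2 (fun t => Subgroup.centralizer (t.Y : Set G) ≤ St t.c) ⟨t₀, hC⟩
      (fun t ht x hx _ _ => ht hx) (fun t ht => next_fix hse t ht)
  -- the centraliser of `Y` is odd and moves the centre
  obtain ⟨u, hu, huc, Y, hY⟩ :
      ∃ u, orderOf u = 2 ∧ u • t₀.c = t₀.c ∧ ∃ Y, Y = t₀.Y ∧ u = t₀.u ∧ True := ⟨t₀.u, t₀.hu, t₀.huc, _, rfl, rfl, trivial⟩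
  obtain ⟨hY, rfl, -⟩ := hY
  set c := t₀.c with hc
  set C := Subgroup.centralizer (Y : Set G) with hCdef
  rw [← hY] at hC htN
  have hYne : t₀.Y ≠ ⊥ := t₀.Y_ne_bot hse (numInv_St hse t₁.c t₀.c ▸ hpm)
  have hCnorm : Subgroup.normalizer (Y : Set G) ≤ Subgroup.normalizer (C : Set G) := fun g hg =>
    Fusion.mem_normalizer_iff_cj.2 (by rw [hCdef, Fusion.cj_centralizer, Fusion.cj_eq_self hg])
  have huY : t₀.u ∈ Subgroup.normalizer (Y : Set G) := hY ▸ t₀.u_mem_normalizer_Y
  obtain ⟨x₀, hx₀, hx₀c⟩ := Set.not_subset.1 hC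
  have hCM : C ≤ Subgroup.normalizer (Y : Set G) := hCdef ▸ Subgroup.centralizer_le_normalizer _
  have hCodd : Odd (Nat.card C) := odd_of_no_invol fun w hwC hw2 => by
    obtain ⟨g, hg, hgw⟩ := conj_in hse hu huc (M := Subgroup.normalizer (Y : Set G)) huY
      ⟨x₀, hCM hx₀, hx₀c⟩ hw2 (hCM hwC)
    refine t₀.u_not_mem_centralizer hse hYne ?_
    rw [← hY]
    have := Solv.conj_mem_of_mem_normalizer (inv_mem (hCnorm hg)) hwC
    rwa [← hgw, show g⁻¹ * (g * t₀.u * g⁻¹) * g⁻¹⁻¹ = t₀.u by group] at this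
  obtain ⟨A, hAC, huA, hCA, ⟨α₀, hα₀, hα₀c⟩, habel⟩ :=
    exists_abelian_mover hse hCodd hC (hCnorm huY) (c := c)
  have habel' : ∀ x ∈ A, ∀ y ∈ A, x • y • c = y • x • c := fun x hx y hy => by
    simpa using habel x hx y hy 1 (one_mem _)
  have hopp : ∀ α ∈ A, t₀.u • α • c = α⁻¹ • c := by
    intro α hα
    set α' := t₀.u * α * t₀.u⁻¹ with hα'
    have hα'A : α' ∈ A := Solv.conj_mem_of_mem_normalizer huA hα
    have h1 : t₀.u • α • c = α' • c := by
      rw [hα', mul_smul, mul_smul, show t₀.u⁻¹ • c = c from inv_smul_eq_iff.2 huc.symm]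
    have h2 : t₀.u • α' • α • c = α • α' • c := by
      have e : t₀.u * α' * α = α * α' * t₀.u := by
        rw [hα', inv_self hu]
        calc t₀.u * (t₀.u * α * t₀.u) * α = (t₀.u * t₀.u) * α * t₀.u * α := by group
          _ = α * t₀.u * α * (t₀.u * t₀.u) := by rw [sq_one hu]; group
          _ = α * (t₀.u * α * t₀.u) * t₀.u := by group
      have e2 := congrArg (fun z : G => z • c) e
      simpa only [mul_smul, huc] using e2
    have h3 : α' • α • c = c := fixed_unique hse hu (by rw [h2, habel' _ hα _ hα'A]) huc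
    rw [h1, eq_inv_smul_iff, habel' _ hα _ hα'A, h3]
  have hsq : ∀ α ∈ A, α • α • c = c → α • c = c := by
    intro α hα h
    obtain ⟨k, hk, -⟩ := Lie.exists_sqrt (Odd.of_dvd_nat hCodd (Subgroup.card_dvd_of_le hAC)) hα
    have h1 : (α * α) ^ k ∈ St c := Subgroup.pow_mem _ (show (α * α) • c = c by rw [mul_smul]; exact h) k
    rw [(Commute.refl α).mul_pow, hk] at h1
    exact h1
  have hgoodB : ∀ α ∈ A, ∀ x ∈ C, x • α • c = α • c → x • α⁻¹ • c = α⁻¹ • c → x • c = c := by
    intro α hα x hx h1 h2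
    set β := x * α⁻¹ * x⁻¹ * α with hβ
    have hx1 : x * α * x⁻¹ ∈ A := Solv.conj_mem_of_mem_normalizer (hCA hx) hα
    have hx2 : x * α⁻¹ * x⁻¹ ∈ A := Solv.conj_mem_of_mem_normalizer (hCA hx) (inv_mem hα)
    have hβA : β ∈ A := mul_mem hx2 hα
    have e1 : x • c = β • c := by
      rw [hβ, mul_smul, mul_smul, mul_smul]
      conv_rhs => rw [inv_smul_eq_iff.2 h1.symm, inv_smul_smul]
    have e2 : x • c = (x * α * x⁻¹ * α⁻¹) • c := by
      rw [mul_smul, mul_smul, mul_smul]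
      conv_rhs => rw [inv_smul_eq_iff.2 h2.symm, smul_inv_smul]
    have e3 : β • x • c = c := by
      rw [e2, hβ, mul_smul _ α, mul_smul (x * α * x⁻¹), habel' _ hx1 _ (inv_mem hα),
        smul_inv_smul]
      rw [← mul_smul, show x * α⁻¹ * x⁻¹ * (x * α * x⁻¹) = 1 by group, one_smul]
    rw [e1] at e3 ⊢
    exact hsq β hβA e3
  have mk : ∀ α ∈ A, α • c ≠ c → ∃ t : Tri H p, t.u = t₀.u ∧ t.c = c ∧ t.Y = Y ∧ t.a = α • c := by
    intro α hα hαc
    have hb' := hopp α hα
    have hD := St2_odd hse (ne_of_move hse hu huc hαc).symm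
    set E := St2 (α • c) (t₀.u • α • c) ⊓ St c with hE
    have hYc : Y ≤ St c := hY ▸ t₀.Y_le.trans t₀.hPc
    have hfix : ∀ g ∈ C, ∀ y ∈ Y, y • g • c = g • c := fun g hg y hy => by
      rw [smul_smul, Subgroup.mem_centralizer_iff.1 hg y hy, ← smul_smul, show y • c = c from hYc hy]
    have hYE : Y ≤ E := fun y hy => ⟨⟨hfix α (hAC hα) y hy, by
      show y • t₀.u • α • c = _
      rw [hb']; exact hfix α⁻¹ (inv_mem (hAC hα)) y hy⟩, hYc hy⟩
    have huE : t₀.u ∈ Subgroup.normalizer (E : Set G) := Fusion.mem_normalizer_iff_cj.2 (by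
      rw [hE, Fusion.cj_inf, cj_St2, smul_smul_self hu, St2_comm, ← St_smul, huc])
    have hEodd : Odd (Nat.card E) := Odd.of_dvd_nat hD (Subgroup.card_dvd_of_le inf_le_left)
    obtain ⟨P, hP, hYP, huP⟩ := Solv.exists_invariant_sylow_ge (A := Subgroup.zpowers t₀.u)
      (Subgroup.zpowers_le.2 huE) (zpowers_coprime hse hu hEodd) (Or.inr (odd_solvable hEodd)) Y hYE
      (t₀.hP.isPGroup.to_le (hY ▸ t₀.Y_le)) (Subgroup.zpowers_le.2 huY)
    have huP' := huP (Subgroup.mem_zpowers _)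
    have hcard : p ^ (Nat.card ↥(St2 (α • c) (t₀.u • α • c))).factorization p ≤ Nat.card P := by
      have hdec := (S1124.result t₀.u hu P (Odd.of_dvd_nat hEodd (Subgroup.card_dvd_of_le hP.1))
        (fun x hx => Solv.conj_mem_of_mem_normalizer huP' hx)).2.1
      have hEC : E ⊓ Subgroup.centralizer {t₀.u} = St (α • c) ⊓ Subgroup.centralizer {t₀.u} := by
        refine le_antisymm (inf_le_inf_right _ (inf_le_left.trans inf_le_left)) fun g hg =>
          ⟨⟨?_, centralizer_le_St hse hu huc hg.2⟩, hg.2⟩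
        have := (inf_centralizer_pair hse hu huc (α • c)).1 ▸ hg
        exact this.1
      rw [hdec, card_inf_centralizer hu hEodd huE (isSylIn_iff.1 hP) huP', hEC, card_pair hse hu huc hαc,
        Nat.factorization_mul (numInv_odd hse c).pos.ne' Nat.card_pos.ne', Finsupp.add_apply, pow_add,
        mul_comm]
      refine Nat.mul_le_mul_left _ ?_
      have h1 := card_inverted hse hu huc t₀.hca t₀.hP t₀.huP
      rw [← h1, Nat.card_coe_set_eq, Nat.card_coe_set_eq]
      exact Set.ncard_le_ncard fun x hx => ⟨hYP (hY ▸ inverted_mem_cm (t₀.odd_P hse) hx), hx.2⟩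
    obtain ⟨T, hT⟩ := Fusion.exists_sylIn (p := p) (St2 (α • c) (t₀.u • α • c))
    have hPD : SylIn p P (St2 (α • c) (t₀.u • α • c)) := hT.of_card_ge hP.isPGroup (hP.1.trans inf_le_left)
      (by rw [(isSylIn_iff.2 hT).2]; exact hcard)
    refine ⟨{ u := t₀.u, c := c, a := α • c, P := P, hu := hu, huc := huc, hca := hαc, hP := hPD
              huP := huP', hPc := hP.1.trans inf_le_right }, rfl, rfl, ?_, rfl⟩
    have hle : Y ≤ cm P t₀.u := by
      have h := t₀.Y_comm hse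
      rw [← hY] at h
      calc Y = ⁅Y, Subgroup.zpowers t₀.u⁆ := h.symm
        _ ≤ _ := Subgroup.commutator_mono hYP le_rfl
    refine (Subgroup.eq_of_le_of_card_ge hle ?_).symm
    rw [htN]
    exact hmax { u := t₀.u, c := c, a := α • c, P := P, hu := hu, huc := huc, hca := hαc, hP := hPD
                 huP := huP', hPc := hP.1.trans inf_le_right }
  refine exists_eq_of_closed hse hp2
    (fun t => t.u = t₀.u ∧ t.c = c ∧ t.Y = Y ∧ ∃ α ∈ A, t.a = α • c) ?_ ?_ ?_
  · obtain ⟨t, h1, h2, h3, h4⟩ := mk α₀ hα₀ hα₀c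
    exact ⟨t, h1, h2, h3, α₀, hα₀, h4⟩
  · rintro t ⟨h1, h2, h3, α, hα, h4⟩ x hx e1 e2
    rw [h3] at hx
    rw [h4] at e1
    rw [h1, h4, hopp α hα] at e2
    rw [h2]
    exact hgoodB α hα x hx e1 e2
  · rintro t ⟨h1, h2, h3, α, hα, h4⟩
    obtain ⟨k, hk, hγ⟩ := Lie.exists_sqrt (Odd.of_dvd_nat hCodd (Subgroup.card_dvd_of_le hAC)) hα
    have hγc : α ^ k • c ≠ c := fun e => t.hca (by
      rw [h4, h2, ← hk, mul_smul, e, e])
    obtain ⟨t', g1, g2, g3, g4⟩ := mk _ hγ hγc
    refine ⟨t', ⟨g1, g2, g3, _, hγ, g4⟩, ?_⟩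
    show Nat.card ↥(pcoreIn p (St2 t'.a (t'.u • t'.a))) = Nat.card ↥(pcoreIn p (St2 t.c t.a))
    rw [g4, g1, hopp _ hγ, h2, h4, ← Fusion.card_cj (pcoreIn p (St2 (α ^ k • c) ((α ^ k)⁻¹ • c))) (α ^ k),
      cj_pcoreIn, cj_St2, ← mul_smul, hk, smul_inv_smul, St2_comm]

end Cfsg.Agent.SEB
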