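import Cfsg.Agent.Lib.Bender.SolvCore
import Cfsg.Agent.Lib.Bender.NormalSylow

/-!
# A solvable strongly embedded subgroup: involutions and their centraliser

The involutions at a point commute; the centraliser of all of them in the point stabiliser has odd
index; it is transitive on the other points unless the group has a suitable normal subgroup.
-/

set_option autoImplicit false
set_option linter.style.haveILetI false
set_option linter.unusedSectionVars false

open scoped Pointwise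

namespace Cfsg.Agent.SEB

open Cfsg
open Cfsg.Agent.Fusion (SylIn cj)
open Cfsg.Agent.Fusion.SEPairs

universe u

variable {G : Type u} [Group G] {H : Subgroup G}

/-- The involutions fixing a point, with the identity, as a subgroup. -/
def Ec (c : G ⧸ H) : Subgroup G := Subgroup.closure {t | orderOf t = 2 ∧ t • c = c}

/-- The elements fixing a point and centralising its involutions. -/
def Kc (c : G ⧸ H) : Subgroup G :=
  St c ⊓ Subgroup.centralizer {t | orderOf t = 2 ∧ t • c = c}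

theorem mem_Kc {c : G ⧸ H} {g : G} :
    g ∈ Kc c ↔ g • c = c ∧ ∀ t : G, orderOf t = 2 → t • c = c → Commute g t := by
  rw [Kc, Subgroup.mem_inf, MulAction.mem_stabilizer_iff, Subgroup.mem_centralizer_iff]
  exact and_congr_right fun _ => ⟨fun h t ht htc => (h t ⟨ht, htc⟩).symm, fun h t ht => (h t ht.1 ht.2).eq.symm⟩

theorem Kc_le (c : G ⧸ H) : Kc c ≤ St c := inf_le_left

theorem smul_involSet {c : G ⧸ H} {k t : G} (hk : k • c = c) (ht : orderOf t = 2 ∧ t • c = c) :
    orderOf (k * t * k⁻¹) = 2 ∧ (k * t * k⁻¹) • c = c :=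
  ⟨conj_involution ht.1 k, by rw [mul_smul, mul_smul, inv_smul_eq_iff.2 hk.symm, ht.2, hk]⟩

theorem St_le_normalizer_Kc [Finite G] (c : G ⧸ H) : St c ≤ Subgroup.normalizer (Kc c : Set G) := fun k hk => by
  refine Fusion.mem_normalizer_of_cj_le ?_
  rintro _ ⟨g, hg, rfl⟩
  rw [SetLike.mem_coe, mem_Kc] at hg
  obtain ⟨hgc, hgt⟩ := hg
  have hkc : k • c = c := hk
  show k * g * k⁻¹ ∈ Kc c
  refine mem_Kc.2 ⟨by rw [mul_smul, mul_smul, inv_smul_eq_iff.2 hkc.symm, hgc, hkc], fun t ht htc => ?_⟩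
  have h' := smul_involSet (inv_smul_eq_iff.2 hkc.symm) ⟨ht, htc⟩
  have h := hgt _ h'.1 h'.2
  show k * g * k⁻¹ * t = t * (k * g * k⁻¹)
  calc k * g * k⁻¹ * t = k * (g * (k⁻¹ * t * k⁻¹⁻¹)) * k⁻¹ := by group
    _ = k * ((k⁻¹ * t * k⁻¹⁻¹) * g) * k⁻¹ := by rw [h.eq]
    _ = _ := by group

theorem mem_Ec {c : G ⧸ H}
    (hcomm : ∀ s t : G, orderOf s = 2 → orderOf t = 2 → s • c = c → t • c = c → Commute s t) {g : G} :
    g ∈ Ec c ↔ g • c = c ∧ g * g = 1 := by
  constructor
  · intro hg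
    have hc : IsMulCommutative (Ec c) := Subgroup.isMulCommutative_closure
      fun s hs t ht => (hcomm s t hs.1 ht.1 hs.2 ht.2).eq
    induction hg using Subgroup.closure_induction with
    | mem t ht => exact ⟨ht.2, sq_one ht.1⟩
    | one => exact ⟨one_smul _ _, one_mul 1⟩
    | mul a b ha hb iha ihb =>
      refine ⟨by rw [mul_smul, ihb.1, iha.1], ?_⟩
      have h : a * b = b * a := congrArg Subtype.val (hc.is_comm.comm (⟨a, ha⟩ : Ec c) ⟨b, hb⟩)
      calc a * b * (a * b) = a * (b * a) * b := by group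
        _ = a * a * (b * b) := by rw [← h]; group
        _ = 1 := by rw [iha.2, ihb.2, one_mul]
    | inv a _ iha => exact ⟨inv_smul_eq_iff.2 iha.1.symm, by rw [← mul_inv_rev, iha.2, inv_one]⟩
  · rintro ⟨hgc, hg2⟩
    by_cases h1 : g = 1
    · rw [h1]; exact one_mem _
    · exact Subgroup.subset_closure ⟨orderOf_eq_prime (by rw [pow_two]; exact hg2) h1, hgc⟩

variable [Finite G] (hse : Cfsg.IsStronglyEmbedded H)
include hse

/-- A normal subgroup of a point stabiliser centralising one involution there centralises all. -/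
theorem le_Kc_of_commute {c : G ⧸ H} {t : G} (ht : orderOf t = 2) (htc : t • c = c) {A : Subgroup G}
    (hAc : A ≤ St c) (hA : St c ≤ Subgroup.normalizer (A : Set G)) (h : ∀ x ∈ A, Commute x t) :
    A ≤ Kc c := fun x hx => mem_Kc.2 ⟨hAc hx, fun s hs hsc => by
  obtain ⟨a, hca⟩ := exists_ne hse c
  obtain ⟨k, hk, -, hks⟩ := pair_transitive hse hca ht htc hs hsc
  have h' := h _ (Solv.conj_mem_of_mem_normalizer (inv_mem (hA hk)) hx)
  rw [inv_inv] at h'
  show x * s = s * x
  rw [← hks]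
  calc x * (k * t * k⁻¹) = k * ((k⁻¹ * x * k) * t) * k⁻¹ := by group
    _ = k * (t * (k⁻¹ * x * k)) * k⁻¹ := by rw [h'.eq]
    _ = _ := by group⟩

variable (hsol : Group.IsSolvable H) (hm : mbar ↥H ≠ 1) (hN : H.normalCore = ⊥)
  (IH : ∀ M : Subgroup G, M ≠ ⊤ → Claim ↥M)
include hsol hm hN IH

/-- The involutions at a point commute. -/
theorem commute_invol {c : G ⧸ H} {s t : G} (hs : orderOf s = 2) (ht : orderOf t = 2) (hsc : s • c = c)
    (htc : t • c = c) : Commute s t := by
  classical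
  set X := St c
  haveI hX : Group.IsSolvable ↥X := St_solvable hsol c
  obtain ⟨n, hn⟩ := Group.IsSolvable.solvable (G := ↥X)
  obtain ⟨k, hk, hk1⟩ : ∃ k, ¬ derivedSeries ↥X k ≤ pPrimeCore 2 ↥X ∧
      derivedSeries ↥X (k + 1) ≤ pPrimeCore 2 ↥X := by
    have hex : ∃ k, derivedSeries ↥X k ≤ pPrimeCore 2 ↥X := ⟨n, hn ▸ bot_le⟩
    rcases h0 : Nat.find hex with _ | k
    · exfalso
      have h := Nat.find_spec hex
      rw [h0, derivedSeries_zero] at h
      exact even_of_invol_mem (t := (⟨s, hsc⟩ : X)) ((Subgroup.orderOf_coe _).symm.trans hs)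
        (h (Subgroup.mem_top _)) (card_oddCore_odd' _)
    · exact ⟨k, Nat.find_min hex (by omega), h0 ▸ Nat.find_spec hex⟩
  haveI := derivedSeries_normal (G := ↥X) k
  obtain ⟨y, hy, hy2⟩ : ∃ y ∈ derivedSeries ↥X k, orderOf y = 2 := by
    by_contra h
    push Not at h
    exact hk (le_oddCore (odd_of_no_invol h))
  have hall : ∀ z : ↥X, orderOf z = 2 → z ∈ derivedSeries ↥X k := fun z hz => by
    obtain ⟨a, hca⟩ := exists_ne hse c
    obtain ⟨d, hd, -, hdz⟩ := pair_transitive hse hca (by rwa [Subgroup.orderOf_coe]) y.2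
      (by rwa [Subgroup.orderOf_coe]) z.2
    rw [← show (⟨d, hd⟩ : X) * y * (⟨d, hd⟩ : X)⁻¹ = z from Subtype.ext hdz]
    exact (inferInstance : (derivedSeries ↥X k).Normal).conj_mem y hy _
  set s' : ↥X := ⟨s, hsc⟩ with hs'
  set t' : ↥X := ⟨t, htc⟩ with ht'
  have hmem : s' * t' * s'⁻¹ * t'⁻¹ ∈ pPrimeCore 2 ↥X := hk1 (by
    rw [derivedSeries_succ]
    exact Subgroup.commutator_mem_commutator (hall s' ((Subgroup.orderOf_coe _).symm.trans hs))
      (hall t' ((Subgroup.orderOf_coe _).symm.trans ht)))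
  have hW : s * t * s⁻¹ * t ∈ Wc c := by
    refine ⟨_, hmem, ?_⟩
    show s * t * s⁻¹ * t⁻¹ = _
    rw [inv_self ht]
  have h := eq_of_mul_mem_Wc hse hsol hm hN IH (conj_involution ht s) ht
    (smul_involSet hsc ⟨ht, htc⟩).2 hW
  exact mul_inv_eq_iff_eq_mul.1 h

/-- The centraliser of the involutions has odd index in the point stabiliser. -/
theorem Kc_relIndex_odd (c : G ⧸ H) : Odd ((Kc c).relIndex (St c)) := by
  classical
  set X := St c with hX
  set K' := (Kc c).subgroupOf X with hK'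
  haveI hK'n : K'.Normal := Subgroup.normal_subgroupOf_of_le_normalizer (St_le_normalizer_Kc c)
  haveI hXs : Group.IsSolvable ↥X := St_solvable hsol c
  show Odd K'.index
  obtain ⟨n, hn⟩ := Group.IsSolvable.solvable (G := ↥X)
  have hex : ∃ k, derivedSeries ↥X k ≤ K' := ⟨n, hn ▸ bot_le⟩
  rcases h0 : Nat.find hex with _ | k
  · have h := Nat.find_spec hex
    rw [h0, derivedSeries_zero] at h
    rw [top_le_iff.1 h, Subgroup.index_top]
    exact odd_one
  set D := derivedSeries ↥X k with hD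
  have hDK : ¬ D ≤ K' := Nat.find_min hex (by omega)
  have hD1 : ⁅D, D⁆ ≤ K' := by
    rw [hD, ← derivedSeries_succ]; exact h0 ▸ Nat.find_spec hex
  haveI : D.Normal := derivedSeries_normal (G := ↥X) k
  -- a subgroup of `D` centralising an involution lies in `K'` if it is a Sylow subgroup
  have hsyl : ∀ (r : ℕ) [Fact r.Prime] (R : Subgroup ↥X), SylIn r R D → ∀ t : G, orderOf t = 2 → t • c = c →
      (∀ x ∈ R, Commute (x : G) t) → R ≤ K' := by
    intro r _ R hR t ht htc hcom
    have hRK : (R ⊔ K').Normal := by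
      refine ⟨fun x hx g => ?_⟩
      have hle : (R ⊔ K').map (MulAut.conj g).toMonoidHom ≤ R ⊔ K' := by
        rw [Subgroup.map_sup, sup_le_iff]
        constructor
        · obtain ⟨d, hd, hdg⟩ := Fusion.frattini_conj (H := ⊤) hR (by rw [Subgroup.normalizer_eq_top_iff.2 inferInstance]) (Subgroup.mem_top g)
          rintro _ ⟨y, hy, rfl⟩
          show g * y * g⁻¹ ∈ R ⊔ K'
          have h1 : d * g * y * (d * g)⁻¹ ∈ R := Solv.conj_mem_of_mem_normalizer hdg hy
          have h2 : g * y * g⁻¹ ∈ D := (inferInstance : D.Normal).conj_mem y (hR.le hy) g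
          have h3 : d⁻¹ * (d * g * y * (d * g)⁻¹) * d * (d * g * y * (d * g)⁻¹)⁻¹ ∈ K' := by
            refine hD1 ?_
            have h4 := Subgroup.commutator_mem_commutator (inv_mem hd) (hR.le h1) (H₁ := D) (H₂ := D)
            rwa [commutatorElement_def, inv_inv] at h4
          rw [show g * y * g⁻¹ = (d⁻¹ * (d * g * y * (d * g)⁻¹) * d * (d * g * y * (d * g)⁻¹)⁻¹) *
            (d * g * y * (d * g)⁻¹) by group]
          exact mul_mem (Subgroup.mem_sup_right h3) (Subgroup.mem_sup_left h1)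
        · rintro _ ⟨y, hy, rfl⟩
          exact Subgroup.mem_sup_right (hK'n.conj_mem y hy g)
      exact hle ⟨x, hx, rfl⟩
    have hle : (R ⊔ K').map X.subtype ≤ Kc c := by
      refine le_Kc_of_commute hse ht htc (Subgroup.map_subtype_le _) ?_ ?_
      · intro g hg
        refine Fusion.mem_normalizer_of_cj_le ?_
        rintro _ ⟨_, ⟨x, hx, rfl⟩, rfl⟩
        exact ⟨_, hRK.conj_mem x hx ⟨g, hg⟩, rfl⟩
      · rintro _ ⟨x, hx, rfl⟩
        obtain ⟨a, ha, b, hb, rfl⟩ := Subgroup.mem_sup_of_normal_right.1 hx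
        exact (hcom a ha).mul_left ((mem_Kc.1 hb).2 t ht htc)
    exact fun x hx => hle ⟨x, Subgroup.mem_sup_left hx, rfl⟩
  -- at primes not dividing `m`
  have hsmall : ∀ (r : ℕ) [Fact r.Prime] (R : Subgroup ↥X), SylIn r R D → ¬ r ∣ Bender.numInv H → R ≤ K' := by
    intro r _ R hR hrm
    set S := {s : G // orderOf s = 2 ∧ s • c = c}
    letI : MulAction R S :=
      { smul := fun z s => ⟨((z : ↥X) : G) * s.1 * ((z : ↥X) : G)⁻¹, smul_involSet (z : ↥X).2 s.2⟩
        one_smul := fun s => Subtype.ext (by show (1 : G) * s.1 * (1 : G)⁻¹ = s.1; group)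
        mul_smul := fun a b s => Subtype.ext (by
          show ((a : ↥X) : G) * (b : ↥X) * s.1 * (((a : ↥X) : G) * (b : ↥X))⁻¹ =
            (a : ↥X) * ((b : ↥X) * s.1 * ((b : ↥X) : G)⁻¹) * ((a : ↥X) : G)⁻¹
          group) }
    obtain ⟨s, hs⟩ := hR.isPGroup.nonempty_fixed_point_of_prime_not_dvd_card S (by rwa [Bender.card_fixing c])
    exact hsyl r R hR s.1 s.2.1 s.2.2 fun x hx => mul_inv_eq_iff_eq_mul.1 (congrArg Subtype.val (hs ⟨x, hx⟩))
  -- a prime with a Sylow subgroup outside `K'`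
  obtain ⟨r, hr, R, hR, hRK'⟩ : ∃ (r : ℕ) (_ : Fact r.Prime) (R : Subgroup ↥X), SylIn r R D ∧ ¬ R ≤ K' := by
    by_contra h
    push Not at h
    refine hDK (Subgroup.subgroupOf_eq_top.1 (Subgroup.eq_top_of_le_card _ (Nat.le_of_dvd Nat.card_pos ?_)))
    refine (Nat.dvd_iff_prime_pow_dvd_dvd _ _).2 fun r j hr hrj => ?_
    haveI : Fact r.Prime := ⟨hr⟩
    obtain ⟨R⟩ : Nonempty (Sylow r ↥D) := inferInstance
    refine (R.pow_dvd_card_of_pow_dvd_card hrj).trans (Subgroup.card_dvd_of_le fun x hx => ?_)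
    refine Subgroup.mem_subgroupOf.2 (h r ⟨hr⟩ ((R : Subgroup ↥D).map D.subtype) ?_ ⟨x, hx, rfl⟩)
    exact SEB.isSylIn_iff.1 (Solv.IsSylIn.of_sylow R)
  -- its normaliser in `X` is odd
  have hNodd : Odd (Nat.card ↥(Subgroup.normalizer (R : Set ↥X))) := odd_of_no_invol fun t ht ht2 => by
    have ht' : orderOf (t : G) = 2 := by rwa [Subgroup.orderOf_coe]
    refine hRK' (hsyl r R hR (t : G) ht' t.2 fun x hx => ?_)
    have h1 : (x : G) * t * (x : G)⁻¹ * t ∈ Ec c :=
      mul_mem (Subgroup.subset_closure (smul_involSet x.2 ⟨ht', t.2⟩)) (Subgroup.subset_closure ⟨ht', t.2⟩)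
    have h2 : (x : ↥X) * t * x⁻¹ * t ∈ R := by
      rw [show (x : ↥X) * t * x⁻¹ * t = x * (t * x⁻¹ * t⁻¹) * (t * t) by group, sq_one ht2, mul_one]
      exact mul_mem hx (Solv.conj_mem_of_mem_normalizer ht (inv_mem hx))
    have h3 := ((mem_Ec fun a b ha hb hac hbc => commute_invol hse hsol hm hN IH ha hb hac hbc).1 h1).2
    have hr2 : r ≠ 2 := by
      rintro rfl
      refine hRK' (hsmall 2 R hR fun h2 => ?_)
      have hodd := numInv_odd hse (QuotientGroup.mk 1 : G ⧸ H)
      rw [St_base] at hodd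
      exact Nat.not_even_iff_odd.2 hodd (even_iff_two_dvd.2 h2)
    have h4 : (x : G) * t * (x : G)⁻¹ * t = 1 := by
      by_contra hne
      have hx2 : orderOf ((x : ↥X) * t * x⁻¹ * t) = 2 := by
        rw [← Subgroup.orderOf_coe]
        exact orderOf_eq_prime (by rw [pow_two]; exact h3) hne
      obtain ⟨j, hj⟩ := IsPGroup.iff_card.1 hR.isPGroup
      exact even_of_invol_mem hx2 h2 (hj ▸ ((Fact.out : r.Prime).odd_of_ne_two hr2).pow)
    rw [mul_eq_one_iff_eq_inv, inv_self ht', mul_inv_eq_iff_eq_mul] at h4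
    exact h4
  -- the index is a product of two odd numbers
  have h1 : Odd (K'.relIndex D) := by
    refine Nat.not_even_iff_odd.1 fun hev => ?_
    haveI : Fact (Nat.Prime 2) := ⟨Nat.prime_two⟩
    obtain ⟨R2⟩ : Nonempty (Sylow 2 ↥D) := inferInstance
    have hle := hsmall 2 ((R2 : Subgroup ↥D).map D.subtype) (SEB.isSylIn_iff.1 (Solv.IsSylIn.of_sylow R2))
      (fun h2 => by
        have hodd := numInv_odd hse (QuotientGroup.mk 1 : G ⧸ H)
        rw [St_base] at hodd
        exact Nat.not_even_iff_odd.2 hodd (even_iff_two_dvd.2 h2))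
    refine R2.not_dvd_index ((even_iff_two_dvd.1 hev).trans (Subgroup.index_dvd_of_le ?_))
    exact fun x hx => Subgroup.mem_subgroupOf.2 (hle ⟨x, hx, rfl⟩)
  have h2 : Odd D.index := by
    refine hNodd.of_dvd_nat ?_
    have htop : D ⊔ Subgroup.normalizer (R : Set ↥X) = ⊤ := top_le_iff.1 fun g _ => by
      obtain ⟨d, hd, hdg⟩ := Fusion.frattini_conj (H := ⊤) hR (by rw [Subgroup.normalizer_eq_top_iff.2 inferInstance]) (Subgroup.mem_top g)
      rw [show g = d⁻¹ * (d * g) by group]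
      exact mul_mem (Subgroup.mem_sup_left (inv_mem hd)) (Subgroup.mem_sup_right hdg)
    rw [← Subgroup.relIndex_top_right, ← htop, sup_comm, Subgroup.relIndex_sup_right]
    exact Subgroup.relIndex_dvd_card _ _
  rw [← Subgroup.relIndex_mul_index (le_sup_left : K' ≤ K' ⊔ D)]
  refine Nat.odd_mul.2 ⟨?_, h2.of_dvd_nat (Subgroup.index_dvd_of_le le_sup_right)⟩
  rw [sup_comm, Subgroup.relIndex_sup_right]
  exact h1

/-- Two-elements of the point stabiliser centralise its involutions. -/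
theorem two_mem_Kc {c : G ⧸ H} {g : G} (hg : g • c = c) {k : ℕ} (hk : g ^ 2 ^ k = 1) : g ∈ Kc c := by
  haveI : ((Kc c).subgroupOf (St c)).Normal :=
    Subgroup.normal_subgroupOf_of_le_normalizer (St_le_normalizer_Kc c)
  set q : ↥(St c) ⧸ (Kc c).subgroupOf (St c) := QuotientGroup.mk ⟨g, hg⟩ with hq
  have h1 : q ^ 2 ^ k = 1 := by
    rw [hq, ← QuotientGroup.mk_pow, show (⟨g, hg⟩ : St c) ^ 2 ^ k = 1 from Subtype.ext hk, QuotientGroup.mk_one]
  have h2 : orderOf q ∣ (Kc c).relIndex (St c) := by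
    rw [Subgroup.relIndex, Subgroup.index_eq_card]; exact orderOf_dvd_natCard q
  obtain ⟨i, -, hi⟩ := (Nat.dvd_prime_pow Nat.prime_two).1 (orderOf_dvd_of_pow_eq_one h1)
  have hodd := (Kc_relIndex_odd hse hsol hm hN IH c).of_dvd_nat h2
  rcases Nat.eq_zero_or_pos i with rfl | hi0
  · rw [pow_zero, orderOf_eq_one_iff, hq, QuotientGroup.eq_one_iff, Subgroup.mem_subgroupOf] at hi
    exact hi
  · rw [hi] at hodd
    exact absurd hodd (Nat.not_odd_iff_even.2 ((Nat.even_pow' hi0.ne').2 even_two))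

/-- The centraliser of the involutions at a point is transitive on the other points, unless a proper
subgroup has odd index and the same number of points. -/
theorem Kc_transitive_or {c x y : G ⧸ H} (hx : x ≠ c) (hy : y ≠ c) :
    (∃ k ∈ Kc c, k • x = y) ∨
      ∃ ℓ : ℕ, ℓ.Prime ∧ Odd ℓ ∧ ℓ ∣ H.index - 1 ∧ ∃ M : Subgroup G, ∃ _ : (M.subgroupOf (St c)).Normal,
        M ≤ St c ∧ M.relIndex (St c) = ℓ ∧
          ∀ g ∈ St c, (∃ z, z ≠ c ∧ g • z = z) → g ∈ M := by
  classical
  set X := St c with hX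
  set K' := (Kc c).subgroupOf X with hK'
  haveI : K'.Normal := Subgroup.normal_subgroupOf_of_le_normalizer (St_le_normalizer_Kc c)
  set D' := (St2 c x).subgroupOf X with hD'
  obtain ⟨k, hk, hkxy⟩ := St_transitive hse hm hx hy
  rcases IsCoatomic.eq_top_or_exists_le_coatom (K' ⊔ D') with htop | ⟨M, hM, hle⟩
  · left
    obtain ⟨a, ha, d, hd, e⟩ :=
      Subgroup.mem_sup_of_normal_left.1 (htop ▸ Subgroup.mem_top (⟨k, hk⟩ : X))
    refine ⟨a, ha, ?_⟩
    rw [← hkxy, show k = (a : G) * d from (congrArg Subtype.val e).symm, mul_smul,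
      show (d : G) • x = x from (Subgroup.mem_subgroupOf.1 hd).2]
  right
  have hcomm : ∀ a b : G, orderOf a = 2 → orderOf b = 2 → a • c = c → b • c = c → Commute a b :=
    fun a b ha hb hac hbc => commute_invol hse hsol hm hN IH ha hb hac hbc
  have hsolX : Group.IsSolvable ↥X := St_solvable hsol c
  letI : CommGroup ↥(Ec c) := { (inferInstance : Group ↥(Ec c)) with
    mul_comm := fun a b => (Subgroup.isMulCommutative_closure
      (k := {t : G | orderOf t = 2 ∧ t • c = c})
      fun s hs t ht => (hcomm s t hs.1 ht.1 hs.2 ht.2).eq).is_comm.comm a b }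
  let V := Additive ↥(Ec c)
  letI : Module (ZMod 2) V := AddCommGroup.zmodModule fun z => by
    apply Additive.toMul.injective
    apply Subtype.ext
    rw [toMul_nsmul, toMul_zero, Subgroup.coe_pow, pow_two]
    exact ((mem_Ec hcomm).1 (Additive.toMul z).2).2
  have hEn : ∀ h ∈ X, ∀ z ∈ Ec c, h * z * h⁻¹ ∈ Ec c := fun h hh z hz => by
    rw [mem_Ec hcomm] at hz ⊢
    have hhc : h • c = c := hh
    refine ⟨by rw [mul_smul, mul_smul, inv_smul_eq_iff.2 hhc.symm, hz.1, hhc], ?_⟩
    rw [conj_mul, hz.2, mul_one, mul_inv_cancel]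
  let act : ↥X → (V →+ V) := fun h =>
    { toFun := fun z => Additive.ofMul ⟨(h : G) * (Additive.toMul z : Ec c) * (h : G)⁻¹,
        hEn _ h.2 _ (Additive.toMul z).2⟩
      map_zero' := by
        apply Additive.toMul.injective
        apply Subtype.ext
        simp
      map_add' := fun a b => by
        apply Additive.toMul.injective
        apply Subtype.ext
        show (h : G) * (((Additive.toMul a : Ec c) : G) * ((Additive.toMul b : Ec c) : G)) * (h : G)⁻¹ =
          (h : G) * ((Additive.toMul a : Ec c) : G) * (h : G)⁻¹ * ((h : G) * ((Additive.toMul b : Ec c) : G) * (h : G)⁻¹)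
        group }
  have hext : ∀ a b : V, ((Additive.toMul a : Ec c) : G) = ((Additive.toMul b : Ec c) : G) → a = b :=
    fun a b e => Additive.toMul.injective (Subtype.ext e)
  have hact : ∀ (h : ↥X) (z : V),
      ((Additive.toMul (act h z) : Ec c) : G) = (h : G) * (Additive.toMul z : Ec c) * (h : G)⁻¹ :=
    fun h z => rfl
  let ρ : ↥X →* (V ≃ₗ[ZMod 2] V) :=
    { toFun := fun h =>
        { toFun := act h
          map_add' := map_add (act h)
          map_smul' := fun a z => ZMod.map_smul (act h) a z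
          invFun := act h⁻¹
          left_inv := fun z => hext _ _ (by rw [hact, hact, Subgroup.coe_inv]; group)
          right_inv := fun z => hext _ _ (by rw [hact, hact, Subgroup.coe_inv]; group) }
      map_one' := LinearEquiv.ext fun z => hext _ _ (by
        show ((Additive.toMul (act 1 z) : Ec c) : G) = _
        rw [hact, OneMemClass.coe_one, one_mul, inv_one, mul_one]
        rfl)
      map_mul' := fun g h => LinearEquiv.ext fun z => hext _ _ (by
        show ((Additive.toMul (act (g * h) z) : Ec c) : G) = ((Additive.toMul (act g (act h z)) : Ec c) : G)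
        rw [hact, hact, hact, Subgroup.coe_mul]; group) }
  have hρ : ∀ (h : ↥X) (z : V),
      ((Additive.toMul (ρ h z) : Ec c) : G) = (h : G) * (Additive.toMul z : Ec c) * (h : G)⁻¹ := fun h z => rfl
  have hker : ρ.ker ≤ M := fun h hh => by
    refine hle (Subgroup.mem_sup_left (Subgroup.mem_subgroupOf.2 (mem_Kc.2 ⟨h.2, fun t ht htc => ?_⟩)))
    have h1 := hρ h (Additive.ofMul (⟨t, Subgroup.subset_closure ⟨ht, htc⟩⟩ : Ec c))
    rw [MonoidHom.mem_ker.1 hh] at h1
    exact (mul_inv_eq_iff_eq_mul.1 h1.symm)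
  obtain ⟨t, ht, htc⟩ := exists_invol hse c
  set v₀ : V := Additive.ofMul (⟨t, Subgroup.subset_closure ⟨ht, htc⟩⟩ : Ec c) with hv₀def
  have hv₀ : v₀ ≠ 0 := fun e => ne_one_of_invol ht (congrArg (fun z : V => ((Additive.toMul z : Ec c) : G)) e)
  haveI hMn : M.Normal := Bender.Step.normal_of_transitive hsolX ρ M hM hker v₀ hv₀ fun w hw => by
    obtain ⟨hwc, hw2⟩ := (mem_Ec hcomm).1 (Additive.toMul w).2
    obtain ⟨d, hdc, hdx, hdt⟩ := pair_transitive hse hx ht htc
      (orderOf_eq_prime (by rw [pow_two]; exact hw2) fun e => hw (hext _ _ (by rw [e]; rfl))) hwc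
    exact ⟨⟨d, hdc⟩, hle (Subgroup.mem_sup_right (Subgroup.mem_subgroupOf.2 ⟨hdc, hdx⟩)),
      hext _ _ (by rw [hρ]; exact hdt)⟩
  have hprime : M.index.Prime := Bender.NormalSylow.prime_index_of_coatom M hM hsolX
  have hodd : Odd M.index :=
    (Kc_relIndex_odd hse hsol hm hN IH c).of_dvd_nat (Subgroup.index_dvd_of_le (le_sup_left.trans hle))
  have hsub : (M.map X.subtype).subgroupOf X = M :=
    Subgroup.comap_map_eq_self_of_injective X.subtype_injective M
  refine ⟨M.index, hprime, hodd, ?_, M.map X.subtype, hsub.symm ▸ hMn, Subgroup.map_subtype_le _,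
    by rw [Subgroup.relIndex, hsub], fun g hg hgz => ?_⟩
  · have h := relIndex_St2 hse hm hx
    rw [← h, Nat.add_sub_cancel]
    exact Subgroup.index_dvd_of_le (le_sup_right.trans hle)
  · obtain ⟨z, hz, hgz⟩ := hgz
    obtain ⟨j, hj, rfl⟩ := St_transitive hse hm hx hz
    have h1 : (⟨j, hj⟩ : X)⁻¹ * ⟨g, hg⟩ * ⟨j, hj⟩ ∈ M := hle (Subgroup.mem_sup_right (Subgroup.mem_subgroupOf.2
      ⟨by
        have hjc : j • c = c := hj
        show (j⁻¹ * g * j) • c = c
        rw [mul_smul, mul_smul, hjc, show g • c = c from hg, inv_smul_eq_iff.2 hjc.symm],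
      by
        show (j⁻¹ * g * j) • x = x
        rw [mul_smul, mul_smul, hgz, inv_smul_smul]⟩))
    refine ⟨⟨g, hg⟩, ?_, rfl⟩
    have h2 := hMn.conj_mem _ h1 ⟨j, hj⟩
    rwa [show (⟨j, hj⟩ : X) * ((⟨j, hj⟩ : X)⁻¹ * ⟨g, hg⟩ * ⟨j, hj⟩) * (⟨j, hj⟩ : X)⁻¹ = ⟨g, hg⟩ by group] at h2

end Cfsg.Agent.SEB
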