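import Cfsg.Agent.Lib.Bender.Torus
import Cfsg.Agent.S3360
import Mathlib.FieldTheory.Finite.Basic
import Mathlib.RingTheory.RootsOfUnity.PrimitiveRoots
import Mathlib.LinearAlgebra.LinearIndependent.Lemmas

/-!
# The point stabiliser acts semilinearly on its involutions

For `H` solvable the involutions at a point form, with the identity, the additive group of a field on
which the stabiliser acts semilinearly; an element of prime order `r` commuting with none of them is a
scalar, so it commutes with every `r`-group around it modulo their centraliser.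
-/

set_option autoImplicit false
set_option linter.style.haveILetI false
set_option linter.unusedSectionVars false

open scoped Pointwise

namespace Cfsg.Agent.SEB

open Cfsg
open Cfsg.Agent.Fusion.SEPairs

universe u

variable {G : Type u} [Group G] [Finite G] {H : Subgroup G} (hse : Cfsg.IsStronglyEmbedded H)
  (hsol : Group.IsSolvable H) (hm : mbar ↥H ≠ 1) (hN : H.normalCore = ⊥)
  (IH : ∀ M : Subgroup G, M ≠ ⊤ → Claim ↥M)
include hse hsol hm hN IH

/-- The involutions at a point as the additive group of a field. -/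
theorem exists_semilinear (c : G ⧸ H) :
    ∃ (F : Type) (_ : Field F) (_ : Fintype F) (e : G → F),
      (∀ x ∈ Ec c, ∀ y ∈ Ec c, e (x * y) = e x + e y) ∧ (∀ x ∈ Ec c, e x = 0 → x = 1) ∧
      (∀ v : F, ∃ x ∈ Ec c, e x = v) ∧
      ∀ h ∈ St c, ∃ (a : F) (σ : F ≃+* F), ∀ x ∈ Ec c, e (h * x * h⁻¹) = a * σ (e x) := by
  classical
  haveI : Fact (Nat.Prime 2) := ⟨Nat.prime_two⟩
  set X := St c with hX
  have hcomm : ∀ a b : G, orderOf a = 2 → orderOf b = 2 → a • c = c → b • c = c → Commute a b :=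
    fun a b ha hb hac hbc => commute_invol hse hsol hm hN IH ha hb hac hbc
  haveI hsolX : Group.IsSolvable ↥X := St_solvable hsol c
  letI : CommGroup ↥(Ec c) := { (inferInstance : Group ↥(Ec c)) with
    mul_comm := fun a b => (Subgroup.isMulCommutative_closure
      (k := {t : G | orderOf t = 2 ∧ t • c = c})
      fun s hs t ht => (hcomm s t hs.1 ht.1 hs.2 ht.2).eq).is_comm.comm a b }
  let V := Additive ↥(Ec c)
  letI : Module (ZMod 2) V := AddCommGroup.zmodModule fun z => by
    apply Additive.toMul.injective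
    apply Subtype.ext
    rw [toMul_nsmul, toMul_zero, Subgroup.coe_pow, pow_two]
    exact ((mem_Ec hcomm).1 (Additive.toMul z).2).2
  have hEn : ∀ h ∈ X, ∀ z ∈ Ec c, h * z * h⁻¹ ∈ Ec c := fun h hh z hz => by
    rw [mem_Ec hcomm] at hz ⊢
    have hhc : h • c = c := hh
    refine ⟨by rw [mul_smul, mul_smul, inv_smul_eq_iff.2 hhc.symm, hz.1, hhc], ?_⟩
    rw [conj_mul, hz.2, mul_one, mul_inv_cancel]
  let act : ↥X → (V →+ V) := fun h =>
    { toFun := fun z => Additive.ofMul ⟨(h : G) * (Additive.toMul z : Ec c) * (h : G)⁻¹,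
        hEn _ h.2 _ (Additive.toMul z).2⟩
      map_zero' := by
        apply Additive.toMul.injective
        apply Subtype.ext
        simp
      map_add' := fun a b => by
        apply Additive.toMul.injective
        apply Subtype.ext
        show (h : G) * (((Additive.toMul a : Ec c) : G) * ((Additive.toMul b : Ec c) : G)) * (h : G)⁻¹ =
          (h : G) * ((Additive.toMul a : Ec c) : G) * (h : G)⁻¹ * ((h : G) * ((Additive.toMul b : Ec c) : G) * (h : G)⁻¹)
        group }
  have hext : ∀ a b : V, ((Additive.toMul a : Ec c) : G) = ((Additive.toMul b : Ec c) : G) → a = b :=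
    fun a b e => Additive.toMul.injective (Subtype.ext e)
  have hact : ∀ (h : ↥X) (z : V),
      ((Additive.toMul (act h z) : Ec c) : G) = (h : G) * (Additive.toMul z : Ec c) * (h : G)⁻¹ :=
    fun h z => rfl
  let ρ : ↥X →* (V ≃ₗ[ZMod 2] V) :=
    { toFun := fun h =>
        { toFun := act h
          map_add' := map_add (act h)
          map_smul' := fun a z => ZMod.map_smul (act h) a z
          invFun := act h⁻¹
          left_inv := fun z => hext _ _ (by rw [hact, hact, Subgroup.coe_inv]; group)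
          right_inv := fun z => hext _ _ (by rw [hact, hact, Subgroup.coe_inv]; group) }
      map_one' := LinearEquiv.ext fun z => hext _ _ (by
        show ((Additive.toMul (act 1 z) : Ec c) : G) = _
        rw [hact, OneMemClass.coe_one, one_mul, inv_one, mul_one]
        rfl)
      map_mul' := fun g h => LinearEquiv.ext fun z => hext _ _ (by
        show ((Additive.toMul (act (g * h) z) : Ec c) : G) = ((Additive.toMul (act g (act h z)) : Ec c) : G)
        rw [hact, hact, hact, Subgroup.coe_mul]; group) }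
  obtain ⟨t, ht, htc⟩ := exists_invol hse c
  haveI : Nontrivial V := ⟨⟨Additive.ofMul (⟨t, Subgroup.subset_closure ⟨ht, htc⟩⟩ : Ec c), 0, fun e =>
    ne_one_of_invol ht (congrArg (fun z : V => ((Additive.toMul z : Ec c) : G)) e)⟩⟩
  haveI : Group.IsSolvable ρ.range := Group.isSolvable_of_surjective ρ.rangeRestrict_surjective
  haveI : Finite ρ.range := Finite.of_surjective _ ρ.rangeRestrict_surjective
  have hinv : ∀ v : V, v ≠ 0 → orderOf ((Additive.toMul v : Ec c) : G) = 2 := fun v hv =>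
    orderOf_eq_prime (by rw [pow_two]; exact ((mem_Ec hcomm).1 (Additive.toMul v).2).2)
      fun e => hv (hext _ _ (by rw [e]; rfl))
  obtain ⟨x, hx⟩ := exists_ne hse c
  rcases S3360.result 2 (inferInstance : Group.IsSolvable ρ.range) ρ.range.subtype ρ.range.subtype_injective
    (fun v w hv hw => by
      obtain ⟨d, hdc, -, hd⟩ := pair_transitive hse hx (hinv v hv) ((mem_Ec hcomm).1 (Additive.toMul v).2).1
        (hinv w hw) ((mem_Ec hcomm).1 (Additive.toMul w).2).1
      exact ⟨⟨ρ ⟨d, hdc⟩, ⟨d, hdc⟩, rfl⟩, hext _ _ hd⟩) with ⟨F, iF, iFF, e, he⟩ | hcard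
  · refine ⟨F, iF, iFF, fun g => if hg : g ∈ Ec c then e (Additive.ofMul ⟨g, hg⟩) else 0,
      fun a ha b hb => ?_, fun a ha h0 => ?_, fun v => ?_, fun h hh => ?_⟩
    · beta_reduce; rw [dif_pos (mul_mem ha hb), dif_pos ha, dif_pos hb, ← map_add]
      rfl
    · beta_reduce at h0; rw [dif_pos ha, e.map_eq_zero_iff] at h0
      exact congrArg (fun z : V => ((Additive.toMul z : Ec c) : G)) h0
    · refine ⟨_, (Additive.toMul (e.symm v)).2, ?_⟩
      beta_reduce; rw [dif_pos (Additive.toMul (e.symm v)).2]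
      exact e.apply_symm_apply v
    · obtain ⟨a, σ, haσ⟩ := he ⟨ρ ⟨h, hh⟩, ⟨h, hh⟩, rfl⟩
      refine ⟨a, σ, fun z hz => ?_⟩
      beta_reduce; rw [dif_pos (hEn h hh z hz), dif_pos hz, ← haσ]
      rfl
  · exfalso
    haveI := Fintype.ofFinite V
    have hpow := Module.card_eq_pow_finrank (K := ZMod 2) (V := V)
    rw [Nat.card_eq_fintype_card, hpow, ZMod.card] at hcard
    rcases Nat.eq_zero_or_pos (Module.finrank (ZMod 2) V) with h0 | h0
    · rw [h0] at hcard; simp at hcard
    · have : (2 : ℕ) ∣ 2 ^ Module.finrank (ZMod 2) V := dvd_pow_self 2 h0.ne'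
      simp only [Set.mem_insert_iff, Set.mem_singleton_iff] at hcard
      rcases hcard with h | h | h | h | h | h <;> rw [h] at this <;> omega

/-- An element of prime order `r` commuting with no involution at a point commutes with every `r`-group
around it, modulo the centraliser of these involutions. -/
theorem commutator_mem_Kc {c : G ⧸ H} {r : ℕ} [Fact r.Prime] {Y : Subgroup G} (hY : IsPGroup r Y)
    (hYc : Y ≤ St c) {z : G} (hz : z ∈ Y) (hzr : z ^ r = 1)
    (hfree : ∀ t : G, orderOf t = 2 → t • c = c → ¬ Commute z t) {x : G} (hx : x ∈ Y) :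
    z * x * z⁻¹ * x⁻¹ ∈ Kc c := by
  classical
  obtain ⟨F, iF, iFF, e, hadd, hker, hsurj, hform⟩ := exists_semilinear hse hsol hm hN IH c
  have hcomm : ∀ a b : G, orderOf a = 2 → orderOf b = 2 → a • c = c → b • c = c → Commute a b :=
    fun a b ha hb hac hbc => commute_invol hse hsol hm hN IH ha hb hac hbc
  have hEn : ∀ h ∈ St c, ∀ w ∈ Ec c, h * w * h⁻¹ ∈ Ec c := fun h hh w hw => by
    rw [mem_Ec hcomm] at hw ⊢
    have hhc : h • c = c := hh
    refine ⟨by rw [mul_smul, mul_smul, inv_smul_eq_iff.2 hhc.symm, hw.1, hhc], ?_⟩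
    rw [conj_mul, hw.2, mul_one, mul_inv_cancel]
  have he1 : e 1 = 0 := by
    have h := hadd 1 (one_mem _) 1 (one_mem _)
    rw [one_mul] at h
    exact left_eq_add.1 h
  have hinj : ∀ v ∈ Ec c, ∀ w ∈ Ec c, e v = e w → v = w := fun v hv w hw hvw => by
    have h2 := ((mem_Ec hcomm).1 hw).2
    have h1 : v * w = 1 := hker _ (mul_mem hv hw) (by rw [hadd v hv w hw, hvw, ← hadd w hw w hw, h2, he1])
    exact (eq_inv_of_mul_eq_one_left h1).trans (inv_eq_of_mul_eq_one_right h2)
  obtain ⟨w₁, hw₁, he₁⟩ := hsurj 1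
  -- the form of powers
  have hpow : ∀ h ∈ St c, ∀ (a : F) (σ : F ≃+* F), (∀ w ∈ Ec c, e (h * w * h⁻¹) = a * σ (e w)) →
      ∀ n : ℕ, ∃ A : F, A ≠ 0 ∧ ∀ w ∈ Ec c, e (h ^ n * w * (h ^ n)⁻¹) = A * (σ ^ n) (e w) := by
    intro h hh a σ haσ n
    have ha : a ≠ 0 := fun ha => by
      have h1 := hker _ (hEn h hh w₁ hw₁) (by rw [haσ w₁ hw₁, ha, zero_mul])
      rw [conj_eq_one_iff] at h1
      rw [h1, he1] at he₁
      exact zero_ne_one he₁
    induction n with
    | zero => exact ⟨1, one_ne_zero, fun w _ => by simp⟩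
    | succ n ih =>
      obtain ⟨A, hA, hAw⟩ := ih
      refine ⟨a * σ A, mul_ne_zero ha (by simpa using hA), fun w hw => ?_⟩
      rw [show h ^ (n + 1) * w * (h ^ (n + 1))⁻¹ = h * (h ^ n * w * (h ^ n)⁻¹) * h⁻¹ by
        rw [pow_succ']; group, haσ _ (hEn _ (pow_mem hh n) w hw), hAw w hw, map_mul, pow_succ']
      rw [RingAut.mul_apply]
      ring
  have hperiod : ∀ h ∈ St c, ∀ (a : F) (σ : F ≃+* F), (∀ w ∈ Ec c, e (h * w * h⁻¹) = a * σ (e w)) →
      ∀ n : ℕ, h ^ n = 1 → σ ^ n = 1 := by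
    intro h hh a σ haσ n hn
    obtain ⟨A, -, hAw⟩ := hpow h hh a σ haσ n
    have key : ∀ v : F, v = A * (σ ^ n) v := fun v => by
      obtain ⟨w, hw, rfl⟩ := hsurj v
      simpa [hn] using hAw w hw
    have hA1 : A = 1 := by have := key 1; rw [map_one, mul_one] at this; exact this.symm
    ext v
    rw [RingAut.one_apply]
    have := key v
    rw [hA1, one_mul] at this
    exact this.symm
  obtain ⟨a, σ, haσ⟩ := hform z (hYc hz)
  have hfree' : ∀ w ∈ Ec c, z * w * z⁻¹ = w → w = 1 := fun w hw hzw => by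
    by_contra hne
    obtain ⟨hwc, hw2⟩ := (mem_Ec hcomm).1 hw
    exact hfree w (orderOf_eq_prime (by rw [pow_two]; exact hw2) hne) hwc (mul_inv_eq_iff_eq_mul.1 hzw)
  -- `z` is a scalar
  have hσ : σ = 1 := by
    by_contra hne
    have hord : orderOf σ = r := orderOf_eq_prime (hperiod z (hYc hz) a σ haσ r hzr) hne
    choose A hA hAw using hpow z (hYc hz) a σ haσ
    set f : Fin r → (F →* F) := fun i => ((σ ^ (i : ℕ) : F ≃+* F) : F →+* F).toMonoidHom
    have hfi : Function.Injective f := fun i j hij => by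
      refine Fin.ext (pow_injOn_Iio_orderOf (Set.mem_Iio.2 (by rw [hord]; exact i.2)) (Set.mem_Iio.2 (by rw [hord]; exact j.2)) ?_)
      exact RingEquiv.ext fun v => DFunLike.congr_fun hij v
    have hli := (linearIndependent_monoidHom F F).comp f hfi
    obtain ⟨v, hv⟩ : ∃ v, ∑ i ∈ Finset.range r, A i * (σ ^ i) v ≠ 0 := by
      by_contra h
      push Not at h
      have h0 := Fintype.linearIndependent_iff.1 hli (fun i => A i) (funext fun v => by
        rw [Finset.sum_apply, Pi.zero_apply, ← h v, Finset.sum_range]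
        rfl) ⟨0, (Fact.out : r.Prime).pos⟩
      exact hA _ h0
    obtain ⟨w, hw, hwv⟩ := hsurj v
    obtain ⟨y, hy, hyS⟩ := hsurj (∑ i ∈ Finset.range r, A i * (σ ^ i) v)
    set T : ℕ → F := fun i => e (z ^ i * w * (z ^ i)⁻¹) with hT
    have hTA : ∀ i, T i = A i * (σ ^ i) v := fun i => by rw [← hwv]; exact hAw i w hw
    simp only [← hTA] at hv hyS
    refine hv ?_
    rw [← hyS]
    have hstep : ∀ i, a * σ (T i) = T (i + 1) := fun i => by
      rw [hT]
      dsimp only
      rw [← haσ _ (hEn _ (pow_mem (hYc hz) i) w hw), pow_succ']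
      congr 1
      group
    have hzy : z * y * z⁻¹ = y := hinj _ (hEn z (hYc hz) y hy) _ hy (by
      rw [haσ y hy, hyS, map_sum, Finset.mul_sum, Finset.sum_congr rfl fun i _ => hstep i]
      have h1 := Finset.sum_range_succ' T r
      have h2 := Finset.sum_range_succ T r
      have h3 : T r = T 0 := by rw [hT]; dsimp only; rw [hzr, pow_zero]
      rw [h2, h3] at h1
      exact (add_right_cancel h1).symm)
    rw [hfree' y hy hzy, he1]
  subst hσ
  have haz : ∀ w ∈ Ec c, e (z * w * z⁻¹) = a * e w := fun w hw => by rw [haσ w hw, RingAut.one_apply]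
  have hzpow : ∀ (n : ℕ), e (z ^ n * w₁ * (z ^ n)⁻¹) = a ^ n := fun n => by
    induction n with
    | zero => simpa using he₁
    | succ n ih =>
      rw [show z ^ (n + 1) * w₁ * (z ^ (n + 1))⁻¹ = z * (z ^ n * w₁ * (z ^ n)⁻¹) * z⁻¹ by
        rw [pow_succ']; group, haz _ (hEn _ (pow_mem (hYc hz) n) w₁ hw₁), ih, pow_succ']
  have har : a ^ r = 1 := by rw [← hzpow, hzr, one_mul, inv_one, mul_one, he₁]
  have ha1 : a ≠ 1 := fun ha => by
    have h := hfree' w₁ hw₁ (hinj _ (hEn z (hYc hz) w₁ hw₁) _ hw₁ (by rw [haz w₁ hw₁, ha, one_mul]))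
    rw [h, he1] at he₁
    exact zero_ne_one he₁
  have horda : orderOf a = r := orderOf_eq_prime har ha1
  obtain ⟨b, τ, hbτ⟩ := hform x (hYc hx)
  -- `τ` fixes the scalar
  have hτa : τ a = a := by
    obtain ⟨j, -, hj⟩ := (horda ▸ IsPrimitiveRoot.orderOf a).eq_pow_of_pow_eq_one
      (show τ a ^ r = 1 by rw [← map_pow, har, map_one])
    have hτn : ∀ n : ℕ, (τ ^ n) a = a ^ j ^ n := fun n => by
      induction n with
      | zero => simp
      | succ n ih => rw [pow_succ', RingAut.mul_apply, ih, map_pow, ← hj, ← pow_mul, ← pow_succ']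
    obtain ⟨k, hk⟩ := hY ⟨x, hx⟩
    have h1 : a ^ j ^ r ^ k = a ^ 1 := by
      rw [← hτn, hperiod x (hYc hx) b τ hbτ (r ^ k) (congrArg Subtype.val hk), RingAut.one_apply, pow_one]
    have hfin : IsOfFinOrder a := isOfFinOrder_iff_pow_eq_one.2 ⟨r, (Fact.out : r.Prime).pos, har⟩
    rw [hfin.pow_eq_pow_iff_modEq, horda, ← ZMod.natCast_eq_natCast_iff] at h1
    push_cast at h1
    rw [ZMod.pow_card_pow] at h1
    rw [← hj]
    conv_rhs => rw [← pow_one a]
    rw [hfin.pow_eq_pow_iff_modEq, horda, ← ZMod.natCast_eq_natCast_iff]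
    exact_mod_cast h1
  refine mem_Kc.2 ⟨?_, fun t ht htc => ?_⟩
  · exact mul_mem (mul_mem (mul_mem (hYc hz) (hYc hx)) (inv_mem (hYc hz))) (inv_mem (hYc hx))
  have hxz' : x * z⁻¹ * x⁻¹ ∈ St c := mul_mem (mul_mem (hYc hx) (inv_mem (hYc hz))) (inv_mem (hYc hx))
  set w := x * z⁻¹ * x⁻¹ * t * (x * z⁻¹ * x⁻¹)⁻¹ with hw
  have htE : t ∈ Ec c := Subgroup.subset_closure ⟨ht, htc⟩
  have hwE : w ∈ Ec c := hEn _ hxz' t htE
  have hy : x⁻¹ * w * x⁻¹⁻¹ ∈ Ec c := hEn _ (inv_mem (hYc hx)) w hwE
  have ht' : e t = a * e w := by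
    rw [show t = x * (z * (x⁻¹ * w * x⁻¹⁻¹) * z⁻¹) * x⁻¹ by rw [hw]; group,
      hbτ _ (hEn z (hYc hz) _ hy), haz _ hy, map_mul, hτa,
      show e w = b * τ (e (x⁻¹ * w * x⁻¹⁻¹)) by rw [← hbτ _ hy]; congr 1; group]
    ring
  have hconj : z * w * z⁻¹ = t := hinj _ (hEn z (hYc hz) w hwE) _ htE (by rw [haz w hwE, ht'])
  show z * x * z⁻¹ * x⁻¹ * t = t * (z * x * z⁻¹ * x⁻¹)
  nth_rewrite 2 [← hconj]
  rw [hw]
  group

end Cfsg.Agent.SEB
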