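import Cfsg.Agent.Lib.Bender.Torus
import Cfsg.Agent.Lib.Fusion.Focal

/-!
# The centraliser of the involutions at a point is transitive on the other points

Otherwise the point stabiliser has a normal subgroup of odd prime index containing every element with
a second fixed point; transfer gives a normal subgroup of the group of the same index, against the
induction hypothesis.
-/

set_option autoImplicit false
set_option linter.style.haveILetI false
set_option linter.unusedSectionVars false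

open scoped Pointwise

namespace Cfsg.Agent.SEB

open Cfsg
open Cfsg.Agent.Fusion (SylIn cj focalIn exists_normal_index_prime inf_commutator_eq_focalIn_top sylIn_top)
open Cfsg.Agent.Fusion.SEPairs

universe u

variable {G : Type u} [Group G] [Finite G] {H : Subgroup G} (hse : Cfsg.IsStronglyEmbedded H)
include hse

/-- Transfer: a quotient of prime order of a point stabiliser killing all elements with a second fixed
point extends to the group. -/
theorem exists_normal_index_of_fix {c : G ⧸ H} {ℓ : ℕ} [Fact ℓ.Prime] (N : Subgroup ↥(St c)) [N.Normal]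
    (hN : N.index = ℓ) (hfix : ∀ h : ↥(St c), (∃ x : G ⧸ H, x ≠ c ∧ (h : G) • x = x) → h ∈ N) :
    ∃ M : Subgroup G, M.Normal ∧ M.index = ℓ := by
  classical
  obtain ⟨L₀⟩ : Nonempty (Sylow ℓ ↥(St c)) := inferInstance
  set L : Subgroup G := (L₀ : Subgroup ↥(St c)).map (St c).subtype with hL
  have hLH : L ≤ St c := Subgroup.map_subtype_le _
  have hLN : ¬ (L₀ : Subgroup ↥(St c)) ≤ N := fun h =>
    L₀.not_dvd_index ((dvd_of_eq hN.symm).trans (Subgroup.index_dvd_of_le h))
  have hLp : IsPGroup ℓ L := L₀.isPGroup'.map _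
  have hfixL : ∀ x : G ⧸ H, (∀ g ∈ L, g • x = x) → x = c := fun x hx => by
    by_contra hne
    exact hLN fun h hh => hfix h ⟨x, hne, hx _ ⟨h, hh, rfl⟩⟩
  have hcop : ¬ ℓ ∣ H.index := by
    have hm := hLp.card_modEq_card_fixedPoints (G ⧸ H)
    have hone : MulAction.fixedPoints L (G ⧸ H) = {c} := by
      ext x
      simp only [MulAction.mem_fixedPoints, Set.mem_singleton_iff]
      exact ⟨fun h => hfixL x fun g hg => h ⟨g, hg⟩, fun h g => h ▸ hLH g.2⟩
    rw [hone, Nat.card_coe_set_eq, Set.ncard_singleton, ← Subgroup.index_eq_card] at hm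
    intro hd
    exact (Fact.out : ℓ.Prime).one_lt.ne' (Nat.dvd_one.1
      (Nat.modEq_zero_iff_dvd.1 (hm.symm.trans (Nat.modEq_zero_iff_dvd.2 hd))))
  have hLtop : SylIn ℓ L ⊤ := by
    obtain ⟨S, hSL⟩ := hLp.exists_le_sylow
    have : L = (S : Subgroup G) := by
      refine Subgroup.eq_of_le_of_card_ge hSL ?_
      obtain ⟨k, hk⟩ := IsPGroup.iff_card.1 S.isPGroup'
      have hdvd : ℓ ^ k ∣ Nat.card ↥(St c) * (St c).index := by
        rw [(St c).card_mul_index, ← hk]
        exact Subgroup.card_subgroup_dvd_card _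
      have hidx : (St c).index = H.index := by
        rw [MulAction.index_stabilizer_of_transitive G c, Subgroup.index_eq_card]
      rw [hidx] at hdvd
      have hdvd' : ℓ ^ k ∣ Nat.card ↥(St c) :=
        (Nat.Coprime.pow_left k ((Fact.out : ℓ.Prime).coprime_iff_not_dvd.2 hcop)).dvd_of_dvd_mul_right hdvd
      rw [hk, hL, Subgroup.card_map_of_injective (St c).subtype_injective]
      exact Nat.le_of_dvd Nat.card_pos (L₀.pow_dvd_card_of_pow_dvd_card hdvd')
    rw [this]
    exact sylIn_top S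
  haveI : IsCyclic (↥(St c) ⧸ N) := isCyclic_of_prime_card (by rw [← Subgroup.index_eq_card, hN])
  have hab : ∀ a b : ↥(St c) ⧸ N, a * b = b * a := by
    letI := IsCyclic.commGroup (α := ↥(St c) ⧸ N)
    exact mul_comm
  have hfoc : focalIn L ⊤ ≤ N.map (St c).subtype := by
    refine (Subgroup.closure_le _).2 ?_
    rintro _ ⟨x, hx, g, -, hgx, rfl⟩
    by_cases hxm : ∃ z : G ⧸ H, z ≠ c ∧ x • z = z
    · obtain ⟨z, hz, hxz⟩ := hxm
      have h1 : (⟨x, hLH hx⟩ : St c) ∈ N := hfix ⟨x, hLH hx⟩ ⟨z, hz, hxz⟩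
      have h2 : (⟨g * x * g⁻¹, hLH hgx⟩ : St c) ∈ N := by
        refine hfix ⟨_, hLH hgx⟩ ?_
        by_cases hgz : g • z = c
        · refine ⟨g • c, fun e => hz (MulAction.injective g (hgz.trans e.symm)), ?_⟩
          show (g * x * g⁻¹) • g • c = g • c
          rw [mul_smul, mul_smul, inv_smul_smul, show x • c = c from hLH hx]
        · refine ⟨g • z, hgz, ?_⟩
          show (g * x * g⁻¹) • g • z = g • z
          rw [mul_smul, mul_smul, inv_smul_smul, hxz]
      exact ⟨_, mul_mem (inv_mem h1) h2, rfl⟩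
    · push Not at hxm
      have hgH : g ∈ St c := by
        by_contra hne
        refine hxm (g⁻¹ • c) (fun e => hne (inv_smul_eq_iff.1 e).symm) ?_
        have h : (g * x * g⁻¹) • c = c := hLH hgx
        rwa [mul_smul, mul_smul, smul_eq_iff_eq_inv_smul] at h
      refine ⟨(⟨x, hLH hx⟩ : St c)⁻¹ * (⟨g, hgH⟩ * ⟨x, hLH hx⟩ * (⟨g, hgH⟩ : St c)⁻¹), ?_, rfl⟩
      show _ ∈ N
      rw [← QuotientGroup.eq_one_iff, QuotientGroup.mk_mul, QuotientGroup.mk_mul, QuotientGroup.mk_mul,
        QuotientGroup.mk_inv, QuotientGroup.mk_inv,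
        hab (QuotientGroup.mk (⟨g, hgH⟩ : St c)) (QuotientGroup.mk (⟨x, hLH hx⟩ : St c)), mul_inv_cancel_right,
        inv_mul_cancel]
  refine exists_normal_index_prime hLtop fun hc => hLN fun h hh => ?_
  have : (h : G) ∈ focalIn L ⊤ := by
    rw [← inf_commutator_eq_focalIn_top hLtop]
    exact ⟨⟨h, hh, rfl⟩, hc ⟨h, hh, rfl⟩⟩
  obtain ⟨n, hn, e⟩ := hfoc this
  exact Subtype.ext e ▸ hn

variable (hsol : Group.IsSolvable H) (hm : mbar ↥H ≠ 1) (hN : H.normalCore = ⊥)
  (IH : ∀ M : Subgroup G, M ≠ ⊤ → Claim ↥M)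
include hsol hm hN IH

/-- The centraliser of the involutions at a point is transitive on the other points. -/
theorem Kc_transitive {c x y : G ⧸ H} (hx : x ≠ c) (hy : y ≠ c) : ∃ k ∈ Kc c, k • x = y := by
  refine (Kc_transitive_or hse hsol hm hN IH hx hy).resolve_right ?_
  rintro ⟨ℓ, hℓ, hodd, hdvd, M₀, hM₀, -, hidx, hfix⟩
  haveI : Fact ℓ.Prime := ⟨hℓ⟩
  haveI := hM₀
  obtain ⟨N, hNn, hNi⟩ := exists_normal_index_of_fix hse (M₀.subgroupOf (St c)) hidx
    fun h hh => Subgroup.mem_subgroupOf.2 (hfix _ h.2 hh)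
  haveI := hNn
  have hNtop : N ≠ ⊤ := fun e => hℓ.one_lt.ne (by rw [← hNi, e, Subgroup.index_top])
  have hinv : ∀ t : G, orderOf t = 2 → t ∈ N := fun t ht => by
    rw [← QuotientGroup.eq_one_iff, ← orderOf_eq_one_iff]
    have h1 : orderOf (QuotientGroup.mk t : G ⧸ N) ∣ 2 := ht ▸ orderOf_map_dvd (QuotientGroup.mk' N) t
    have h2 : orderOf (QuotientGroup.mk t : G ⧸ N) ∣ ℓ := by
      rw [← hNi, Subgroup.index_eq_card]; exact orderOf_dvd_natCard _
    exact Nat.dvd_one.1 ((Nat.coprime_two_left.2 hodd) ▸ Nat.dvd_gcd h1 h2)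
  obtain ⟨t, ht, htc⟩ := exists_invol hse c
  obtain ⟨w, hw, hwc⟩ := exists_swapper hse hx.symm
  have hmove : ∃ g ∈ N, g • c ≠ c := ⟨w, hinv w hw, by rw [hwc]; exact hx⟩
  have hall : ∀ s : ↥(St c), orderOf s = 2 → s ∈ N.subgroupOf (St c) := fun s hs =>
    hinv (s : G) (by rw [Subgroup.orderOf_coe]; exact hs)
  let e : ↥(N.subgroupOf (St c)) ≃* ↥((St c).subgroupOf N) :=
    { toFun := fun m => ⟨⟨(m : ↥(St c)), m.2⟩, (m : ↥(St c)).2⟩
      invFun := fun m => ⟨⟨(m : ↥N), m.2⟩, (m : ↥N).2⟩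
      left_inv := fun _ => rfl
      right_inv := fun _ => rfl
      map_mul' := fun _ _ => rfl }
  have hmN : mbar ↥((St c).subgroupOf N) ≠ 1 := by
    rw [← mbar_congr e, mbar_subgroup _ hall, mbar_St_base hse]
    exact hm
  have hsolN : Group.IsSolvable ↥((St c).subgroupOf N) := by
    haveI := St_solvable hsol c
    exact Group.isSolvable_of_surjective (f := e.toMonoidHom) e.surjective
  obtain ⟨⟨f, hf⟩, -⟩ := IH N hNtop _ (se_sub hse ht htc (hinv t ht) hmove) hsolN hmN
  have hidxH : (St c).index = H.index := by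
    rw [MulAction.index_stabilizer_of_transitive G c, Subgroup.index_eq_card]
  have hpos : 1 ≤ H.index := Nat.one_le_iff_ne_zero.2 H.index_ne_zero_of_finite
  have hsup : N ⊔ St c = ⊤ := by
    rw [← Subgroup.index_eq_one]
    refine (hℓ.eq_one_or_self_of_dvd _ (hNi ▸ Subgroup.index_dvd_of_le le_sup_left)).resolve_right fun h => ?_
    have h' : ℓ ∣ H.index := hidxH ▸ h ▸ Subgroup.index_dvd_of_le (le_sup_right (a := N))
    have := Nat.dvd_sub h' hdvd
    rw [show H.index - (H.index - 1) = 1 by omega] at this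
    exact hℓ.one_lt.ne' (Nat.dvd_one.1 this)
  have h' : ((St c).subgroupOf N).index = H.index := by
    have hA := Subgroup.relIndex_mul_index (inf_le_right : St c ⊓ N ≤ N)
    have hB := Subgroup.relIndex_mul_index (inf_le_left : St c ⊓ N ≤ St c)
    rw [Subgroup.inf_relIndex_right, hNi] at hA
    rw [Subgroup.inf_relIndex_left, ← Subgroup.relIndex_sup_left, hsup, Subgroup.relIndex_top_right, hNi,
      hidxH] at hB
    exact Nat.eq_of_mul_eq_mul_right hℓ.pos (hA.trans (hB.symm.trans (mul_comm _ _)))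
  rw [← h', hf, Nat.add_sub_cancel] at hdvd
  have h2 := (Nat.prime_dvd_prime_iff_eq hℓ Nat.prime_two).1 (hℓ.dvd_of_dvd_pow hdvd)
  rw [h2] at hodd
  exact absurd hodd (by decide)

end Cfsg.Agent.SEB
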