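import Cfsg.Agent.Lib.Bender.Basic
import Cfsg.Agent.Lib.Bender.Generation
import Cfsg.Agent.Lib.Bender.PCoreIn
import Cfsg.Agent.S1124

/-!
# Bender transitivity: inside triangles

A triangle: `u` fixes `c` and swaps `a` with `u • a`; it is inside at `p` when a `u`-invariant Sylow
`p`-subgroup `P` of the stabiliser of `a`, `u • a` fixes `c`.
-/

set_option autoImplicit false
set_option linter.style.haveILetI false
set_option linter.unusedSectionVars false

open scoped Pointwise commutatorElement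

namespace Cfsg.Agent.SEB

open Cfsg
open Cfsg.Agent.Fusion (SylIn cj)
open Cfsg.Agent.Fusion.SEPairs

universe u

variable {G : Type u} [Group G] [Finite G] {H : Subgroup G}

/-- `[P,u]`. -/
abbrev cm (P : Subgroup G) (u : G) : Subgroup G := ⁅P, Subgroup.zpowers u⁆

theorem inverted_mem_cm {P : Subgroup G} {u : G} (hP : Odd (Nat.card P)) {x : G}
    (hx : x ∈ Cfsg.invertedBy P u) : x ∈ cm P u := by
  obtain ⟨k, hk, hkP⟩ := Lie.exists_sqrt hP hx.1
  have h := Subgroup.commutator_mem_commutator hkP (Subgroup.mem_zpowers u) (H₁ := P)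
  have e : u * (x ^ k)⁻¹ * u⁻¹ = x ^ k := by
    rw [← inv_pow, ← conj_pow, show u * x⁻¹ * u⁻¹ = (u * x * u⁻¹)⁻¹ by group,
      show u * x * u⁻¹ = x⁻¹ from hx.2, inv_inv]
  rw [commutatorElement_def, show x ^ k * u * (x ^ k)⁻¹ * u⁻¹ = x ^ k * (u * (x ^ k)⁻¹ * u⁻¹) by group,
    e, hk] at h
  exact h

theorem cj_cm (P : Subgroup G) (u g : G) : cj (cm P u) g = cm (cj P g) (g * u * g⁻¹) := by
  rw [cm, cm, Fusion.cj_commutator]
  congr 1
  show (Subgroup.zpowers u).map (MulAut.conj g).toMonoidHom = _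
  rw [MonoidHom.map_zpowers]
  rfl

/-- An inside triangle. -/
structure Tri (H : Subgroup G) (p : ℕ) where
  /-- the involution -/
  u : G
  /-- its centre -/
  c : G ⧸ H
  /-- one of the swapped points -/
  a : G ⧸ H
  /-- the Sylow subgroup -/
  P : Subgroup G
  hu : orderOf u = 2
  huc : u • c = c
  hca : a ≠ c
  hP : SylIn p P (St2 a (u • a))
  huP : u ∈ Subgroup.normalizer (P : Set G)
  hPc : P ≤ St c

variable {p : ℕ} [hp : Fact p.Prime]

/-- In a `u`-invariant Sylow subgroup the part fixed by `u` is a Sylow subgroup of the fixed points. -/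
theorem card_inf_centralizer {u : G} (hu : orderOf u = 2) {K : Subgroup G} (hK : Odd (Nat.card K))
    (huK : u ∈ Subgroup.normalizer (K : Set G)) {P : Subgroup G} (hP : SylIn p P K)
    (huP : u ∈ Subgroup.normalizer (P : Set G)) :
    Nat.card ↥(P ⊓ Subgroup.centralizer {u}) =
      p ^ (Nat.card ↥(K ⊓ Subgroup.centralizer {u})).factorization p := by
  have hA : Subgroup.zpowers u ≤ Subgroup.normalizer (K : Set G) := Subgroup.zpowers_le.2 huK
  have hco : (Nat.card (Subgroup.zpowers u)).Coprime (Nat.card K) := by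
    rw [Nat.card_zpowers, hu]; exact hK.coprime_two_left
  have hsol : Group.IsSolvable (Subgroup.zpowers u) ∨ Group.IsSolvable K := Or.inr (odd_solvable hK)
  obtain ⟨R, hR⟩ := Solv.exists_isSylIn (G := G) p (K ⊓ Subgroup.centralizer {u})
  have hRC : R ≤ Subgroup.centralizer ({u} : Set G) := hR.1.trans inf_le_right
  have hcu : Subgroup.centralizer ({u} : Set G) ≤ Subgroup.centralizer (Subgroup.zpowers u : Set G) := by
    intro r hr
    rw [Subgroup.mem_centralizer_iff]
    rintro a ⟨k, rfl⟩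
    exact (Commute.zpow_left (Subgroup.mem_centralizer_singleton_iff.1 hr).symm k).eq
  have huc' : Subgroup.centralizer (Subgroup.zpowers u : Set G) ≤ Subgroup.centralizer ({u} : Set G) :=
    fun r hr => Subgroup.mem_centralizer_singleton_iff.2
      (Subgroup.mem_centralizer_iff.1 hr u (Subgroup.mem_zpowers u)).symm
  obtain ⟨P₂, hP₂, hRP₂, huP₂⟩ := Solv.exists_invariant_sylow_ge hA hco hsol R (hR.1.trans inf_le_left)
    hR.isPGroup (Subgroup.zpowers_le.2 (Fusion.mem_normalizer_iff_cj.2 (by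
      refine le_antisymm (fun x hx => ?_) fun x hx => ?_
      · obtain ⟨r, hr, rfl⟩ := hx
        show u * r * u⁻¹ ∈ R
        rwa [← Subgroup.mem_centralizer_singleton_iff.1 (hRC hr), mul_inv_cancel_right]
      · exact ⟨x, hx, show u * x * u⁻¹ = x by
          rw [← Subgroup.mem_centralizer_singleton_iff.1 (hRC hx), mul_inv_cancel_right]⟩)))
  have h2 : P₂ ⊓ Subgroup.centralizer {u} = R := (hR.eq_of_le (hP₂.isPGroup.to_le inf_le_left)
    (inf_le_inf_right _ hP₂.1) (le_inf hRP₂ hRC)).symm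
  obtain ⟨c, hc, hcP⟩ := Solv.invariant_sylow_conj hA hco hsol hP₂ (isSylIn_iff.2 hP) huP₂
    (Subgroup.zpowers_le.2 huP)
  have hcu2 : c ∈ Subgroup.centralizer ({u} : Set G) := huc' hc.2
  have e : cj (P₂ ⊓ Subgroup.centralizer {u}) c = P ⊓ Subgroup.centralizer {u} := by
    rw [Fusion.cj_inf, ← hcP]
    congr 1
    exact Fusion.cj_eq_self_of_mem hcu2
  rw [← e, Fusion.card_cj, h2]
  exact hR.2

variable (hse : Cfsg.IsStronglyEmbedded H)
include hse

/-- The number of inverted elements of an invariant Sylow subgroup is the `p`-part of `m`. -/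
theorem card_inverted {u : G} (hu : orderOf u = 2) {c a : G ⧸ H} (huc : u • c = c) (hca : a ≠ c)
    {P : Subgroup G} (hP : SylIn p P (St2 a (u • a))) (huP : u ∈ Subgroup.normalizer (P : Set G)) :
    Nat.card (Cfsg.invertedBy P u) = p ^ (numInv (St c)).factorization p := by
  have hD := St2_odd hse (ne_of_move hse hu huc hca).symm
  have hdec := (S1124.result u hu P (Odd.of_dvd_nat hD (Subgroup.card_dvd_of_le hP.le))
    (fun x hx => Solv.conj_mem_of_mem_normalizer huP hx)).2.1
  rw [card_inf_centralizer hu hD (normalizes_pair rfl (smul_smul_self hu a)) hP huP,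
    (inf_centralizer_pair hse hu huc a).1, (isSylIn_iff.2 hP).2, card_pair hse hu huc hca] at hdec
  have hm : numInv (St c) ≠ 0 := (numInv_odd hse c).pos.ne'
  rw [Nat.factorization_mul hm Nat.card_pos.ne', Finsupp.add_apply, pow_add,
    mul_comm (p ^ (Nat.factorization _) p) (Nat.card _)] at hdec
  exact (Nat.eq_of_mul_eq_mul_right (pow_pos hp.out.pos _) hdec).symm

namespace Tri

variable (t : Tri H p)

omit hse hp in
theorem P_le_a : t.P ≤ St t.a := t.hP.le.trans inf_le_left

theorem odd_D : Odd (Nat.card ↥(St2 t.a (t.u • t.a))) :=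
  St2_odd hse (ne_of_move hse t.hu t.huc t.hca).symm

theorem odd_side : Odd (Nat.card ↥(St2 t.c t.a)) := St2_odd hse t.hca.symm

theorem odd_P : Odd (Nat.card t.P) :=
  Odd.of_dvd_nat (t.odd_D hse) (Subgroup.card_dvd_of_le t.hP.le)

theorem sylIn_side : SylIn p t.P (St2 t.c t.a) := by
  refine isSylIn_iff.1 ⟨le_inf t.hPc t.P_le_a, ?_⟩
  rw [(isSylIn_iff.2 t.hP).2, card_pair hse t.hu t.huc t.hca, card_side hse t.hu t.huc t.hca]

/-- `Y = [P,u]`. -/
abbrev Y : Subgroup G := cm t.P t.u

omit hse hp in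
theorem Y_le : t.Y ≤ t.P :=
  (Solv.commutator_normal_in (Subgroup.zpowers_le.2 t.huP)).1

omit hse hp in
theorem u_mem_normalizer_Y : t.u ∈ Subgroup.normalizer (t.Y : Set G) :=
  (Solv.commutator_normal_in (Subgroup.zpowers_le.2 t.huP)).2.2 (Subgroup.mem_zpowers _)

theorem Y_comm : ⁅t.Y, Subgroup.zpowers t.u⁆ = t.Y :=
  Solv.commutator_commutator_eq (Subgroup.zpowers_le.2 t.huP) (zpowers_coprime hse t.hu (t.odd_P hse))
    (Or.inr (odd_solvable (t.odd_P hse)))

theorem Y_ne_bot (hpm : p ∣ numInv (St t.c)) : t.Y ≠ ⊥ := by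
  intro h
  have h1 := card_inverted hse t.hu t.huc t.hca t.hP t.huP
  have h2 : Cfsg.invertedBy t.P t.u ⊆ {1} := fun x hx =>
    Subgroup.mem_bot.1 (h ▸ inverted_mem_cm (t.odd_P hse) hx)
  have h3 : Nat.card (Cfsg.invertedBy t.P t.u) ≤ 1 := by
    rw [Nat.card_coe_set_eq]
    exact (Set.ncard_le_ncard h2).trans (Set.ncard_singleton _).le
  have h4 := hp.out.factorization_pos_of_dvd (numInv_odd hse t.c).pos.ne' hpm
  have := Nat.one_lt_pow h4.ne' hp.out.one_lt
  omega

theorem u_not_mem_centralizer (hY : t.Y ≠ ⊥) : t.u ∉ Subgroup.centralizer (t.Y : Set G) := by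
  intro h
  refine hY ?_
  rw [← t.Y_comm hse]
  exact Subgroup.commutator_eq_bot_iff_le_centralizer.2 fun y hy => Subgroup.mem_centralizer_iff.2
    fun a ⟨k, hk⟩ => hk ▸ (Commute.zpow_left (Subgroup.mem_centralizer_iff.1 h y hy).symm k).eq

/-- Elements of `C(Y)` fixing the pair fix the centre. -/
def Good : Prop :=
  ∀ x ∈ Subgroup.centralizer (t.Y : Set G), x • t.a = t.a → x • t.u • t.a = t.u • t.a → x • t.c = t.c

/-- `O_{p'}` of the opposite pair. -/
abbrev K : Subgroup G := pcoreIn p (St2 t.a (t.u • t.a))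

/-- `O_{p'}` of the side pair. -/
abbrev Ks : Subgroup G := pcoreIn p (St2 t.c t.a)

theorem K_le_Ks (hp2 : p ≠ 2) (hgood : t.Good) : t.K ≤ t.Ks := by
  have hle := pcoreIn_le (p := p) (St2 t.a (t.u • t.a))
  have hodd := Odd.of_dvd_nat (t.odd_D hse) (Subgroup.card_dvd_of_le hle)
  have hPK : t.P ≤ Subgroup.normalizer (t.K : Set G) := t.hP.le.trans (le_normalizer_pcoreIn _)
  have hcop : (Nat.card t.Y).Coprime (Nat.card t.K) := by
    obtain ⟨k, hk⟩ := IsPGroup.iff_card.1 (t.hP.isPGroup.to_le t.Y_le)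
    rw [hk]
    exact ((card_pcoreIn_coprime _).symm.pow_left k)
  have hKc : t.K ≤ St t.c := by
    refine le_of_fixed_parts t.hu t.u_mem_normalizer_Y (t.Y_comm hse) t.huc (t.Y_le.trans t.hPc) t.K
      (odd_solvable hodd) hodd (normalizer_le_pcoreIn _ (normalizes_pair rfl (smul_smul_self t.hu _)))
      (t.Y_le.trans hPK) hcop ?_ ?_
    · intro y hy
      refine inf_le_right.trans (centralizer_le_St hse (conj_involution t.hu y) ?_)
      have hyc : y • t.c = t.c := (t.Y_le.trans t.hPc) hy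
      rw [mul_smul, mul_smul, show y⁻¹ • t.c = t.c from inv_smul_eq_iff.2 hyc.symm, t.huc, hyc]
    · rintro x ⟨hxK, hxC⟩
      exact hgood x hxC (hle hxK).1 (hle hxK).2
  exact le_pcoreIn (odd_solvable (t.odd_side hse)) hp2 (t.sylIn_side hse)
    (le_inf hKc (hle.trans inf_le_left)) (card_pcoreIn_coprime _) hPK

end Tri

end Cfsg.Agent.SEB
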