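import Cfsg.Agent.Lib.Bender.TorusSemilinear
import Cfsg.Agent.Lib.Bender.TorusTransitive
import Cfsg.Agent.Lib.Fusion.BurnsideFusion
import Cfsg.Agent.Lib.Char.GaloisDegrees

/-!
# An element centralising the involutions at one fixed point centralises those at every fixed point

At a prime `r ∣ m` a central element of a Sylow `r`-subgroup which centralises the involutions at one
of its two fixed cosets and none at the other would be conjugate, by Burnside's lemma, to one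
centralising none at either.
-/

set_option autoImplicit false
set_option linter.style.haveILetI false
set_option linter.unusedSectionVars false

open scoped Pointwise

namespace Cfsg.Agent.SEB

open Cfsg
open Cfsg.Agent.Fusion (SylIn cj)
open Cfsg.Agent.Fusion.SEPairs

universe u

variable {G : Type u} [Group G] [Finite G] {H : Subgroup G} (hse : Cfsg.IsStronglyEmbedded H)
include hse

/-- One centralised involution at the second point forces all of them. -/
theorem mem_Kc_of_fix_one {c a : G ⧸ H} (hca : a ≠ c) {z : G} (hz : z ∈ Kc c) (hza : z • a = a)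
    {s : G} (hs : orderOf s = 2) (hsa : s • a = a) (hzs : Commute z s) : z ∈ Kc a := by
  set M := Subgroup.centralizer ({z} : Set G)
  have hmemM : ∀ {g : G}, Commute z g → g ∈ M := fun h => Subgroup.mem_centralizer_singleton_iff.2 h.eq.symm
  obtain ⟨t, ht, htc⟩ := exists_invol hse c
  have hI : ∀ {g : G}, orderOf g = 2 → g • c = c → g ∈ M := fun hg hgc => hmemM ((mem_Kc.1 hz).2 _ hg hgc)
  have hmove : ∃ g ∈ M, g • c ≠ c := ⟨s, hmemM hzs, fun h => hca (fixed_unique hse hs hsa h)⟩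
  obtain ⟨g, hg, hgt⟩ := conj_in hse ht htc (hI ht htc) hmove hs (hmemM hzs)
  have hgc : g • c = a :=
    fixed_unique hse hs (by rw [← hgt, mul_smul, mul_smul, inv_smul_smul, htc]) hsa
  refine mem_Kc.2 ⟨hza, fun s' hs' hs'a => ?_⟩
  have h' : g⁻¹ * s' * g⁻¹⁻¹ ∈ M := hI (conj_involution hs' g⁻¹)
    (by rw [inv_inv, mul_smul, mul_smul, hgc, hs'a, ← hgc, inv_smul_smul])
  rw [inv_inv] at h'
  have h'' := mul_mem (mul_mem hg h') (inv_mem hg)
  rw [show g * (g⁻¹ * s' * g) * g⁻¹ = s' by group] at h''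
  exact (Subgroup.mem_centralizer_singleton_iff.1 h'').symm

/-- A subgroup containing the involutions at a point has at least two classes of them. -/
theorem mbar_sub_ne_one {c : G ⧸ H} (hm : mbar ↥H ≠ 1) {M : Subgroup G}
    (hI : ∀ s, orderOf s = 2 → s • c = c → s ∈ M) : mbar ↥((St c).subgroupOf M) ≠ 1 := by
  have hall : ∀ s : ↥(St c), orderOf s = 2 → s ∈ M.subgroupOf (St c) := fun s hs =>
    hI (s : G) (by rw [Subgroup.orderOf_coe]; exact hs) s.2
  let e : ↥(M.subgroupOf (St c)) ≃* ↥((St c).subgroupOf M) :=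
    { toFun := fun m => ⟨⟨(m : ↥(St c)), m.2⟩, (m : ↥(St c)).2⟩
      invFun := fun m => ⟨⟨(m : ↥M), m.2⟩, (m : ↥M).2⟩
      left_inv := fun _ => rfl
      right_inv := fun _ => rfl
      map_mul' := fun _ _ => rfl }
  rw [← mbar_congr e, mbar_subgroup _ hall, mbar_St_base hse]
  exact hm

theorem sub_solvable (hsol : Group.IsSolvable H) (c : G ⧸ H) (M : Subgroup G) :
    Group.IsSolvable ↥((St c).subgroupOf M) := by
  haveI := St_solvable hsol c
  exact Group.isSolvable_of_isSolvable_injective (f :=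
    ({ toFun := fun m => ⟨(m : ↥M), m.2⟩, map_one' := rfl, map_mul' := fun _ _ => rfl } :
      ↥((St c).subgroupOf M) →* ↥(St c)))
    (fun x y h => Subtype.ext (Subtype.ext (congrArg (fun w : ↥(St c) => (w : G)) h)))

variable (hsol : Group.IsSolvable H) (hm : mbar ↥H ≠ 1) (hN : H.normalCore = ⊥)
  (IH : ∀ M : Subgroup G, M ≠ ⊤ → Claim ↥M)
include hsol hm hN IH

/-- An element of `H ∩ H^g` centralising the involutions at one point centralises those at the other. -/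
theorem mem_Kc_of_mem {c a : G ⧸ H} (hca : a ≠ c) {z : G} (hz : z ∈ Kc c) (hza : z • a = a) : z ∈ Kc a := by
  classical
  set A := Kc c ⊓ St a with hA
  suffices hAle : A ≤ Kc a from hAle ⟨hz, hza⟩
  set D := St2 c a with hD
  have hconj : ∀ d ∈ D, ∀ x, x ∈ A → d * x * d⁻¹ ∈ A := fun d hd x hx =>
    ⟨Solv.conj_mem_of_mem_normalizer (St_le_normalizer_Kc c hd.1) hx.1,
      (St a).mul_mem ((St a).mul_mem hd.2 hx.2) ((St a).inv_mem hd.2)⟩
  -- it suffices to treat prime power orders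
  refine Subgroup.subgroupOf_eq_top.1 (Subgroup.eq_top_of_le_card _ (Nat.le_of_dvd Nat.card_pos ?_))
  refine (Nat.dvd_iff_prime_pow_dvd_dvd _ _).2 fun r j hr hrj => ?_
  haveI : Fact r.Prime := ⟨hr⟩
  obtain ⟨R'⟩ : Nonempty (Sylow r ↥A) := inferInstance
  refine (R'.pow_dvd_card_of_pow_dvd_card hrj).trans (Subgroup.card_dvd_of_le fun y hy => ?_)
  refine Subgroup.mem_subgroupOf.2 ?_
  obtain ⟨x, hxdef⟩ : ∃ x, x = (y : G) := ⟨_, rfl⟩
  have hxA : x ∈ A := hxdef ▸ y.2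
  rw [← hxdef]
  set R := (R' : Subgroup ↥A).map A.subtype
  have hxR : x ∈ R := ⟨y, hy, hxdef.symm⟩
  have hRA : R ≤ A := Subgroup.map_subtype_le _
  have hRp : IsPGroup r R := R'.isPGroup'.map _
  by_cases hrm : ¬ r ∣ Bender.numInv H
  · set S := {s : G // orderOf s = 2 ∧ s • a = a}
    letI : MulAction R S :=
      { smul := fun w s => ⟨(w : G) * s.1 * (w : G)⁻¹, smul_involSet (hRA w.2).2 s.2⟩
        one_smul := fun s => Subtype.ext (by show (1 : G) * s.1 * (1 : G)⁻¹ = s.1; group)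
        mul_smul := fun w v s => Subtype.ext (by
          show (w : G) * v * s.1 * ((w : G) * v)⁻¹ = w * (v * s.1 * (v : G)⁻¹) * (w : G)⁻¹; group) }
    obtain ⟨s, hs⟩ := hRp.nonempty_fixed_point_of_prime_not_dvd_card S (by rwa [Bender.card_fixing a])
    exact mem_Kc_of_fix_one hse hca hxA.1 hxA.2 s.2.1 s.2.2
      (mul_inv_eq_iff_eq_mul.1 (congrArg Subtype.val (hs ⟨x, hxR⟩)))
  push Not at hrm
  by_contra hxa
  -- a Sylow subgroup of `D` with two fixed points meets the bad part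
  obtain ⟨P, hP, hPfix⟩ := exists_sylow_pair hse hsol hm hN IH hrm hca
  have hPa : P ≤ St a := by
    have h : a ∈ Bender.fixSet H P := hPfix ▸ Or.inr rfl
    exact h
  have hPD : P ≤ D := le_inf hP.1 hPa
  have hPsylD : Solv.IsSylIn r P D := Bender.syl_pair hP hPD
  obtain ⟨d, hdD, hdle⟩ := (isSylIn_iff.1 hPsylD).conj_le hRp (hRA.trans (inf_le_inf_right _ (Kc_le c)))
  set z₀ := d * x * d⁻¹
  have hz₀P : z₀ ∈ P := hdle ⟨x, hxR, rfl⟩
  have hz₀A : z₀ ∈ A := hconj d hdD x hxA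
  have hz₀a : z₀ ∉ Kc a := fun h => hxa (by
    have := Solv.conj_mem_of_mem_normalizer (inv_mem (St_le_normalizer_Kc a hdD.2)) h
    simpa [z₀, mul_assoc] using this)
  -- the part of `P` centralising both sets is trivial
  set R₀ := P ⊓ (Kc c ⊓ Kc a) with hR₀
  have hR₀n : P ≤ Subgroup.normalizer (R₀ : Set G) := fun k hk => by
    refine Fusion.mem_normalizer_of_cj_le ?_
    rintro _ ⟨w, hw, rfl⟩
    exact ⟨P.mul_mem (P.mul_mem hk hw.1) (P.inv_mem hk),
      Solv.conj_mem_of_mem_normalizer (St_le_normalizer_Kc c (hP.1 hk)) hw.2.1,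
      Solv.conj_mem_of_mem_normalizer (St_le_normalizer_Kc a (hPa hk)) hw.2.2⟩
  have hR₀bot : R₀ = ⊥ := by
    by_contra hne
    haveI : (R₀.subgroupOf P).Normal := Subgroup.normal_subgroupOf_of_le_normalizer hR₀n
    haveI := Fintype.ofFinite ↥P
    obtain ⟨⟨y₀, hy₀⟩, hy₀1'⟩ := Subgroup.ne_bot_iff_exists_ne_one.1
      (Char.GalDeg.inf_center_ne_bot hP.isPGroup (R₀.subgroupOf P) fun h => hne (by
        have := Subgroup.map_subgroupOf_eq_of_le (inf_le_left : R₀ ≤ P)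
        rw [h, Subgroup.map_bot] at this
        exact this.symm))
    have hy₀1 : y₀ ≠ 1 := fun e => hy₀1' (Subtype.ext e)
    have hy₀c : ((y₀ : G) ∈ Kc c ∧ (y₀ : G) ∈ Kc a) := (Subgroup.mem_subgroupOf.1 hy₀.1).2
    set M := Subgroup.centralizer ({(y₀ : G)} : Set G)
    have hmemM : ∀ {g : G}, Commute (y₀ : G) g → g ∈ M := fun h =>
      Subgroup.mem_centralizer_singleton_iff.2 h.eq.symm
    have hIc : ∀ s, orderOf s = 2 → s • c = c → s ∈ M := fun s hs hsc => hmemM ((mem_Kc.1 hy₀c.1).2 s hs hsc)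
    have hIa : ∀ s, orderOf s = 2 → s • a = a → s ∈ M := fun s hs hsa => hmemM ((mem_Kc.1 hy₀c.2).2 s hs hsa)
    have hz₀M : z₀ ∈ M := hmemM (congrArg Subtype.val (Subgroup.mem_center_iff.1 hy₀.2 ⟨z₀, hz₀P⟩)).symm
    have hMtop : M ≠ ⊤ := fun h => hy₀1 (Subtype.ext (eq_one_of_fix hse hN fun w => by
      obtain ⟨g, rfl⟩ := exists_smul_eq' c w
      have hg : g ∈ M := h ▸ Subgroup.mem_top g
      rw [smul_smul, ← Subgroup.mem_centralizer_singleton_iff.1 hg, ← smul_smul, (mem_Kc.1 hy₀c.1).1]))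
    obtain ⟨t, ht, htc⟩ := exists_invol hse c
    obtain ⟨s, hs, hsa⟩ := exists_invol hse a
    have hmove : ∃ g ∈ M, g • c ≠ c := ⟨s, hIa s hs hsa, fun h => hca (fixed_unique hse hs hsa h)⟩
    obtain ⟨-, hcent⟩ := IH M hMtop _ (se_sub hse ht htc (hIc t ht htc) hmove) (sub_solvable hse hsol c M)
      (mbar_sub_ne_one hse hm hIc)
    obtain ⟨g, hg, hgt⟩ := conj_in hse ht htc (hIc t ht htc) hmove hs (hIa s hs hsa)
    have hgc : g • c = a :=
      fixed_unique hse hs (by rw [← hgt, mul_smul, mul_smul, inv_smul_smul, htc]) hsa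
    refine hz₀a (mem_Kc.2 ⟨hz₀A.2, fun s' hs' hs'a => ?_⟩)
    set HM := (St c).subgroupOf M
    have hfix : ∀ (m : ↥M), m • (QuotientGroup.mk 1 : ↥M ⧸ HM) = QuotientGroup.mk 1 ↔ (m : G) • c = c :=
      fun m => by rw [smul_mk_eq_iff, inv_one, one_mul, mul_one]; exact Iff.rfl
    have hfix' : ∀ (m : ↥M), m • (QuotientGroup.mk (⟨g, hg⟩ : ↥M) : ↥M ⧸ HM) = QuotientGroup.mk ⟨g, hg⟩ ↔
        (m : G) • a = a := fun m => by
      rw [smul_mk_eq_iff, ← hgc]
      show (g⁻¹ * (m : G) * g) • c = c ↔ _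
      rw [mul_smul, mul_smul, inv_smul_eq_iff]
    have hord : ∀ (m : ↥M), orderOf m = 2 → orderOf (m : G) = 2 := fun m hm2 =>
      (Subgroup.orderOf_coe m).trans hm2
    have h := hcent (QuotientGroup.mk 1) (QuotientGroup.mk ⟨g, hg⟩) ⟨z₀, hz₀M⟩
      (fun p q hp2 hq2 hpc hqc => Subtype.ext (commute_invol hse hsol hm hN IH (hord p hp2) (hord q hq2)
        ((hfix p).1 hpc) ((hfix q).1 hqc)).eq)
      (fun e => hca (by
        have h1 := (hfix' ⟨s, hIa s hs hsa⟩).2 hsa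
        rw [e] at h1
        exact (fixed_unique hse hs hsa ((hfix _).1 h1))))
      ((hfix _).2 (Kc_le c hz₀A.1)) ((hfix' _).2 hz₀A.2)
      (fun m hm2 hmc => Subtype.ext ((mem_Kc.1 hz₀A.1).2 _ (hord m hm2) ((hfix m).1 hmc)).eq)
      ⟨s', hIa s' hs' hs'a⟩ (by rw [Subgroup.orderOf_mk]; exact hs') ((hfix' _).2 hs'a)
    exact congrArg Subtype.val h.eq
  -- a central element of order `r` in the bad part
  set R₁ := P ⊓ Kc c with hR₁
  haveI : (R₁.subgroupOf P).Normal := Subgroup.normal_subgroupOf_of_le_normalizer fun k hk => by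
    refine Fusion.mem_normalizer_of_cj_le ?_
    rintro _ ⟨w, hw, rfl⟩
    exact ⟨P.mul_mem (P.mul_mem hk hw.1) (P.inv_mem hk),
      Solv.conj_mem_of_mem_normalizer (St_le_normalizer_Kc c (hP.1 hk)) hw.2⟩
  set Z := R₁.subgroupOf P ⊓ Subgroup.center ↥P with hZ
  haveI := Fintype.ofFinite ↥P
  have hZne : Z ≠ ⊥ := Char.GalDeg.inf_center_ne_bot hP.isPGroup _ fun h => by
    have h0 : (⟨z₀, hz₀P⟩ : P) ∈ R₁.subgroupOf P := ⟨hz₀P, hz₀A.1⟩
    rw [h, Subgroup.mem_bot] at h0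
    exact hz₀a (by rw [show z₀ = 1 from congrArg Subtype.val h0]; exact one_mem _)
  obtain ⟨⟨z₁, hz₁Z⟩, hz₁o⟩ := exists_prime_orderOf_dvd_card' (G := Z) r
    ((hP.isPGroup.to_subgroup Z).card_eq_or_dvd.resolve_left fun h => hZne (Subgroup.card_eq_one.1 h))
  rw [Subgroup.orderOf_mk] at hz₁o
  set w := (z₁ : G) with hwdef
  have hwo : orderOf w = r := (Subgroup.orderOf_coe z₁).trans hz₁o
  have hwK : w ∈ Kc c := (Subgroup.mem_subgroupOf.1 hz₁Z.1).2
  have hwa : w • a = a := hPa z₁.2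
  have hwcent : ∀ k ∈ P, k * w = w * k := fun k hk =>
    congrArg Subtype.val (Subgroup.mem_center_iff.1 hz₁Z.2 ⟨k, hk⟩)
  have hwfree : ∀ s, orderOf s = 2 → s • a = a → ¬ Commute w s := fun s hs hsa h => by
    have hmem : w ∈ R₀ := ⟨z₁.2, hwK, mem_Kc_of_fix_one hse hca hwK hwa hs hsa h⟩
    rw [hR₀bot, Subgroup.mem_bot] at hmem
    rw [hmem, orderOf_one] at hwo
    exact (Fact.out : r.Prime).one_lt.ne hwo
  obtain ⟨t, ht, htc⟩ := exists_invol hse c
  have hwt : Commute w t := (mem_Kc.1 hwK).2 t ht htc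
  set b := t • a with hb
  have hbfree : ∀ s, orderOf s = 2 → s • b = b → ¬ Commute w s := fun s hs hsb h => by
    refine hwfree (t * s * t⁻¹) (conj_involution hs t) ?_ ((hwt.mul_right h).mul_right hwt.inv_right)
    rw [inv_self ht, mul_smul, mul_smul, ← hb, hsb, hb, smul_smul_self ht]
  have hab : b ≠ a := fun h => hca (fixed_unique hse ht h htc)
  -- move `(a, b)` to `(c, a)`
  obtain ⟨g₀, hg₀⟩ := exists_smul_eq' a c
  obtain ⟨k, hk, hkb⟩ := St_transitive hse hm (x := g₀ • b) (c := c)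
    (fun h => hab (smul_left_cancel g₀ (h.trans hg₀.symm))) hca
  set g := k * g₀
  have hga : g • a = c := by rw [mul_smul, hg₀]; exact hk
  have hgb : g • b = a := by rw [mul_smul, hkb]
  set w₁ := g * w * g⁻¹ with hw₁def
  have hmove : ∀ {q e : G ⧸ H}, w • q = q → g • q = e → w₁ • e = e := fun {q e} h he => by
    rw [← he, hw₁def, mul_smul, mul_smul, inv_smul_smul, h]
  have hwb : w • b = b := by rw [hb, smul_smul, hwt.eq, ← smul_smul, hwa]
  have hw₁D : w₁ ∈ D := ⟨hmove hwa hga, hmove hwb hgb⟩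
  have hfreeat : ∀ {q e : G ⧸ H}, (∀ s, orderOf s = 2 → s • q = q → ¬ Commute w s) → g • q = e →
      ∀ s, orderOf s = 2 → s • e = e → ¬ Commute w₁ s := by
    intro q e hq he s hs hse' h
    refine hq (g⁻¹ * s * g⁻¹⁻¹) (conj_involution hs g⁻¹) ?_ ?_
    · rw [inv_inv, mul_smul, mul_smul, he, hse', ← he, inv_smul_smul]
    · have h1 : g⁻¹ * (w₁ * s) * g = g⁻¹ * (s * w₁) * g := by rw [h.eq]
      show w * (g⁻¹ * s * g⁻¹⁻¹) = g⁻¹ * s * g⁻¹⁻¹ * w
      calc w * (g⁻¹ * s * g⁻¹⁻¹) = g⁻¹ * (w₁ * s) * g := by rw [hw₁def]; group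
        _ = g⁻¹ * (s * w₁) * g := h1
        _ = _ := by rw [hw₁def]; group
  have hw₁o : orderOf w₁ = r := by
    rw [hw₁def, show g * w * g⁻¹ = (MulAut.conj g).toMonoidHom w from rfl,
      orderOf_injective _ (MulAut.conj g).injective, hwo]
  obtain ⟨d', hd'D, hd'le⟩ := (isSylIn_iff.1 hPsylD).conj_le
    (Q := Subgroup.zpowers w₁) (IsPGroup.of_card (n := 1) (by rw [Nat.card_zpowers, hw₁o, pow_one]))
    (Subgroup.zpowers_le.2 hw₁D)
  set w₂ := d' * w₁ * d'⁻¹ with hw₂def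
  have hw₂P : w₂ ∈ P := hd'le ⟨w₁, Subgroup.mem_zpowers w₁, rfl⟩
  have hw₂r : w₂ ^ r = 1 := by rw [hw₂def, conj_pow, ← hw₁o, pow_orderOf_eq_one, mul_one, mul_inv_cancel]
  have hw₂free : ∀ e, (e = c ∨ e = a) → ∀ s, orderOf s = 2 → s • e = e → ¬ Commute w₂ s := by
    intro e he s hs hse' h
    have hd'e : d' • e = e := by rcases he with rfl | rfl; exacts [hd'D.1, hd'D.2]
    have h2 := smul_involSet (inv_smul_eq_iff.2 hd'e.symm) ⟨hs, hse'⟩
    have h3 : Commute w₁ (d'⁻¹ * s * d'⁻¹⁻¹) := by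
      show w₁ * (d'⁻¹ * s * d'⁻¹⁻¹) = d'⁻¹ * s * d'⁻¹⁻¹ * w₁
      calc w₁ * (d'⁻¹ * s * d'⁻¹⁻¹) = d'⁻¹ * (w₂ * s) * d' := by rw [hw₂def]; group
        _ = d'⁻¹ * (s * w₂) * d' := by rw [h.eq]
        _ = _ := by rw [hw₂def]; group
    rcases he with rfl | rfl
    · exact hfreeat hwfree hga _ h2.1 h2.2 h3
    · exact hfreeat hbfree hgb _ h2.1 h2.2 h3
  -- it is central in `P`
  have hw₂cent : ∀ k ∈ P, w₂ * k = k * w₂ := fun k hk => by
    have h1 := commutator_mem_Kc hse hsol hm hN IH hP.isPGroup hP.1 hw₂P hw₂r (hw₂free c (Or.inl rfl)) hk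
    have h2 := commutator_mem_Kc hse hsol hm hN IH hP.isPGroup hPa hw₂P hw₂r (hw₂free a (Or.inr rfl)) hk
    have hmem : w₂ * k * w₂⁻¹ * k⁻¹ ∈ R₀ :=
      ⟨P.mul_mem (P.mul_mem (P.mul_mem hw₂P hk) (P.inv_mem hw₂P)) (P.inv_mem hk), h1, h2⟩
    rw [hR₀bot, Subgroup.mem_bot, mul_inv_eq_one, mul_inv_eq_iff_eq_mul] at hmem
    exact hmem
  -- Burnside
  have hPtop : SylIn r P ⊤ := by
    refine ⟨le_top, hP.isPGroup, ?_⟩
    rw [← Subgroup.relIndex_mul_relIndex P (St c) ⊤ hP.1 le_top]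
    refine fun hd => ((Fact.out : r.Prime).dvd_mul.1 hd).elim (isSylIn_iff.1 hP).not_dvd ?_
    rw [Subgroup.relIndex_top_right, MulAction.index_stabilizer_of_transitive G c]
    exact Bender.not_dvd_index hse hrm (noInside_all hse hsol hm hN IH hrm)
  set C := Subgroup.centralizer ({w₂} : Set G)
  have hPC : P ≤ C := fun k hk => Subgroup.mem_centralizer_singleton_iff.2 (hw₂cent k hk).symm
  set g' := d' * g with hg'
  have hg'w : g' * w * g'⁻¹ = w₂ := by rw [hg', hw₂def, hw₁def]; group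
  have hgPC : cj P g' ≤ C := by
    rintro _ ⟨k, hk, rfl⟩
    refine Subgroup.mem_centralizer_singleton_iff.2 ?_
    show g' * k * g'⁻¹ * w₂ = w₂ * (g' * k * g'⁻¹)
    rw [← hg'w]
    calc g' * k * g'⁻¹ * (g' * w * g'⁻¹) = g' * (k * w) * g'⁻¹ := by group
      _ = g' * (w * k) * g'⁻¹ := by rw [hwcent k hk]
      _ = _ := by group
  obtain ⟨j', hj', hjle⟩ := (hPtop.mono hPC le_top).conj_le (Fusion.isPGroup_cj hP.isPGroup g') hgPC
  set n := j' * g' with hn
  have hnP : ∀ k ∈ P, n * k * n⁻¹ ∈ P := fun k hk => by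
    refine hjle ⟨g' * k * g'⁻¹, ⟨k, hk, rfl⟩, ?_⟩
    show j' * (g' * k * g'⁻¹) * j'⁻¹ = _
    rw [hn]; group
  have hnN : n ∈ Subgroup.normalizer (P : Set G) := Fusion.mem_normalizer_of_cj_le (by
    rintro _ ⟨k, hk, rfl⟩; exact hnP k hk)
  have hnw : n * w * n⁻¹ = w₂ := by
    rw [hn, show j' * g' * w * (j' * g')⁻¹ = j' * (g' * w * g'⁻¹) * j'⁻¹ by group, hg'w,
      Subgroup.mem_centralizer_singleton_iff.1 hj', mul_inv_cancel_right]
  have hnc : n • c ∈ Bender.fixSet H P := Bender.smul_mem_fixSet hnN hP.1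
  rw [hPfix] at hnc
  obtain ⟨t', ht', ht'c⟩ := exists_invol hse c
  have hcom : Commute w₂ (n * t' * n⁻¹) := by
    have h := (mem_Kc.1 hwK).2 t' ht' ht'c
    rw [← hnw]
    show n * w * n⁻¹ * (n * t' * n⁻¹) = n * t' * n⁻¹ * (n * w * n⁻¹)
    calc n * w * n⁻¹ * (n * t' * n⁻¹) = n * (w * t') * n⁻¹ := by group
      _ = n * (t' * w) * n⁻¹ := by rw [h.eq]
      _ = _ := by group
  have hfixn : (n * t' * n⁻¹) • (n • c) = n • c := by rw [mul_smul, mul_smul, inv_smul_smul, ht'c]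
  rcases hnc with h | h
  · rw [h] at hfixn; exact hw₂free c (Or.inl rfl) _ (conj_involution ht' n) hfixn hcom
  · rw [Set.mem_singleton_iff] at h
    rw [h] at hfixn; exact hw₂free a (Or.inr rfl) _ (conj_involution ht' n) hfixn hcom

end Cfsg.Agent.SEB
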